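import Cfsg.Agent.H8.MaxTS

set_option autoImplicit false

namespace CfsgH8

open QuadraticMap Module Matrix Polynomial

variable {F K V : Type*} [Field F] [Field K] [AddCommGroup V] [Module F V]

lemma quad_ext_span {Q Q' : QuadraticForm F V} {s : Set V} (h1 : ∀ x ∈ s, Q x = Q' x)
    (h2 : ∀ x ∈ s, ∀ y ∈ s, polar Q x y = polar Q' x y) {x : V} (hx : x ∈ Submodule.span F s) :
    Q x = Q' x := by
  have h3 : ∀ x ∈ Submodule.span F s, ∀ y ∈ Submodule.span F s, polar Q x y = polar Q' x y := by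
    intro x hx y hy
    induction hx, hy using Submodule.span_induction₂ with
    | mem_mem a b ha hb => exact h2 a ha b hb
    | zero_left => simp
    | zero_right => simp
    | add_left a b c _ _ _ h h' => rw [polar_add_left, polar_add_left, h, h']
    | add_right a b c _ _ _ h h' => rw [polar_add_right, polar_add_right, h, h']
    | smul_left r a b _ _ h => rw [polar_sl, polar_sl, h]
    | smul_right r a b _ _ h => rw [polar_sr, polar_sr, h]
  induction hx using Submodule.span_induction with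
  | mem y hy => exact h1 y hy
  | zero => simp
  | add y z hy hz hy' hz' => rw [Q_add, Q_add, hy', hz', h3 y hy z hz]
  | smul a y _ hy => rw [Q_smul, Q_smul, hy]

variable {ι : Type} [Fintype ι] [DecidableEq ι]

lemma span_range_comp (φ : F →+* K) :
    Submodule.span K (Set.range fun v : ι → F => (φ ∘ v : ι → K)) = ⊤ := by
  rw [eq_top_iff, ← (Pi.basisFun K ι).span_eq]
  refine Submodule.span_mono ?_
  rintro _ ⟨i, rfl⟩
  refine ⟨Pi.single i 1, ?_⟩
  ext j
  simp [Pi.single_apply]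

lemma quad_ext_comp (φ : F →+* K) {Q Q' : QuadraticForm K (ι → K)}
    (h : ∀ v : ι → F, Q (φ ∘ v) = Q' (φ ∘ v)) (w : ι → K) : Q w = Q' w := by
  refine quad_ext_span (s := Set.range fun v : ι → F => (φ ∘ v : ι → K)) ?_ ?_
    (by rw [span_range_comp]; trivial)
  · rintro _ ⟨v, rfl⟩; exact h v
  · rintro _ ⟨v, rfl⟩ _ ⟨v', rfl⟩
    have : (φ ∘ v + φ ∘ v' : ι → K) = φ ∘ (v + v') := by ext; simp
    simp only [polar, this, h]

lemma map_mulVec_comp (φ : F →+* K) (M : Matrix ι ι F) (v : ι → F) :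
    M.map φ *ᵥ (φ ∘ v) = φ ∘ (M *ᵥ v) := by
  ext i; exact (RingHom.map_mulVec φ M v i).symm

lemma baseChange_sim (φ : F →+* K) {Q : QuadraticForm F (ι → F)} {Q' : QuadraticForm K (ι → K)}
    (h : ∀ v, Q' (φ ∘ v) = φ (Q v)) {M : Matrix ι ι F} {c : F} (hM : ∀ v, Q (M *ᵥ v) = c * Q v)
    (w : ι → K) : Q' (M.map φ *ᵥ w) = φ c * Q' w := by
  refine quad_ext_comp φ (Q := Q'.comp (Matrix.mulVecLin (M.map φ))) (Q' := φ c • Q') (fun v => ?_) w
  simp [map_mulVec_comp, h, hM]

/-- base change of isometries -/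
noncomputable def baseChangeHom (φ : F →+* K) {Q : QuadraticForm F (ι → F)}
    {Q' : QuadraticForm K (ι → K)} {q : (ι → F) → F} {q' : (ι → K) → K} (hq : ⇑Q = q)
    (hq' : ⇑Q' = q') (h : ∀ v, Q' (φ ∘ v) = φ (Q v)) :
    Cfsg.isometryGroup F q →* Cfsg.isometryGroup K q' :=
  ((Matrix.GeneralLinearGroup.map φ).comp (Cfsg.isometryGroup F q).subtype).codRestrict _
    fun g => by
      subst hq hq'
      rw [mem_isometryGroup]
      intro w
      have := baseChange_sim φ h (M := ((g : GL ι F) : Matrix ι ι F)) (c := 1)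
        (by simpa using mem_isometryGroup.1 g.2) w
      rw [_root_.map_one, one_mul] at this
      exact this

lemma baseChangeHom_coe (φ : F →+* K) {Q : QuadraticForm F (ι → F)}
    {Q' : QuadraticForm K (ι → K)} {q : (ι → F) → F} {q' : (ι → K) → K} (hq : ⇑Q = q)
    (hq' : ⇑Q' = q') (h : ∀ v, Q' (φ ∘ v) = φ (Q v)) (g : Cfsg.isometryGroup F q) :
    ((baseChangeHom φ hq hq' h g : GL ι K) : Matrix ι ι K) =
      ((g : GL ι F) : Matrix ι ι F).map φ := rfl

lemma baseChangeHom_injective (φ : F →+* K) {Q : QuadraticForm F (ι → F)}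
    {Q' : QuadraticForm K (ι → K)} {q : (ι → F) → F} {q' : (ι → K) → K} (hq : ⇑Q = q)
    (hq' : ⇑Q' = q') (h : ∀ v, Q' (φ ∘ v) = φ (Q v)) :
    Function.Injective (baseChangeHom φ hq hq' h) := fun g g' hg => by
  have := congrArg (fun x : Cfsg.isometryGroup K q' => ((x : GL ι K) : Matrix ι ι K)) hg
  simp only [baseChangeHom_coe] at this
  exact Subtype.ext (Units.ext (Matrix.map_injective φ.injective this))

lemma QH_comp (φ : F →+* K) {κ : Type*} [Fintype κ] (v : κ ⊕ κ → F) :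
    QH κ K (φ ∘ v) = φ (QH κ F v) := by simp [QH_apply]

lemma QB_comp (φ : F →+* K) (a b : F) (v : Fin 2 → F) :
    QB (φ a) (φ b) (φ ∘ v) = φ (QB a b v) := by simp [QB_apply]

lemma QM_comp (φ : F →+* K) (m : ℕ) (a b : F) (v : (Fin m ⊕ Fin m) ⊕ Fin 2 → F) :
    QM m K (φ a) (φ b) (φ ∘ v) = φ (QM m F a b v) := by
  simp [QM, sumQ_apply, QH_apply, QB_apply]

lemma QO_comp (φ : F →+* K) (m : ℕ) (v : Unit ⊕ (Fin m ⊕ Fin m) → F) :
    QO m K (φ ∘ v) = φ (QO m F v) := by
  simp [QO, sumQ_apply, QH_apply, QU_apply]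

lemma exists_root_of_finrank_two [Finite K] [Algebra F K] (h : finrank F K = 2) (a b : F) :
    ∃ t : K, t ^ 2 + algebraMap F K a * t + algebraMap F K b = 0 := by
  by_cases h0 : ∃ t : F, t ^ 2 + a * t + b = 0
  · obtain ⟨t, ht⟩ := h0
    exact ⟨algebraMap F K t, by simpa using congrArg (algebraMap F K) ht⟩
  let f : F[X] := X ^ 2 + C a * X + C b
  have hdeg : f.natDegree = 2 := by
    simp only [f]; compute_degree!
  have hmon : f.Monic := by
    simp only [f]; monicity!
  have hirr : Irreducible f := by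
    rw [hmon.irreducible_iff_roots_eq_zero_of_degree_le_three (by omega) (by omega),
      Multiset.eq_zero_iff_forall_notMem]
    intro t ht
    rw [mem_roots hmon.ne_zero] at ht
    exact h0 ⟨t, by simpa [f] using ht⟩
  have : Fact (Irreducible f) := ⟨hirr⟩
  obtain ⟨ψ⟩ := FiniteField.nonempty_algHom_of_finrank_dvd (F := F) (K := AdjoinRoot f) (L := K)
    (by rw [(AdjoinRoot.powerBasis hmon.ne_zero).finrank, AdjoinRoot.powerBasis_dim, hdeg, h])
  refine ⟨ψ (AdjoinRoot.root f), ?_⟩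
  have := congrArg ψ (AdjoinRoot.eval₂_root f)
  simpa [f, ← AdjoinRoot.algebraMap_eq] using this

lemma finrank_two_of_card [Fintype F] [Fintype K] [Algebra F K]
    (h : Fintype.card K = Fintype.card F ^ 2) : finrank F K = 2 := by
  have := Module.card_eq_pow_finrank (K := F) (V := K)
  rw [h] at this
  exact (Nat.pow_right_injective Fintype.one_lt_card this).symm

lemma exists_ringHom_of_card [Fintype F] [Fintype K] {n : ℕ} (hn : n ≠ 0)
    (h : Fintype.card K = Fintype.card F ^ n) : Nonempty (F →+* K) := by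
  obtain ⟨p, hp, -, hp', -⟩ := FiniteField.card' F
  have : Fact p.Prime := ⟨hp'⟩
  have : NeZero n := ⟨hn⟩
  have := Fintype.ofFinite (FiniteField.Extension F p n)
  have e : FiniteField.Extension F p n ≃+* K := FiniteField.ringEquivOfCardEq (by
    rw [← Nat.card_eq_fintype_card, FiniteField.natCard_extension, h, Nat.card_eq_fintype_card])
  exact ⟨e.toRingHom.comp (algebraMap F _)⟩

lemma iso_QB_QP_of_root [Finite F] {a b t : F} (hd : 4 * b - a ^ 2 ≠ 0)
    (ht : t ^ 2 + a * t + b = 0) : Iso (QP 1 F) (QB a b) := by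
  obtain ⟨ζ, hζ⟩ := exists_aniso (F := F)
  rcases (ND_QB_of_disc hd).classify_even (m := 1) (by simp) hζ with h | ⟨-, h⟩
  · exact h
  · exfalso
    have h1 : Iso (QB 1 ζ) (QM 0 F 1 ζ) := (sumDec _ _).swap.iso_of_subsingleton
    have := anis_QB_iff.1 ((h1.trans h).anis hζ.anis) t 1 (by simpa using ht)
    exact one_ne_zero this.2

/-- a sum of hyperbolic spaces -/
def QH_sumDec (κ κ' : Type*) [Fintype κ] [Fintype κ'] (F : Type*) [Field F] :
    ODec (QH κ F) (QH κ' F) (QH (κ ⊕ κ') F) where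
  e := (LinearEquiv.sumArrowLequivProdArrow _ _ F F).symm ≪≫ₗ
    LinearEquiv.funCongrLeft F F (Equiv.sumSumSumComm κ κ' κ κ')
  he x y := by simp [QH_apply]

lemma iso_QH_congr {κ κ' : Type*} [Fintype κ] [Fintype κ'] (e : κ ≃ κ') :
    Iso (QH κ F) (QH κ' F) :=
  ⟨LinearEquiv.funCongrLeft F F (Equiv.sumCongr e e).symm, fun v => by
    simp only [QH_apply]
    rw [← e.sum_comp]
    simp⟩

lemma iso_QP_succ (m : ℕ) : Iso (QP (m + 1) F) (sumQ (QP m F) (QP 1 F)) :=
  (iso_QH_congr finSumFinEquiv.symm).trans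
    ((QH_sumDec _ _ F).iso (sumDec _ _) (Iso.refl _) (Iso.refl _))

lemma iso_QM_QP_of_root [Finite F] (m : ℕ) {a b t : F} (hd : 4 * b - a ^ 2 ≠ 0)
    (ht : t ^ 2 + a * t + b = 0) : Iso (QP (m + 1) F) (QM m F a b) :=
  (iso_QP_succ m).trans ((sumDec _ _).iso (sumDec _ _) (Iso.refl _) (iso_QB_QP_of_root hd ht))

lemma iso_QM_QP_ext [Finite F] [Finite K] [Algebra F K] (h : finrank F K = 2) (m : ℕ) {a b : F}
    (hab : Aniso a b) : Iso (QP (m + 1) K) (QM m K (algebraMap F K a) (algebraMap F K b)) := by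
  obtain ⟨t, ht⟩ := exists_root_of_finrank_two h a b
  refine iso_QM_QP_of_root m ?_ ht
  have := (_root_.map_ne_zero (algebraMap F K)).2 hab.disc_ne
  simpa [map_ofNat] using this

end CfsgH8
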