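import Cfsg.Agent.H8.TabD4
import Cfsg.Agent.H8.Chev7
import Cfsg.Agent.H8.Chev6

set_option autoImplicit false
set_option maxRecDepth 100000

namespace CfsgH8

open CfsgH5 Cfsg.Lie

theorem ckD4_0_0 : chunk 12 0 (tabD4.c0 chevD4) = true := by decide +kernel

theorem ckD4_0_1 : chunk 12 1 (tabD4.c0 chevD4) = true := by decide +kernel

theorem ckD4_0 : ∀ r < 24, tabD4.c0 chevD4 r = true :=
  of_chunks 12 2 _ fun a ha => by
    interval_cases a
    exacts [ckD4_0_0, ckD4_0_1]

theorem ckD4_1_0 : chunk 12 0 (tabD4.c1 chevD4) = true := by decide +kernel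

theorem ckD4_1_1 : chunk 12 1 (tabD4.c1 chevD4) = true := by decide +kernel

theorem ckD4_1 : ∀ r < 24, tabD4.c1 chevD4 r = true :=
  of_chunks 12 2 _ fun a ha => by
    interval_cases a
    exacts [ckD4_1_0, ckD4_1_1]

theorem ckD4_6_0 : chunk 12 0 (tabD4.c6 chevD4) = true := by decide +kernel

theorem ckD4_6_1 : chunk 12 1 (tabD4.c6 chevD4) = true := by decide +kernel

theorem ckD4_6 : ∀ r < 24, tabD4.c6 chevD4 r = true :=
  of_chunks 12 2 _ fun a ha => by
    interval_cases a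
    exacts [ckD4_6_0, ckD4_6_1]

theorem ckD4_2_0 : tabD4.c2 chevD4 (tabD4.si 0) = true ∧ tabD4.c2 chevD4 (tabD4.ng (tabD4.si 0)) = true := by
  constructor <;> decide +kernel

theorem ckD4_3_0 : tabD4.c3 chevD4 0 = true := by decide +kernel

theorem ckD4_7_0 : tabD4.c7 chevD4 0 = true := by decide +kernel

theorem ckD4_2_1 : tabD4.c2 chevD4 (tabD4.si 1) = true ∧ tabD4.c2 chevD4 (tabD4.ng (tabD4.si 1)) = true := by
  constructor <;> decide +kernel

theorem ckD4_3_1 : tabD4.c3 chevD4 1 = true := by decide +kernel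

theorem ckD4_7_1 : tabD4.c7 chevD4 1 = true := by decide +kernel

theorem ckD4_2_2 : tabD4.c2 chevD4 (tabD4.si 2) = true ∧ tabD4.c2 chevD4 (tabD4.ng (tabD4.si 2)) = true := by
  constructor <;> decide +kernel

theorem ckD4_3_2 : tabD4.c3 chevD4 2 = true := by decide +kernel

theorem ckD4_7_2 : tabD4.c7 chevD4 2 = true := by decide +kernel

theorem ckD4_2_3 : tabD4.c2 chevD4 (tabD4.si 3) = true ∧ tabD4.c2 chevD4 (tabD4.ng (tabD4.si 3)) = true := by
  constructor <;> decide +kernel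

theorem ckD4_3_3 : tabD4.c3 chevD4 3 = true := by decide +kernel

theorem ckD4_7_3 : tabD4.c7 chevD4 3 = true := by decide +kernel

theorem ckD4_4_0_0 : chunk 12 0 (tabD4.c4 chevD4 0) = true := by decide +kernel

theorem ckD4_4_0_1 : chunk 12 1 (tabD4.c4 chevD4 0) = true := by decide +kernel

theorem ckD4_4_0 : ∀ r < 24, tabD4.c4 chevD4 0 r = true :=
  of_chunks 12 2 _ fun a ha => by
    interval_cases a
    exacts [ckD4_4_0_0, ckD4_4_0_1]

theorem ckD4_4_1_0 : chunk 12 0 (tabD4.c4 chevD4 1) = true := by decide +kernel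

theorem ckD4_4_1_1 : chunk 12 1 (tabD4.c4 chevD4 1) = true := by decide +kernel

theorem ckD4_4_1 : ∀ r < 24, tabD4.c4 chevD4 1 r = true :=
  of_chunks 12 2 _ fun a ha => by
    interval_cases a
    exacts [ckD4_4_1_0, ckD4_4_1_1]

theorem ckD4_4_2_0 : chunk 12 0 (tabD4.c4 chevD4 2) = true := by decide +kernel

theorem ckD4_4_2_1 : chunk 12 1 (tabD4.c4 chevD4 2) = true := by decide +kernel

theorem ckD4_4_2 : ∀ r < 24, tabD4.c4 chevD4 2 r = true :=
  of_chunks 12 2 _ fun a ha => by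
    interval_cases a
    exacts [ckD4_4_2_0, ckD4_4_2_1]

theorem ckD4_4_3_0 : chunk 12 0 (tabD4.c4 chevD4 3) = true := by decide +kernel

theorem ckD4_4_3_1 : chunk 12 1 (tabD4.c4 chevD4 3) = true := by decide +kernel

theorem ckD4_4_3 : ∀ r < 24, tabD4.c4 chevD4 3 r = true :=
  of_chunks 12 2 _ fun a ha => by
    interval_cases a
    exacts [ckD4_4_3_0, ckD4_4_3_1]

theorem ckD4_5_0_0 : chunk 12 0 (tabD4.c5 chevD4 0) = true := by decide +kernel

theorem ckD4_5_0_1 : chunk 12 1 (tabD4.c5 chevD4 0) = true := by decide +kernel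

theorem ckD4_5_0 : ∀ r < 24, tabD4.c5 chevD4 0 r = true :=
  of_chunks 12 2 _ fun a ha => by
    interval_cases a
    exacts [ckD4_5_0_0, ckD4_5_0_1]

theorem okD4 : tabD4.Ok chevD4 where
  hl := rfl
  hn := rfl
  h0 := ckD4_0
  h1 := ckD4_1
  h2 := fun i hi => by
    change i < 4 at hi
    interval_cases i
    exacts [ckD4_2_0, ckD4_2_1, ckD4_2_2, ckD4_2_3]
  h3 := fun i hi => by
    change i < 4 at hi
    interval_cases i
    exacts [ckD4_3_0, ckD4_3_1, ckD4_3_2, ckD4_3_3]
  h4 := fun i hi => by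
    change i < 4 at hi
    interval_cases i
    exacts [ckD4_4_0, ckD4_4_1, ckD4_4_2, ckD4_4_3]
  h5 := fun i hi => by
    change i < 4 at hi
    interval_cases i
    exacts [fun _ => ckD4_5_0, fun h => absurd h (by decide +kernel), fun h => absurd h (by decide +kernel), fun h => absurd h (by decide +kernel)]
  h6 := ckD4_6
  h7 := fun i hi => by
    change i < 4 at hi
    interval_cases i
    exacts [ckD4_7_0, ckD4_7_1, ckD4_7_2, ckD4_7_3]

end CfsgH8
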