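import Cfsg.Agent.H8.TabE6
import Cfsg.Agent.H8.Chev7
import Cfsg.Agent.H8.Chev6

set_option autoImplicit false
set_option maxRecDepth 100000

namespace CfsgH8

open CfsgH5 Cfsg.Lie

theorem ckE6_0_0 : chunk 12 0 (tabE6.c0 chevE6) = true := by decide +kernel

theorem ckE6_0_1 : chunk 12 1 (tabE6.c0 chevE6) = true := by decide +kernel

theorem ckE6_0_2 : chunk 12 2 (tabE6.c0 chevE6) = true := by decide +kernel

theorem ckE6_0_3 : chunk 12 3 (tabE6.c0 chevE6) = true := by decide +kernel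

theorem ckE6_0_4 : chunk 12 4 (tabE6.c0 chevE6) = true := by decide +kernel

theorem ckE6_0_5 : chunk 12 5 (tabE6.c0 chevE6) = true := by decide +kernel

theorem ckE6_0 : ∀ r < 72, tabE6.c0 chevE6 r = true :=
  of_chunks 12 6 _ fun a ha => by
    interval_cases a
    exacts [ckE6_0_0, ckE6_0_1, ckE6_0_2, ckE6_0_3, ckE6_0_4, ckE6_0_5]

theorem ckE6_1_0 : chunk 12 0 (tabE6.c1 chevE6) = true := by decide +kernel

theorem ckE6_1_1 : chunk 12 1 (tabE6.c1 chevE6) = true := by decide +kernel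

theorem ckE6_1_2 : chunk 12 2 (tabE6.c1 chevE6) = true := by decide +kernel

theorem ckE6_1_3 : chunk 12 3 (tabE6.c1 chevE6) = true := by decide +kernel

theorem ckE6_1_4 : chunk 12 4 (tabE6.c1 chevE6) = true := by decide +kernel

theorem ckE6_1_5 : chunk 12 5 (tabE6.c1 chevE6) = true := by decide +kernel

theorem ckE6_1 : ∀ r < 72, tabE6.c1 chevE6 r = true :=
  of_chunks 12 6 _ fun a ha => by
    interval_cases a
    exacts [ckE6_1_0, ckE6_1_1, ckE6_1_2, ckE6_1_3, ckE6_1_4, ckE6_1_5]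

theorem ckE6_6_0 : chunk 12 0 (tabE6.c6 chevE6) = true := by decide +kernel

theorem ckE6_6_1 : chunk 12 1 (tabE6.c6 chevE6) = true := by decide +kernel

theorem ckE6_6_2 : chunk 12 2 (tabE6.c6 chevE6) = true := by decide +kernel

theorem ckE6_6_3 : chunk 12 3 (tabE6.c6 chevE6) = true := by decide +kernel

theorem ckE6_6_4 : chunk 12 4 (tabE6.c6 chevE6) = true := by decide +kernel

theorem ckE6_6_5 : chunk 12 5 (tabE6.c6 chevE6) = true := by decide +kernel

theorem ckE6_6 : ∀ r < 72, tabE6.c6 chevE6 r = true :=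
  of_chunks 12 6 _ fun a ha => by
    interval_cases a
    exacts [ckE6_6_0, ckE6_6_1, ckE6_6_2, ckE6_6_3, ckE6_6_4, ckE6_6_5]

theorem ckE6_2_0 : tabE6.c2 chevE6 (tabE6.si 0) = true ∧ tabE6.c2 chevE6 (tabE6.ng (tabE6.si 0)) = true := by
  constructor <;> decide +kernel

theorem ckE6_3_0 : tabE6.c3 chevE6 0 = true := by decide +kernel

theorem ckE6_7_0 : tabE6.c7 chevE6 0 = true := by decide +kernel

theorem ckE6_2_1 : tabE6.c2 chevE6 (tabE6.si 1) = true ∧ tabE6.c2 chevE6 (tabE6.ng (tabE6.si 1)) = true := by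
  constructor <;> decide +kernel

theorem ckE6_3_1 : tabE6.c3 chevE6 1 = true := by decide +kernel

theorem ckE6_7_1 : tabE6.c7 chevE6 1 = true := by decide +kernel

theorem ckE6_2_2 : tabE6.c2 chevE6 (tabE6.si 2) = true ∧ tabE6.c2 chevE6 (tabE6.ng (tabE6.si 2)) = true := by
  constructor <;> decide +kernel

theorem ckE6_3_2 : tabE6.c3 chevE6 2 = true := by decide +kernel

theorem ckE6_7_2 : tabE6.c7 chevE6 2 = true := by decide +kernel

theorem ckE6_2_3 : tabE6.c2 chevE6 (tabE6.si 3) = true ∧ tabE6.c2 chevE6 (tabE6.ng (tabE6.si 3)) = true := by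
  constructor <;> decide +kernel

theorem ckE6_3_3 : tabE6.c3 chevE6 3 = true := by decide +kernel

theorem ckE6_7_3 : tabE6.c7 chevE6 3 = true := by decide +kernel

theorem ckE6_2_4 : tabE6.c2 chevE6 (tabE6.si 4) = true ∧ tabE6.c2 chevE6 (tabE6.ng (tabE6.si 4)) = true := by
  constructor <;> decide +kernel

theorem ckE6_3_4 : tabE6.c3 chevE6 4 = true := by decide +kernel

theorem ckE6_7_4 : tabE6.c7 chevE6 4 = true := by decide +kernel

theorem ckE6_2_5 : tabE6.c2 chevE6 (tabE6.si 5) = true ∧ tabE6.c2 chevE6 (tabE6.ng (tabE6.si 5)) = true := by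
  constructor <;> decide +kernel

theorem ckE6_3_5 : tabE6.c3 chevE6 5 = true := by decide +kernel

theorem ckE6_7_5 : tabE6.c7 chevE6 5 = true := by decide +kernel

theorem ckE6_4_0_0 : chunk 12 0 (tabE6.c4 chevE6 0) = true := by decide +kernel

theorem ckE6_4_0_1 : chunk 12 1 (tabE6.c4 chevE6 0) = true := by decide +kernel

theorem ckE6_4_0_2 : chunk 12 2 (tabE6.c4 chevE6 0) = true := by decide +kernel

theorem ckE6_4_0_3 : chunk 12 3 (tabE6.c4 chevE6 0) = true := by decide +kernel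

theorem ckE6_4_0_4 : chunk 12 4 (tabE6.c4 chevE6 0) = true := by decide +kernel

theorem ckE6_4_0_5 : chunk 12 5 (tabE6.c4 chevE6 0) = true := by decide +kernel

theorem ckE6_4_0 : ∀ r < 72, tabE6.c4 chevE6 0 r = true :=
  of_chunks 12 6 _ fun a ha => by
    interval_cases a
    exacts [ckE6_4_0_0, ckE6_4_0_1, ckE6_4_0_2, ckE6_4_0_3, ckE6_4_0_4, ckE6_4_0_5]

theorem ckE6_4_1_0 : chunk 12 0 (tabE6.c4 chevE6 1) = true := by decide +kernel

theorem ckE6_4_1_1 : chunk 12 1 (tabE6.c4 chevE6 1) = true := by decide +kernel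

theorem ckE6_4_1_2 : chunk 12 2 (tabE6.c4 chevE6 1) = true := by decide +kernel

theorem ckE6_4_1_3 : chunk 12 3 (tabE6.c4 chevE6 1) = true := by decide +kernel

theorem ckE6_4_1_4 : chunk 12 4 (tabE6.c4 chevE6 1) = true := by decide +kernel

theorem ckE6_4_1_5 : chunk 12 5 (tabE6.c4 chevE6 1) = true := by decide +kernel

theorem ckE6_4_1 : ∀ r < 72, tabE6.c4 chevE6 1 r = true :=
  of_chunks 12 6 _ fun a ha => by
    interval_cases a
    exacts [ckE6_4_1_0, ckE6_4_1_1, ckE6_4_1_2, ckE6_4_1_3, ckE6_4_1_4, ckE6_4_1_5]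

theorem ckE6_4_2_0 : chunk 12 0 (tabE6.c4 chevE6 2) = true := by decide +kernel

theorem ckE6_4_2_1 : chunk 12 1 (tabE6.c4 chevE6 2) = true := by decide +kernel

theorem ckE6_4_2_2 : chunk 12 2 (tabE6.c4 chevE6 2) = true := by decide +kernel

theorem ckE6_4_2_3 : chunk 12 3 (tabE6.c4 chevE6 2) = true := by decide +kernel

theorem ckE6_4_2_4 : chunk 12 4 (tabE6.c4 chevE6 2) = true := by decide +kernel

theorem ckE6_4_2_5 : chunk 12 5 (tabE6.c4 chevE6 2) = true := by decide +kernel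

theorem ckE6_4_2 : ∀ r < 72, tabE6.c4 chevE6 2 r = true :=
  of_chunks 12 6 _ fun a ha => by
    interval_cases a
    exacts [ckE6_4_2_0, ckE6_4_2_1, ckE6_4_2_2, ckE6_4_2_3, ckE6_4_2_4, ckE6_4_2_5]

theorem ckE6_4_3_0 : chunk 12 0 (tabE6.c4 chevE6 3) = true := by decide +kernel

theorem ckE6_4_3_1 : chunk 12 1 (tabE6.c4 chevE6 3) = true := by decide +kernel

theorem ckE6_4_3_2 : chunk 12 2 (tabE6.c4 chevE6 3) = true := by decide +kernel

theorem ckE6_4_3_3 : chunk 12 3 (tabE6.c4 chevE6 3) = true := by decide +kernel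

theorem ckE6_4_3_4 : chunk 12 4 (tabE6.c4 chevE6 3) = true := by decide +kernel

theorem ckE6_4_3_5 : chunk 12 5 (tabE6.c4 chevE6 3) = true := by decide +kernel

theorem ckE6_4_3 : ∀ r < 72, tabE6.c4 chevE6 3 r = true :=
  of_chunks 12 6 _ fun a ha => by
    interval_cases a
    exacts [ckE6_4_3_0, ckE6_4_3_1, ckE6_4_3_2, ckE6_4_3_3, ckE6_4_3_4, ckE6_4_3_5]

theorem ckE6_4_4_0 : chunk 12 0 (tabE6.c4 chevE6 4) = true := by decide +kernel

theorem ckE6_4_4_1 : chunk 12 1 (tabE6.c4 chevE6 4) = true := by decide +kernel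

theorem ckE6_4_4_2 : chunk 12 2 (tabE6.c4 chevE6 4) = true := by decide +kernel

theorem ckE6_4_4_3 : chunk 12 3 (tabE6.c4 chevE6 4) = true := by decide +kernel

theorem ckE6_4_4_4 : chunk 12 4 (tabE6.c4 chevE6 4) = true := by decide +kernel

theorem ckE6_4_4_5 : chunk 12 5 (tabE6.c4 chevE6 4) = true := by decide +kernel

theorem ckE6_4_4 : ∀ r < 72, tabE6.c4 chevE6 4 r = true :=
  of_chunks 12 6 _ fun a ha => by
    interval_cases a
    exacts [ckE6_4_4_0, ckE6_4_4_1, ckE6_4_4_2, ckE6_4_4_3, ckE6_4_4_4, ckE6_4_4_5]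

theorem ckE6_4_5_0 : chunk 12 0 (tabE6.c4 chevE6 5) = true := by decide +kernel

theorem ckE6_4_5_1 : chunk 12 1 (tabE6.c4 chevE6 5) = true := by decide +kernel

theorem ckE6_4_5_2 : chunk 12 2 (tabE6.c4 chevE6 5) = true := by decide +kernel

theorem ckE6_4_5_3 : chunk 12 3 (tabE6.c4 chevE6 5) = true := by decide +kernel

theorem ckE6_4_5_4 : chunk 12 4 (tabE6.c4 chevE6 5) = true := by decide +kernel

theorem ckE6_4_5_5 : chunk 12 5 (tabE6.c4 chevE6 5) = true := by decide +kernel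

theorem ckE6_4_5 : ∀ r < 72, tabE6.c4 chevE6 5 r = true :=
  of_chunks 12 6 _ fun a ha => by
    interval_cases a
    exacts [ckE6_4_5_0, ckE6_4_5_1, ckE6_4_5_2, ckE6_4_5_3, ckE6_4_5_4, ckE6_4_5_5]

theorem ckE6_5_0_0 : chunk 12 0 (tabE6.c5 chevE6 0) = true := by decide +kernel

theorem ckE6_5_0_1 : chunk 12 1 (tabE6.c5 chevE6 0) = true := by decide +kernel

theorem ckE6_5_0_2 : chunk 12 2 (tabE6.c5 chevE6 0) = true := by decide +kernel

theorem ckE6_5_0_3 : chunk 12 3 (tabE6.c5 chevE6 0) = true := by decide +kernel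

theorem ckE6_5_0_4 : chunk 12 4 (tabE6.c5 chevE6 0) = true := by decide +kernel

theorem ckE6_5_0_5 : chunk 12 5 (tabE6.c5 chevE6 0) = true := by decide +kernel

theorem ckE6_5_0 : ∀ r < 72, tabE6.c5 chevE6 0 r = true :=
  of_chunks 12 6 _ fun a ha => by
    interval_cases a
    exacts [ckE6_5_0_0, ckE6_5_0_1, ckE6_5_0_2, ckE6_5_0_3, ckE6_5_0_4, ckE6_5_0_5]

theorem okE6 : tabE6.Ok chevE6 where
  hl := rfl
  hn := rfl
  h0 := ckE6_0
  h1 := ckE6_1
  h2 := fun i hi => by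
    change i < 6 at hi
    interval_cases i
    exacts [ckE6_2_0, ckE6_2_1, ckE6_2_2, ckE6_2_3, ckE6_2_4, ckE6_2_5]
  h3 := fun i hi => by
    change i < 6 at hi
    interval_cases i
    exacts [ckE6_3_0, ckE6_3_1, ckE6_3_2, ckE6_3_3, ckE6_3_4, ckE6_3_5]
  h4 := fun i hi => by
    change i < 6 at hi
    interval_cases i
    exacts [ckE6_4_0, ckE6_4_1, ckE6_4_2, ckE6_4_3, ckE6_4_4, ckE6_4_5]
  h5 := fun i hi => by
    change i < 6 at hi
    interval_cases i
    exacts [fun _ => ckE6_5_0, fun h => absurd h (by decide +kernel), fun h => absurd h (by decide +kernel), fun h => absurd h (by decide +kernel), fun h => absurd h (by decide +kernel), fun h => absurd h (by decide +kernel)]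
  h6 := ckE6_6
  h7 := fun i hi => by
    change i < 6 at hi
    interval_cases i
    exacts [ckE6_7_0, ckE6_7_1, ckE6_7_2, ckE6_7_3, ckE6_7_4, ckE6_7_5]

end CfsgH8
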