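import Cfsg.Agent.H8.TabE8
import Cfsg.Agent.H8.Chev7

set_option autoImplicit false
set_option maxRecDepth 100000

namespace CfsgH8

open CfsgH5 Cfsg.Lie

theorem ckE8_6_0 : chunk 24 0 (tabE8.c6 chevE8) = true := by decide +kernel

theorem ckE8_6_1 : chunk 24 1 (tabE8.c6 chevE8) = true := by decide +kernel

theorem ckE8_6_2 : chunk 24 2 (tabE8.c6 chevE8) = true := by decide +kernel

theorem ckE8_6_3 : chunk 24 3 (tabE8.c6 chevE8) = true := by decide +kernel

theorem ckE8_6_4 : chunk 24 4 (tabE8.c6 chevE8) = true := by decide +kernel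

theorem ckE8_6_5 : chunk 24 5 (tabE8.c6 chevE8) = true := by decide +kernel

theorem ckE8_6_6 : chunk 24 6 (tabE8.c6 chevE8) = true := by decide +kernel

theorem ckE8_6_7 : chunk 24 7 (tabE8.c6 chevE8) = true := by decide +kernel

theorem ckE8_6_8 : chunk 24 8 (tabE8.c6 chevE8) = true := by decide +kernel

theorem ckE8_6_9 : chunk 24 9 (tabE8.c6 chevE8) = true := by decide +kernel

theorem ckE8_6 : ∀ r < 240, tabE8.c6 chevE8 r = true :=
  of_chunks 24 10 _ fun a ha => by
    interval_cases a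
    exacts [ckE8_6_0, ckE8_6_1, ckE8_6_2, ckE8_6_3, ckE8_6_4, ckE8_6_5, ckE8_6_6, ckE8_6_7, ckE8_6_8, ckE8_6_9]

theorem ckE8_2_0 : tabE8.c2 chevE8 (tabE8.si 0) = true ∧ tabE8.c2 chevE8 (tabE8.ng (tabE8.si 0)) = true := by
  constructor <;> decide +kernel

theorem ckE8_3_0 : tabE8.c3 chevE8 0 = true := by decide +kernel

theorem ckE8_7_0 : tabE8.c7 chevE8 0 = true := by decide +kernel

theorem ckE8_2_1 : tabE8.c2 chevE8 (tabE8.si 1) = true ∧ tabE8.c2 chevE8 (tabE8.ng (tabE8.si 1)) = true := by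
  constructor <;> decide +kernel

theorem ckE8_3_1 : tabE8.c3 chevE8 1 = true := by decide +kernel

theorem ckE8_7_1 : tabE8.c7 chevE8 1 = true := by decide +kernel

theorem ckE8_2_2 : tabE8.c2 chevE8 (tabE8.si 2) = true ∧ tabE8.c2 chevE8 (tabE8.ng (tabE8.si 2)) = true := by
  constructor <;> decide +kernel

theorem ckE8_3_2 : tabE8.c3 chevE8 2 = true := by decide +kernel

theorem ckE8_7_2 : tabE8.c7 chevE8 2 = true := by decide +kernel

theorem ckE8_2_3 : tabE8.c2 chevE8 (tabE8.si 3) = true ∧ tabE8.c2 chevE8 (tabE8.ng (tabE8.si 3)) = true := by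
  constructor <;> decide +kernel

theorem ckE8_3_3 : tabE8.c3 chevE8 3 = true := by decide +kernel

theorem ckE8_7_3 : tabE8.c7 chevE8 3 = true := by decide +kernel

theorem ckE8_2_4 : tabE8.c2 chevE8 (tabE8.si 4) = true ∧ tabE8.c2 chevE8 (tabE8.ng (tabE8.si 4)) = true := by
  constructor <;> decide +kernel

theorem ckE8_3_4 : tabE8.c3 chevE8 4 = true := by decide +kernel

theorem ckE8_7_4 : tabE8.c7 chevE8 4 = true := by decide +kernel

theorem ckE8_2_5 : tabE8.c2 chevE8 (tabE8.si 5) = true ∧ tabE8.c2 chevE8 (tabE8.ng (tabE8.si 5)) = true := by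
  constructor <;> decide +kernel

theorem ckE8_3_5 : tabE8.c3 chevE8 5 = true := by decide +kernel

theorem ckE8_7_5 : tabE8.c7 chevE8 5 = true := by decide +kernel

theorem ckE8_2_6 : tabE8.c2 chevE8 (tabE8.si 6) = true ∧ tabE8.c2 chevE8 (tabE8.ng (tabE8.si 6)) = true := by
  constructor <;> decide +kernel

theorem ckE8_3_6 : tabE8.c3 chevE8 6 = true := by decide +kernel

theorem ckE8_7_6 : tabE8.c7 chevE8 6 = true := by decide +kernel

theorem ckE8_2_7 : tabE8.c2 chevE8 (tabE8.si 7) = true ∧ tabE8.c2 chevE8 (tabE8.ng (tabE8.si 7)) = true := by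
  constructor <;> decide +kernel

theorem ckE8_3_7 : tabE8.c3 chevE8 7 = true := by decide +kernel

theorem ckE8_7_7 : tabE8.c7 chevE8 7 = true := by decide +kernel

end CfsgH8
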