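import Cfsg.Agent.H8.TabF4
import Cfsg.Agent.H8.Chev7
import Cfsg.Agent.H8.Chev6

set_option autoImplicit false
set_option maxRecDepth 100000

namespace CfsgH8

open CfsgH5 Cfsg.Lie

theorem ckF4_0_0 : chunk 12 0 (tabF4.c0 chevF4) = true := by decide +kernel

theorem ckF4_0_1 : chunk 12 1 (tabF4.c0 chevF4) = true := by decide +kernel

theorem ckF4_0_2 : chunk 12 2 (tabF4.c0 chevF4) = true := by decide +kernel

theorem ckF4_0_3 : chunk 12 3 (tabF4.c0 chevF4) = true := by decide +kernel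

theorem ckF4_0 : ∀ r < 48, tabF4.c0 chevF4 r = true :=
  of_chunks 12 4 _ fun a ha => by
    interval_cases a
    exacts [ckF4_0_0, ckF4_0_1, ckF4_0_2, ckF4_0_3]

theorem ckF4_1_0 : chunk 12 0 (tabF4.c1 chevF4) = true := by decide +kernel

theorem ckF4_1_1 : chunk 12 1 (tabF4.c1 chevF4) = true := by decide +kernel

theorem ckF4_1_2 : chunk 12 2 (tabF4.c1 chevF4) = true := by decide +kernel

theorem ckF4_1_3 : chunk 12 3 (tabF4.c1 chevF4) = true := by decide +kernel

theorem ckF4_1 : ∀ r < 48, tabF4.c1 chevF4 r = true :=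
  of_chunks 12 4 _ fun a ha => by
    interval_cases a
    exacts [ckF4_1_0, ckF4_1_1, ckF4_1_2, ckF4_1_3]

theorem ckF4_6_0 : chunk 12 0 (tabF4.c6 chevF4) = true := by decide +kernel

theorem ckF4_6_1 : chunk 12 1 (tabF4.c6 chevF4) = true := by decide +kernel

theorem ckF4_6_2 : chunk 12 2 (tabF4.c6 chevF4) = true := by decide +kernel

theorem ckF4_6_3 : chunk 12 3 (tabF4.c6 chevF4) = true := by decide +kernel

theorem ckF4_6 : ∀ r < 48, tabF4.c6 chevF4 r = true :=
  of_chunks 12 4 _ fun a ha => by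
    interval_cases a
    exacts [ckF4_6_0, ckF4_6_1, ckF4_6_2, ckF4_6_3]

theorem ckF4_2_0 : tabF4.c2 chevF4 (tabF4.si 0) = true ∧ tabF4.c2 chevF4 (tabF4.ng (tabF4.si 0)) = true := by
  constructor <;> decide +kernel

theorem ckF4_3_0 : tabF4.c3 chevF4 0 = true := by decide +kernel

theorem ckF4_7_0 : tabF4.c7 chevF4 0 = true := by decide +kernel

theorem ckF4_2_1 : tabF4.c2 chevF4 (tabF4.si 1) = true ∧ tabF4.c2 chevF4 (tabF4.ng (tabF4.si 1)) = true := by
  constructor <;> decide +kernel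

theorem ckF4_3_1 : tabF4.c3 chevF4 1 = true := by decide +kernel

theorem ckF4_7_1 : tabF4.c7 chevF4 1 = true := by decide +kernel

theorem ckF4_2_2 : tabF4.c2 chevF4 (tabF4.si 2) = true ∧ tabF4.c2 chevF4 (tabF4.ng (tabF4.si 2)) = true := by
  constructor <;> decide +kernel

theorem ckF4_3_2 : tabF4.c3 chevF4 2 = true := by decide +kernel

theorem ckF4_7_2 : tabF4.c7 chevF4 2 = true := by decide +kernel

theorem ckF4_2_3 : tabF4.c2 chevF4 (tabF4.si 3) = true ∧ tabF4.c2 chevF4 (tabF4.ng (tabF4.si 3)) = true := by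
  constructor <;> decide +kernel

theorem ckF4_3_3 : tabF4.c3 chevF4 3 = true := by decide +kernel

theorem ckF4_7_3 : tabF4.c7 chevF4 3 = true := by decide +kernel

theorem ckF4_4_0_0 : chunk 12 0 (tabF4.c4 chevF4 0) = true := by decide +kernel

theorem ckF4_4_0_1 : chunk 12 1 (tabF4.c4 chevF4 0) = true := by decide +kernel

theorem ckF4_4_0_2 : chunk 12 2 (tabF4.c4 chevF4 0) = true := by decide +kernel

theorem ckF4_4_0_3 : chunk 12 3 (tabF4.c4 chevF4 0) = true := by decide +kernel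

theorem ckF4_4_0 : ∀ r < 48, tabF4.c4 chevF4 0 r = true :=
  of_chunks 12 4 _ fun a ha => by
    interval_cases a
    exacts [ckF4_4_0_0, ckF4_4_0_1, ckF4_4_0_2, ckF4_4_0_3]

theorem ckF4_4_1_0 : chunk 12 0 (tabF4.c4 chevF4 1) = true := by decide +kernel

theorem ckF4_4_1_1 : chunk 12 1 (tabF4.c4 chevF4 1) = true := by decide +kernel

theorem ckF4_4_1_2 : chunk 12 2 (tabF4.c4 chevF4 1) = true := by decide +kernel

theorem ckF4_4_1_3 : chunk 12 3 (tabF4.c4 chevF4 1) = true := by decide +kernel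

theorem ckF4_4_1 : ∀ r < 48, tabF4.c4 chevF4 1 r = true :=
  of_chunks 12 4 _ fun a ha => by
    interval_cases a
    exacts [ckF4_4_1_0, ckF4_4_1_1, ckF4_4_1_2, ckF4_4_1_3]

theorem ckF4_4_2_0 : chunk 12 0 (tabF4.c4 chevF4 2) = true := by decide +kernel

theorem ckF4_4_2_1 : chunk 12 1 (tabF4.c4 chevF4 2) = true := by decide +kernel

theorem ckF4_4_2_2 : chunk 12 2 (tabF4.c4 chevF4 2) = true := by decide +kernel

theorem ckF4_4_2_3 : chunk 12 3 (tabF4.c4 chevF4 2) = true := by decide +kernel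

theorem ckF4_4_2 : ∀ r < 48, tabF4.c4 chevF4 2 r = true :=
  of_chunks 12 4 _ fun a ha => by
    interval_cases a
    exacts [ckF4_4_2_0, ckF4_4_2_1, ckF4_4_2_2, ckF4_4_2_3]

theorem ckF4_4_3_0 : chunk 12 0 (tabF4.c4 chevF4 3) = true := by decide +kernel

theorem ckF4_4_3_1 : chunk 12 1 (tabF4.c4 chevF4 3) = true := by decide +kernel

theorem ckF4_4_3_2 : chunk 12 2 (tabF4.c4 chevF4 3) = true := by decide +kernel

theorem ckF4_4_3_3 : chunk 12 3 (tabF4.c4 chevF4 3) = true := by decide +kernel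

theorem ckF4_4_3 : ∀ r < 48, tabF4.c4 chevF4 3 r = true :=
  of_chunks 12 4 _ fun a ha => by
    interval_cases a
    exacts [ckF4_4_3_0, ckF4_4_3_1, ckF4_4_3_2, ckF4_4_3_3]

theorem ckF4_5_0_0 : chunk 12 0 (tabF4.c5 chevF4 0) = true := by decide +kernel

theorem ckF4_5_0_1 : chunk 12 1 (tabF4.c5 chevF4 0) = true := by decide +kernel

theorem ckF4_5_0_2 : chunk 12 2 (tabF4.c5 chevF4 0) = true := by decide +kernel

theorem ckF4_5_0_3 : chunk 12 3 (tabF4.c5 chevF4 0) = true := by decide +kernel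

theorem ckF4_5_0 : ∀ r < 48, tabF4.c5 chevF4 0 r = true :=
  of_chunks 12 4 _ fun a ha => by
    interval_cases a
    exacts [ckF4_5_0_0, ckF4_5_0_1, ckF4_5_0_2, ckF4_5_0_3]

theorem ckF4_5_2_0 : chunk 12 0 (tabF4.c5 chevF4 2) = true := by decide +kernel

theorem ckF4_5_2_1 : chunk 12 1 (tabF4.c5 chevF4 2) = true := by decide +kernel

theorem ckF4_5_2_2 : chunk 12 2 (tabF4.c5 chevF4 2) = true := by decide +kernel

theorem ckF4_5_2_3 : chunk 12 3 (tabF4.c5 chevF4 2) = true := by decide +kernel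

theorem ckF4_5_2 : ∀ r < 48, tabF4.c5 chevF4 2 r = true :=
  of_chunks 12 4 _ fun a ha => by
    interval_cases a
    exacts [ckF4_5_2_0, ckF4_5_2_1, ckF4_5_2_2, ckF4_5_2_3]

theorem okF4 : tabF4.Ok chevF4 where
  hl := rfl
  hn := rfl
  h0 := ckF4_0
  h1 := ckF4_1
  h2 := fun i hi => by
    change i < 4 at hi
    interval_cases i
    exacts [ckF4_2_0, ckF4_2_1, ckF4_2_2, ckF4_2_3]
  h3 := fun i hi => by
    change i < 4 at hi
    interval_cases i
    exacts [ckF4_3_0, ckF4_3_1, ckF4_3_2, ckF4_3_3]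
  h4 := fun i hi => by
    change i < 4 at hi
    interval_cases i
    exacts [ckF4_4_0, ckF4_4_1, ckF4_4_2, ckF4_4_3]
  h5 := fun i hi => by
    change i < 4 at hi
    interval_cases i
    exacts [fun _ => ckF4_5_0, fun h => absurd h (by decide +kernel), fun _ => ckF4_5_2, fun h => absurd h (by decide +kernel)]
  h6 := ckF4_6
  h7 := fun i hi => by
    change i < 4 at hi
    interval_cases i
    exacts [ckF4_7_0, ckF4_7_1, ckF4_7_2, ckF4_7_3]

/-- inverse Cartan matrix -/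
def invF4 (j i : ℕ) : ℤ := (([[2, 3, 4, 2], [3, 6, 8, 4], [2, 4, 6, 3], [1, 2, 3, 2]] : List (List ℤ)).getD j []).getD i 0

theorem invF4_spec : ∀ j k : Fin chevF4.rank, ∑ i : Fin chevF4.rank, invF4 j i * tabF4.cm i k =
    if j = k then 1 else 0 := by
  change ∀ j k : Fin 4, ∑ i : Fin 4, invF4 j i * tabF4.cm i k = if j = k then 1 else 0
  decide +kernel

end CfsgH8
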