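import Cfsg.Agent.H8.Root
import Cfsg.Agent.H8.Disc

set_option autoImplicit false

namespace CfsgH8

open QuadraticMap Module

section transport
variable {F₁ V₁ F₂ V₂ : Type*} [Field F₁] [AddCommGroup V₁] [Module F₁ V₁] [Field F₂]
  [AddCommGroup V₂] [Module F₂ V₂] {Q₁ : QuadraticForm F₁ V₁} {Q₂ : QuadraticForm F₂ V₂}

/-- transport of semisimilarity groups -/
def SIso.gam (e : SIso Q₁ Q₂) : Gam Q₁ ≃* Gam Q₂ where
  toFun γ := (e.symm.trans γ).trans e
  invFun γ := (e.trans γ).trans e.symm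
  left_inv γ := SIso.ext' (fun x => by simp) (RingEquiv.ext fun x => by simp) (Units.ext (by
    have := e.c.ne_zero
    simp only [SIso.trans_c, SIso.symm_c, SIso.symm_σ, SIso.trans_σ, _root_.map_mul, map_inv₀,
      RingEquiv.trans_apply, RingEquiv.symm_apply_apply]
    have h1 : e.σ.symm e.c ≠ 0 := by simp
    have h2 : γ.σ (e.σ.symm e.c) ≠ 0 := by simp
    field_simp))
  right_inv γ := SIso.ext' (fun x => by simp) (RingEquiv.ext fun x => by simp) (Units.ext (by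
    have := e.c.ne_zero
    simp only [SIso.trans_c, SIso.symm_c, SIso.symm_σ, SIso.trans_σ, _root_.map_mul, map_inv₀,
      RingEquiv.trans_apply, RingEquiv.apply_symm_apply]
    have h2 : γ.σ e.c ≠ 0 := by simp
    field_simp))
  map_mul' γ δ := SIso.ext' (fun x => by simp) (RingEquiv.ext fun x => by simp) (Units.ext (by
    have := e.c.ne_zero
    simp only [SIso.trans_c, SIso.symm_c, SIso.symm_σ, SIso.trans_σ, _root_.map_mul, map_inv₀,
      RingEquiv.trans_apply, RingEquiv.symm_apply_apply, Gam.mul_c, Gam.mul_σ, RingAut.mul_apply]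
    have h2 : e.σ (γ.σ (e.σ.symm e.c)) ≠ 0 := by simp
    field_simp))

@[simp] lemma SIso.gam_T (e : SIso Q₁ Q₂) (γ : Gam Q₁) (x : V₂) :
    (e.gam γ).T x = e.T (γ.T (e.symm.T x)) := rfl

lemma SIso.gam_σ_apply (e : SIso Q₁ Q₂) (γ : Gam Q₁) (x : F₂) :
    (e.gam γ).σ x = e.σ (γ.σ (e.σ.symm x)) := rfl

lemma SIso.gam_σ_eq_one (e : SIso Q₁ Q₂) {γ : Gam Q₁} : (e.gam γ).σ = 1 ↔ γ.σ = 1 := by
  constructor
  · intro h
    refine RingEquiv.ext fun x => e.σ.injective ?_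
    have := RingEquiv.congr_fun h (e.σ x)
    rw [e.gam_σ_apply, RingEquiv.symm_apply_apply] at this
    exact this
  · intro h
    refine RingEquiv.ext fun x => ?_
    rw [e.gam_σ_apply, h]; simp

lemma SIso.gam_c (e : SIso Q₁ Q₂) {γ : Gam Q₁} (h : γ.σ = 1) : ((e.gam γ).c : F₂) = e.σ γ.c := by
  have := e.c.ne_zero
  change (e.c : F₂) * e.σ (γ.c * γ.σ e.symm.c) = _
  rw [h, SIso.symm_c]
  simp
  field_simp

lemma SIso.gam_ofOG (e : SIso Q₁ Q₂) (g : OG Q₁) : e.gam (ofOG Q₁ g) = ofOG Q₂ (e.og g) :=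
  SIso.ext' (fun _ => rfl) (e.gam_σ_eq_one.2 rfl) (Units.ext (by rw [e.gam_c rfl]; simp))

lemma SIso.gam_scal (e : SIso Q₁ Q₂) (a : F₁ˣ) :
    e.gam (scal Q₁ a) = scal Q₂ (Units.map e.σ.toMonoidHom a) :=
  SIso.ext' (fun x => by simp [e.smul]) (e.gam_σ_eq_one.2 rfl)
    (Units.ext (by rw [e.gam_c rfl]; simp))

lemma SIso.Phi_gam (e : SIso Q₁ Q₂) (γ : Gam Q₁) :
    Phi Q₂ (e.gam γ) = MulAut.congr e.pom (Phi Q₁ γ) :=
  mulEquiv_quot_ext fun _ => rfl

/-- transport of a basis -/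
noncomputable def SIso.basis (e : SIso Q₁ Q₂) {ι : Type*} [Fintype ι] (b : Basis ι F₁ V₁) :
    Basis ι F₂ V₂ :=
  Basis.ofEquivFun
    { toFun := fun y i => e.σ (b.equivFun (e.symm.T y) i)
      invFun := fun v => e.T (b.equivFun.symm fun i => e.σ.symm (v i))
      left_inv := fun y => by
        simp only [RingEquiv.symm_apply_apply]
        rw [LinearEquiv.symm_apply_apply, SIso.T_symm_T]
      right_inv := fun v => by
        simp only [SIso.symm_T_T, LinearEquiv.apply_symm_apply, RingEquiv.apply_symm_apply]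
      map_add' := fun x y => by ext; simp
      map_smul' := fun a x => by ext; simp [e.symm.smul] }

lemma SIso.basis_repr (e : SIso Q₁ Q₂) {ι : Type*} [Fintype ι] (b : Basis ι F₁ V₁) (y : V₂)
    (i : ι) : (e.basis b).repr y i = e.σ (b.repr (e.symm.T y) i) := rfl

lemma SIso.basis_apply (e : SIso Q₁ Q₂) {ι : Type*} [Fintype ι] (b : Basis ι F₁ V₁) (i : ι) :
    e.basis b i = e.T (b i) := by
  classical
  refine (e.basis b).ext_elem fun j => ?_
  rw [e.basis_repr b (e.T _), SIso.symm_T_T]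
  simp [Finsupp.single_apply]

lemma SIso.det_conjL (e : SIso Q₁ Q₂) [FiniteDimensional F₁ V₁] (g : V₁ →ₗ[F₁] V₁) :
    LinearMap.det (e.conjL g) = e.σ (LinearMap.det g) := by
  let b := Module.finBasis F₁ V₁
  rw [← LinearMap.det_toMatrix (e.basis b), ← LinearMap.det_toMatrix b, RingEquiv.map_det]
  congr 1
  ext i j
  simp [LinearMap.toMatrix_apply, SIso.basis_repr, SIso.basis_apply]

end transport

variable {F V : Type*} [Field F] [AddCommGroup V] [Module F V] {Q : QuadraticForm F V}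

lemma gam_eq_conj (e γ : Gam Q) : e.gam γ = e * γ * e⁻¹ := (mul_assoc e γ e⁻¹).symm

open Classical in
/-- the determinant of a similarity -/
noncomputable def gdet (γ : Gam Q) : F :=
  if h : γ.σ = 1 then LinearMap.det (γ.lin h).toLinearMap else 0

lemma gdet_eq {γ : Gam Q} (h : γ.σ = 1) {g : V →ₗ[F] V} (hg : ∀ x, γ.T x = g x) :
    gdet γ = LinearMap.det g := by
  rw [gdet, dif_pos h]
  congr 1
  exact LinearMap.ext hg

lemma gdet_mul {γ δ : Gam Q} (h : γ.σ = 1) (h' : δ.σ = 1) : gdet (γ * δ) = gdet γ * gdet δ := by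
  rw [gdet_eq h (g := (γ.lin h).toLinearMap) (fun _ => rfl),
    gdet_eq h' (g := (δ.lin h').toLinearMap) (fun _ => rfl), ← LinearMap.det_comp]
  exact gdet_eq (by simp [h, h']) fun _ => rfl

lemma gdet_ofOG (g : OG Q) : gdet (ofOG Q g) = LinearMap.det g.1.toLinearMap :=
  gdet_eq rfl fun _ => rfl

lemma gdet_scal [FiniteDimensional F V] (a : Fˣ) : gdet (scal Q a) = (a : F) ^ finrank F V := by
  rw [gdet_eq rfl (g := (a : F) • LinearMap.id) fun _ => rfl]
  simp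

lemma gdet_gam {F₂ V₂ : Type*} [Field F₂] [AddCommGroup V₂] [Module F₂ V₂]
    {Q₂ : QuadraticForm F₂ V₂} [FiniteDimensional F V] (e : SIso Q Q₂) {γ : Gam Q} (h : γ.σ = 1) :
    gdet (e.gam γ) = e.σ (gdet γ) := by
  rw [gdet_eq h (g := (γ.lin h).toLinearMap) (fun _ => rfl), ← e.det_conjL]
  exact gdet_eq (e.gam_σ_eq_one.2 h) fun _ => rfl

lemma gdet_sq [FiniteDimensional F V] (hQ : ND Q) {γ : Gam Q} (h : γ.σ = 1) :
    gdet γ ^ 2 = (γ.c : F) ^ finrank F V := by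
  let b := Module.finBasis F V
  have h1 := LinearMap.BilinForm.toMatrix_comp b b (polarBilin Q) (γ.lin h).toLinearMap
    (γ.lin h).toLinearMap
  have h2 : LinearMap.BilinForm.comp (polarBilin Q) (γ.lin h).toLinearMap (γ.lin h).toLinearMap =
      (γ.c : F) • polarBilin Q := by
    ext x y
    change polar Q (γ.T x) (γ.T y) = γ.c * polar Q x y
    rw [γ.polar, h]; rfl
  rw [h2, map_smul, ← gram_eq_toMatrix] at h1
  have h3 := congrArg Matrix.det h1
  rw [Matrix.det_smul, Matrix.det_mul, Matrix.det_mul, Matrix.det_transpose,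
    LinearMap.det_toMatrix, Fintype.card_fin] at h3
  rw [gdet_eq h (g := (γ.lin h).toLinearMap) (fun _ => rfl)]
  apply mul_right_cancel₀ (hQ.det_gram_ne b)
  rw [h3]; ring

/-- the group of similarities -/
def GO (Q : QuadraticForm F V) : Subgroup (Gam Q) := (fld Q).ker

lemma mem_GO {γ : Gam Q} : γ ∈ GO Q ↔ γ.σ = 1 := Iff.rfl

instance GO_normal : (GO Q).Normal := MonoidHom.normal_ker _

lemma ofOG_mem_GO (g : OG Q) : ofOG Q g ∈ GO Q := rfl

lemma scal_mem_GO (a : Fˣ) : scal Q a ∈ GO Q := rfl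

lemma Gam.mul_c_of_lin {γ : Gam Q} (h : γ.σ = 1) (δ : Gam Q) : (γ * δ).c = γ.c * δ.c :=
  Units.ext (by rw [Gam.mul_c, h]; rfl)

lemma Gam.inv_c_of_lin {γ : Gam Q} (h : γ.σ = 1) : (γ⁻¹).c = γ.c⁻¹ :=
  Units.ext (by rw [Gam.inv_c, h]; simp)

lemma scal_comm {γ : Gam Q} (h : γ.σ = 1) (a : Fˣ) : γ * scal Q a = scal Q a * γ := by
  rw [mul_scal, h]; rfl

/-- scalar multiples of elements of a subgroup of the orthogonal group -/
def ZS (S : Subgroup (OG Q)) : Subgroup (Gam Q) where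
  carrier := {γ | ∃ a : Fˣ, ∃ g ∈ S, γ = scal Q a * ofOG Q g}
  one_mem' := ⟨1, 1, S.one_mem, by simp⟩
  mul_mem' := by
    rintro _ _ ⟨a, g, hg, rfl⟩ ⟨b, h, hh, rfl⟩
    refine ⟨a * b, g * h, S.mul_mem hg hh, ?_⟩
    rw [_root_.map_mul, _root_.map_mul, mul_assoc, ← mul_assoc (ofOG Q g), scal_comm rfl]
    simp only [mul_assoc]
  inv_mem' := by
    rintro _ ⟨a, g, hg, rfl⟩
    refine ⟨a⁻¹, g⁻¹, S.inv_mem hg, ?_⟩
    rw [mul_inv_rev, ← map_inv, ← map_inv, scal_comm rfl]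

lemma mem_ZS {S : Subgroup (OG Q)} {γ : Gam Q} :
    γ ∈ ZS S ↔ ∃ a : Fˣ, ∃ g ∈ S, γ = scal Q a * ofOG Q g := Iff.rfl

lemma ZS_le_GO (S : Subgroup (OG Q)) : ZS S ≤ GO Q := by
  rintro _ ⟨a, g, -, rfl⟩
  exact mul_mem (scal_mem_GO a) (ofOG_mem_GO g)

lemma ofOG_mem_ZS {S : Subgroup (OG Q)} {g : OG Q} (h : g ∈ S) : ofOG Q g ∈ ZS S :=
  ⟨1, g, h, by simp⟩

lemma scal_mem_ZS (S : Subgroup (OG Q)) (a : Fˣ) : scal Q a ∈ ZS S := ⟨a, 1, S.one_mem, by simp⟩

lemma ZS_mono {S S' : Subgroup (OG Q)} (h : S ≤ S') : ZS S ≤ ZS S' := by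
  rintro _ ⟨a, g, hg, rfl⟩
  exact ⟨a, g, h hg, rfl⟩

lemma ZS_normal {S : Subgroup (OG Q)} (h : ∀ γ : Gam Q, ∀ g ∈ S, γ.og g ∈ S) : (ZS S).Normal :=
  ⟨by
    rintro _ ⟨a, g, hg, rfl⟩ γ
    refine ⟨Units.map γ.σ.toMonoidHom a, _, h γ g hg, ?_⟩
    rw [← conj_scal, ← conj_ofOG]; group⟩

instance ZOm_normal : (ZS (Om Q)).Normal :=
  ZS_normal fun γ g hg => (mem_commutator_map γ.og g).2 hg

lemma mem_ZS_top_iff {γ : Gam Q} : γ ∈ ZS (⊤ : Subgroup (OG Q)) ↔ γ.σ = 1 ∧ IsSquare (γ.c : F) := by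
  constructor
  · rintro ⟨a, g, -, rfl⟩
    exact ⟨rfl, a, by rw [Gam.mul_c_of_lin rfl]; simp [pow_two]⟩
  · rintro ⟨h1, h2⟩
    obtain ⟨a, g, rfl⟩ := exists_scal_mul_ofOG h1 h2
    exact ⟨a, g, trivial, rfl⟩

lemma ofOG_negOne : ofOG Q (negOne Q) = scal Q (-1) :=
  SIso.ext' (fun x => by simp) rfl (by simp)

lemma scal_mul_ofOG_eq {a b : Fˣ} {g h : OG Q} (e : scal Q a * ofOG Q g = scal Q b * ofOG Q h) :
    g = h ∨ g = negOne Q * h := by
  have h1 := congrArg SIso.c e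
  rw [Gam.mul_c_of_lin rfl, Gam.mul_c_of_lin rfl] at h1
  simp only [scal_c, ofOG_c, mul_one] at h1
  rcases sq_eq_sq_iff_eq_or_eq_neg.1 (show (a : F) ^ 2 = b ^ 2 by
    simpa using congrArg Units.val h1) with h2 | h2
  · left
    rw [Units.ext h2] at e
    exact ofOG_injective (mul_left_cancel e)
  · right
    have : b = a * -1 := Units.ext (by simp [h2])
    rw [this, _root_.map_mul, mul_assoc, ← ofOG_negOne, ← _root_.map_mul] at e
    exact ofOG_injective (mul_left_cancel e)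

lemma ofOG_mem_ZS_iff {S : Subgroup (OG Q)} {g : OG Q} :
    ofOG Q g ∈ ZS S ↔ g ∈ S ∨ negOne Q * g ∈ S := by
  constructor
  · rintro ⟨a, h, hh, e⟩
    rcases scal_mul_ofOG_eq (a := 1) (by simpa using e) with rfl | rfl
    · exact Or.inl hh
    · right; rwa [← mul_assoc, negOne_mul_self, one_mul]
  · rintro (h | h)
    · exact ofOG_mem_ZS h
    · exact ⟨-1, _, h, by rw [← ofOG_negOne, ← _root_.map_mul, ← mul_assoc, negOne_mul_self, one_mul]⟩

/-! ### direct sums of semisimilarities -/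

section sum
variable {V₁ V₂ : Type*} [AddCommGroup V₁] [Module F V₁] [AddCommGroup V₂] [Module F V₂]
  {Q₁ : QuadraticForm F V₁} {Q₂ : QuadraticForm F V₂}

/-- the direct sum of two semisimilarities -/
def ODec.gam (D : ODec Q₁ Q₂ Q) (γ₁ : Gam Q₁) (γ₂ : Gam Q₂) (h1 : γ₂.σ = γ₁.σ) (h2 : γ₂.c = γ₁.c) :
    Gam Q where
  T := (D.e.symm.toAddEquiv.trans (γ₁.T.prodCongr γ₂.T)).trans D.e.toAddEquiv
  σ := γ₁.σ
  c := γ₁.c
  smul a v := by
    obtain ⟨x, y, rfl⟩ := D.surj v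
    rw [← map_smul]
    simp [γ₁.smul, γ₂.smul, h1, ← map_smul, AddEquiv.prodCongr]
  mapQ v := by
    obtain ⟨x, y, rfl⟩ := D.surj v
    simp [D.he, γ₁.mapQ, γ₂.mapQ, h1, h2, mul_add, AddEquiv.prodCongr]

@[simp] lemma ODec.gam_T (D : ODec Q₁ Q₂ Q) (γ₁ : Gam Q₁) (γ₂ : Gam Q₂) (h1 : γ₂.σ = γ₁.σ)
    (h2 : γ₂.c = γ₁.c) (x : V₁) (y : V₂) :
    (D.gam γ₁ γ₂ h1 h2).T (D.e (x, y)) = D.e (γ₁.T x, γ₂.T y) := by
  simp [ODec.gam, AddEquiv.prodCongr]

@[simp] lemma ODec.gam_σ (D : ODec Q₁ Q₂ Q) (γ₁ : Gam Q₁) (γ₂ : Gam Q₂) (h1 : γ₂.σ = γ₁.σ)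
    (h2 : γ₂.c = γ₁.c) : (D.gam γ₁ γ₂ h1 h2).σ = γ₁.σ := rfl

@[simp] lemma ODec.gam_c (D : ODec Q₁ Q₂ Q) (γ₁ : Gam Q₁) (γ₂ : Gam Q₂) (h1 : γ₂.σ = γ₁.σ)
    (h2 : γ₂.c = γ₁.c) : (D.gam γ₁ γ₂ h1 h2).c = γ₁.c := rfl

lemma ODec.gdet_gam [FiniteDimensional F V] (D : ODec Q₁ Q₂ Q) (γ₁ : Gam Q₁) (γ₂ : Gam Q₂)
    (h1 : γ₂.σ = γ₁.σ) (h2 : γ₂.c = γ₁.c) (h : γ₁.σ = 1) :
    gdet (D.gam γ₁ γ₂ h1 h2) = gdet γ₁ * gdet γ₂ := by
  have := D.findim_left
  have := D.findim_right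
  rw [gdet_eq h (g := (γ₁.lin h).toLinearMap) (fun _ => rfl),
    gdet_eq (h1.trans h) (g := (γ₂.lin (h1.trans h)).toLinearMap) (fun _ => rfl),
    ← LinearMap.det_prodMap, ← LinearMap.det_conj _ D.e]
  refine gdet_eq (γ := D.gam γ₁ γ₂ h1 h2) h fun v => ?_
  obtain ⟨x, y, rfl⟩ := D.surj v
  simp

end sum

/-- The properties of the basic similarity of multiplier `l`. -/
def IsBasic (γ : Gam Q) (l : Fˣ) (k : ℕ) : Prop :=
  γ.σ = 1 ∧ γ.c = l ∧ gdet γ = (l : F) ^ k ∧ ∃ vs : List V, (∀ v ∈ vs, Q v ≠ 0) ∧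
    Even vs.length ∧ (vs.map Q).prod = (l : F) ^ k ∧
    γ * γ = scal Q l * ofOG Q (vs.map (refl Q)).prod

lemma exists_basic_QB [Finite F] {a b : F} (hQ : ND (QB a b)) (l : Fˣ) :
    ∃ γ : Gam (QB a b), IsBasic γ l 1 := by
  obtain ⟨z, hz⟩ := hQ.represents (by simp) (l : F)
  have hl := l.ne_zero
  let M : Matrix (Fin 2) (Fin 2) F := !![z 0, -b * z 1; z 1, z 0 + a * z 1]
  rw [QB_apply] at hz
  have hM : M.det = l := by rw [Matrix.det_fin_two_of, ← hz]; ring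
  let e := Matrix.toLinearEquiv' M (Matrix.invertibleOfIsUnitDet M (by rw [hM]; exact l.isUnit))
  have he : ∀ x, e x = ![z 0 * x 0 - b * z 1 * x 1, z 1 * x 0 + (z 0 + a * z 1) * x 1] := fun x => by
    change M.mulVec x = _
    ext i
    fin_cases i <;> simp [M, Matrix.mulVec, dotProduct, sub_eq_add_neg]
  refine ⟨SIso.ofSim e hl fun x => by rw [he, QB_apply, QB_apply, ← hz]; simp; ring,
    rfl, Units.ext rfl, ?_, [z, ![1, 0]], ?_, by simp, by simp [QB_apply, hz], ?_⟩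
  · rw [gdet_eq rfl (g := Matrix.toLin' M) fun _ => rfl, LinearMap.det_toLin', hM, pow_one]
  · simp [QB_apply, hz]
  · refine Gam.ext hQ fun x => ?_
    change e (e x) = (l : F) • (refl _ z).1 ((refl _ ![1, 0] * 1).1 x)
    rw [mul_one, he, he, refl_apply, refl_apply]
    simp only [polar_QB, QB_apply, hz]
    ext i
    fin_cases i
    · simp only [Fin.zero_eta, Matrix.cons_val_zero, Matrix.cons_val_one, Pi.smul_apply,
        Pi.sub_apply, smul_eq_mul, Matrix.cons_val_fin_one]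
      field_simp
      rw [← hz]; ring
    · simp only [Fin.mk_one, Matrix.cons_val_zero, Matrix.cons_val_one, Pi.smul_apply,
        Pi.sub_apply, smul_eq_mul, Matrix.cons_val_fin_one]
      field_simp
      rw [← hz]; ring

lemma IsBasic.gam {V₂ : Type*} [AddCommGroup V₂] [Module F V₂] {Q₂ : QuadraticForm F V₂}
    [FiniteDimensional F V] (e : V ≃ₗ[F] V₂) (he : ∀ x, Q₂ (e x) = Q x) {γ : Gam Q} {l : Fˣ} {k : ℕ}
    (h : IsBasic γ l k) :
    IsBasic ((SIso.ofSim e one_ne_zero (by simpa using he) : SIso Q Q₂).gam γ) l k := by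
  obtain ⟨h1, h2, h3, vs, h4, h5, h6, h7⟩ := h
  set E : SIso Q Q₂ := SIso.ofSim e one_ne_zero (by simpa using he)
  refine ⟨E.gam_σ_eq_one.2 h1, Units.ext (by rw [E.gam_c h1, h2]; rfl),
    by rw [gdet_gam E h1, h3]; rfl, vs.map e, ?_, by simpa using h5, ?_, ?_⟩
  · intro v hv
    obtain ⟨w, hw, rfl⟩ := List.mem_map.1 hv
    rw [he]; exact h4 w hw
  · rw [List.map_map, ← h6]
    congr 1
    exact List.map_congr_left fun v _ => he v
  · rw [← _root_.map_mul, h7, _root_.map_mul, E.gam_scal, E.gam_ofOG, map_list_prod, List.map_map,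
      List.map_map]
    congr 3
    exact List.map_congr_left fun v _ => E.og_refl v

universe u in
theorem exists_basic [Finite F] (l : Fˣ) (k : ℕ) : ∀ {V : Type u} [AddCommGroup V] [Module F V]
    [FiniteDimensional F V] {Q : QuadraticForm F V}, ND Q → finrank F V = 2 * (k + 1) →
    ∃ γ : Gam Q, IsBasic γ l (k + 1) := by
  have base : ∀ {V : Type u} [AddCommGroup V] [Module F V] {Q : QuadraticForm F V}, ND Q →
      finrank F V = 2 → ∃ γ : Gam Q, IsBasic γ l 1 := by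
    intro V _ _ Q hQ hn
    obtain ⟨ζ, h⟩ := hQ.exists_iso_QB hn
    obtain ⟨γ, hγ⟩ := exists_basic_QB (h.symm.nd hQ) l
    obtain ⟨e, he⟩ := h
    exact ⟨_, hγ.gam e he⟩
  induction k with
  | zero => intro V _ _ _ Q hQ hn; exact base hQ hn
  | succ k ih =>
    intro V _ _ _ Q hQ hn
    obtain ⟨e, f, he, hf, hef⟩ := exists_hyp hQ (by omega)
    let D := perpDec (span_inf_perp2 he hf hef)
    have h1 := finrank_perp2 hQ he hef
    have h2 : finrank F V = finrank F (Submodule.span F {e, f}) + finrank F (perp2 Q e f) :=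
      D.finrank_eq
    obtain ⟨γ₁, a1, a2, a3, vs, a4, a5, a6, a7⟩ := base (D.nd_left hQ) (by omega)
    obtain ⟨γ₂, b1, b2, b3, ws, b4, b5, b6, b7⟩ := ih (D.nd_right hQ)
      (show finrank F (perp2 Q e f) = _ by omega)
    have : Nontrivial V := Module.nontrivial_of_finrank_pos (R := F) (by omega)
    refine ⟨D.gam γ₁ γ₂ (b1.trans a1.symm) (b2.trans a2.symm), a1, a2,
      by rw [D.gdet_gam _ _ _ _ a1, a3, b3]; ring,
      (vs.map fun v => D.e (v, 0)) ++ (ws.map fun v => D.swap.e (v, 0)), ?_, ?_, ?_, ?_⟩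
    · intro v hv
      rcases List.mem_append.1 hv with hv | hv
      · exact D.list_ne a4 v hv
      · exact D.swap.list_ne b4 v hv
    · simpa using a5.add b5
    · rw [List.map_append, List.prod_append, D.map_Q_list, D.swap.map_Q_list, a6, b6]; ring
    · rw [List.map_append, List.prod_append, ← D.homL_list, ← D.swap.homL_list, ← D.hom_eq_mul]
      refine Gam.ext hQ fun v => ?_
      obtain ⟨x, y, rfl⟩ := D.surj v
      have e1 := congrArg (fun γ : Gam _ => γ.T x) a7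
      have e2 := congrArg (fun γ : Gam _ => γ.T y) b7
      simp only [Gam.mul_T, scal_T, ofOG_T] at e1 e2
      simp only [Gam.mul_T, ODec.gam_T, scal_T, ofOG_T, ODec.hom_apply, e1, e2, ← map_smul,
        Prod.smul_mk]

/-! ### the class-preservation sign -/

open Classical in
/-- the sign recording whether a similarity preserves the two classes of maximal totally singular
subspaces (over the algebraic closure) -/
noncomputable def delta (γ : Gam Q) : ℤˣ :=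
  if (2 : F) = 0 then
    (if ∃ a : Fˣ, ∃ g, γ = scal Q a * ofOG Q g ∧ dickF g = 1 then 1 else -1)
  else if gdet γ = (γ.c : F) ^ (finrank F V / 2) then 1 else -1

lemma negOne_eq_one (h2 : (2 : F) = 0) : negOne Q = 1 := OG.ext' fun x => by
  rw [negOne_apply, OG.one_apply, neg_eq_iff_add_eq_zero, ← two_smul F, h2, zero_smul]

section even
variable [FiniteDimensional F V]

lemma delta_cast (hQ : ND Q) (h2 : (2 : F) ≠ 0) {k : ℕ} (hn : finrank F V = 2 * k) {γ : Gam Q}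
    (h : γ.σ = 1) : gdet γ = ((delta γ : ℤ) : F) * (γ.c : F) ^ k := by
  have h1 := gdet_sq hQ h
  rw [hn, mul_comm, pow_mul] at h1
  rw [delta, if_neg h2, hn, Nat.mul_div_cancel_left _ two_pos]
  split_ifs with h3
  · simp [h3]
  · simpa using (sq_eq_sq_iff_eq_or_eq_neg.1 h1).resolve_left h3

omit [FiniteDimensional F V] in
lemma units_cast_inj (h2 : (2 : F) ≠ 0) {a b : ℤˣ} (h : ((a : ℤ) : F) = (b : ℤ)) : a = b := by
  rcases Int.units_eq_one_or a with rfl | rfl <;> rcases Int.units_eq_one_or b with rfl | rfl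
  · rfl
  · exact absurd (by simp at h; linear_combination h) h2
  · exact absurd (by simp at h; linear_combination -h) h2
  · rfl

lemma delta_eq_of_gdet (hQ : ND Q) (h2 : (2 : F) ≠ 0) {k : ℕ} (hn : finrank F V = 2 * k)
    {γ : Gam Q} (h : γ.σ = 1) {ε : ℤˣ} (he : gdet γ = ((ε : ℤ) : F) * (γ.c : F) ^ k) :
    delta γ = ε := by
  rw [delta_cast hQ h2 hn h] at he
  exact units_cast_inj h2 (mul_right_cancel₀ (pow_ne_zero _ γ.c.ne_zero) he)

lemma delta_scal_mul_ofOG (hQ : ND Q) (hn : Even (finrank F V)) (a : Fˣ) (g : OG Q) :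
    delta (scal Q a * ofOG Q g) = dickF g := by
  by_cases h2 : (2 : F) = 0
  · rw [delta, if_pos h2]
    split_ifs with h
    · obtain ⟨b, g', e, h⟩ := h
      rcases scal_mul_ofOG_eq e with rfl | rfl
      · exact h.symm
      · rw [negOne_eq_one h2, one_mul, h]
    · exact ((Int.units_eq_one_or _).resolve_left fun h' => h ⟨a, g, rfl, h'⟩).symm
  · obtain ⟨k, hk⟩ := hn
    refine delta_eq_of_gdet hQ h2 (k := k) (by omega) rfl ?_
    rw [gdet_mul rfl rfl, gdet_scal, gdet_ofOG, det_eq_dickF hQ (good_of_two_ne h2),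
      Gam.mul_c_of_lin rfl, hk]
    simp
    ring

lemma delta_ofOG (hQ : ND Q) (hn : Even (finrank F V)) (g : OG Q) :
    delta (ofOG Q g) = dickF g := by simpa using delta_scal_mul_ofOG hQ hn 1 g

lemma delta_scal (hQ : ND Q) (hn : Even (finrank F V)) (a : Fˣ) :
    delta (scal Q a) = 1 := by simpa using delta_scal_mul_ofOG hQ hn a 1

lemma delta_mul [Finite F] (hQ : ND Q) (hG : Good Q) (hn : Even (finrank F V)) {γ δ : Gam Q}
    (h : γ.σ = 1) (h' : δ.σ = 1) : delta (γ * δ) = delta γ * delta δ := by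
  by_cases h2 : (2 : F) = 0
  · obtain ⟨a, g, rfl⟩ := exists_scal_mul_ofOG h (isSquare_of_two_eq_zero h2 _)
    obtain ⟨b, g', rfl⟩ := exists_scal_mul_ofOG h' (isSquare_of_two_eq_zero h2 _)
    rw [delta_scal_mul_ofOG hQ hn, delta_scal_mul_ofOG hQ hn, ← dickF_mul hQ hG,
      ← delta_scal_mul_ofOG hQ hn (a * b), _root_.map_mul, _root_.map_mul, mul_assoc,
      ← mul_assoc (ofOG Q g), scal_comm rfl]
    simp only [mul_assoc]
  · obtain ⟨k, hk⟩ := hn
    refine delta_eq_of_gdet hQ h2 (k := k) (by omega) (by simp [h, h']) ?_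
    rw [gdet_mul h h', delta_cast hQ h2 (k := k) (by omega) h,
      delta_cast hQ h2 (k := k) (by omega) h', Gam.mul_c_of_lin h]
    simp
    ring

lemma delta_gam [Finite F] {F₂ V₂ : Type*} [Field F₂] [AddCommGroup V₂] [Module F₂ V₂]
    {Q₂ : QuadraticForm F₂ V₂} (hQ : ND Q) (hn : Even (finrank F V)) (e : SIso Q Q₂) {γ : Gam Q}
    (h : γ.σ = 1) : delta (e.gam γ) = delta γ := by
  have := e.finiteDimensional
  have hn' : Even (finrank F₂ V₂) := by rwa [e.finrank_eq]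
  by_cases h2 : (2 : F) = 0
  · obtain ⟨a, g, rfl⟩ := exists_scal_mul_ofOG h (isSquare_of_two_eq_zero h2 _)
    rw [_root_.map_mul, e.gam_scal, e.gam_ofOG, delta_scal_mul_ofOG hQ hn,
      delta_scal_mul_ofOG (e.nd hQ) hn', e.dickF_og]
  · obtain ⟨k, hk⟩ := hn
    have h2' : (2 : F₂) ≠ 0 := fun h => h2 (e.σ.injective (by rw [map_ofNat, h, map_zero]))
    refine delta_eq_of_gdet (e.nd hQ) h2' (k := k) (by rw [e.finrank_eq]; omega)
      (e.gam_σ_eq_one.2 h) ?_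
    rw [gdet_gam e h, delta_cast hQ h2 (k := k) (by omega) h, e.gam_c h]
    simp

lemma delta_conj [Finite F] (hQ : ND Q) (hn : Even (finrank F V)) (e : Gam Q) {γ : Gam Q}
    (h : γ.σ = 1) : delta (e * γ * e⁻¹) = delta γ := by
  rw [← gam_eq_conj, delta_gam hQ hn e h]

/-- `delta` as a homomorphism -/
noncomputable def deltaH [Finite F] (hQ : ND Q) (hG : Good Q) (hn : Even (finrank F V)) :
    GO Q →* ℤˣ where
  toFun γ := delta γ.1
  map_one' := by simpa using delta_scal hQ hn 1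
  map_mul' γ δ := delta_mul hQ hG hn γ.2 δ.2

lemma delta_inv [Finite F] (hQ : ND Q) (hG : Good Q) (hn : Even (finrank F V)) {γ : Gam Q}
    (h : γ.σ = 1) : delta γ⁻¹ = delta γ := by
  have := (deltaH hQ hG hn).map_inv ⟨γ, h⟩
  rwa [Int.units_inv_eq_self] at this

/-- the class-preserving similarities -/
def GOp [Finite F] (hQ : ND Q) (hG : Good Q) (hn : Even (finrank F V)) : Subgroup (Gam Q) where
  carrier := {γ | γ.σ = 1 ∧ delta γ = 1}
  one_mem' := ⟨rfl, by simpa using delta_scal hQ hn 1⟩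
  mul_mem' {a b} ha hb := ⟨by simp [ha.1, hb.1], by rw [delta_mul hQ hG hn ha.1 hb.1, ha.2, hb.2, mul_one]⟩
  inv_mem' {a} ha := ⟨by simp [ha.1], by rw [delta_inv hQ hG hn ha.1, ha.2]⟩

lemma mem_GOp [Finite F] {hQ : ND Q} {hG : Good Q} {hn : Even (finrank F V)} {γ : Gam Q} :
    γ ∈ GOp hQ hG hn ↔ γ.σ = 1 ∧ delta γ = 1 := Iff.rfl

instance GOp_normal [Finite F] (hQ : ND Q) (hG : Good Q) (hn : Even (finrank F V)) :
    (GOp hQ hG hn).Normal :=
  ⟨fun γ h e => ⟨by simp [h.1], by rw [delta_conj hQ hn e h.1, h.2]⟩⟩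

end even

/-! ### diagonal similarities of the hyperbolic form -/

/-- diagonal similarities -/
def diagG {κ : Type*} [Fintype κ] (D : κ ⊕ κ → Fˣ) (c : Fˣ)
    (h : ∀ i, D (Sum.inl i) * D (Sum.inr i) = c) : Gam (QH κ F) :=
  SIso.ofSim (LinearEquiv.piCongrRight fun i => LinearEquiv.smulOfUnit (D i)) c.ne_zero fun x => by
    rw [QH_apply, QH_apply, Finset.mul_sum]
    refine Finset.sum_congr rfl fun i _ => ?_
    change (D (Sum.inl i) * x _) * (D (Sum.inr i) * x _) = _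
    rw [← h i, Units.val_mul]; ring

section diag
variable {κ : Type*} [Fintype κ] (D : κ ⊕ κ → Fˣ) (c : Fˣ)
  (h : ∀ i, D (Sum.inl i) * D (Sum.inr i) = c)

@[simp] lemma diagG_T (x : κ ⊕ κ → F) (i : κ ⊕ κ) : (diagG D c h).T x i = D i * x i := rfl
@[simp] lemma diagG_σ : (diagG D c h).σ = 1 := rfl
@[simp] lemma diagG_c : (diagG D c h).c = c := Units.ext rfl

lemma gdet_diagG : gdet (diagG D c h) = (c : F) ^ Fintype.card κ := by
  classical
  rw [gdet_eq rfl (g := Matrix.toLin' (Matrix.diagonal fun i => (D i : F))) (fun x => by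
    ext i; simp [Matrix.mulVec_diagonal]), LinearMap.det_toLin', Matrix.det_diagonal,
    Fintype.prod_sum_type, ← Finset.prod_mul_distrib]
  simp only [← Units.val_mul, h]
  simp

lemma diagG_mapS_stdE : (diagG D c h).mapS (stdE κ F) = stdE κ F := by
  ext y
  obtain ⟨x, rfl⟩ := (diagG D c h).T.surjective y
  rw [SIso.T_mem_mapS, mem_stdE, mem_stdE]
  simp

end diag

lemma mapS_ofOG (g : OG Q) (U : Submodule F V) : (ofOG Q g).mapS U = U.map g.1.toLinearMap := by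
  ext y
  rw [Submodule.mem_map_equiv]; rfl

lemma mapS_mul (γ δ : Gam Q) (U : Submodule F V) : (γ * δ).mapS U = γ.mapS (δ.mapS U) := rfl

lemma mapS_scal (a : Fˣ) (U : Submodule F V) : (scal Q a).mapS U = U := by
  ext y
  obtain ⟨x, rfl⟩ := (scal Q a).T.surjective y
  rw [SIso.T_mem_mapS, scal_T, U.smul_mem_iff a.ne_zero]

lemma MTS.iso_QP [FiniteDimensional F V] (hQ : ND Q) {E : Submodule F V} (hE : MTS Q E) :
    Iso (QP (finrank F E) F) Q := by
  obtain ⟨W, D, -⟩ := hE.1.exists_hypDec hQ rfl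
  have h1 := D.finrank_eq
  have h2 := hE.2
  simp only [finrank_fintype_fun_eq_card, Fintype.card_sum, Fintype.card_fin] at h1
  have : Subsingleton W := (Module.finrank_zero_iff (R := F)).1 (by omega)
  exact D.iso_of_subsingleton

lemma MTS.exists_fix [FiniteDimensional F V] (hQ : ND Q) {E : Submodule F V} (hE : MTS Q E)
    (l : Fˣ) : ∃ γ : Gam Q, γ.σ = 1 ∧ γ.c = l ∧ gdet γ = (l : F) ^ finrank F E ∧ γ.mapS E = E := by
  obtain ⟨e, he⟩ := hE.iso_QP hQ
  let E1 : SIso (QP (finrank F E) F) Q := SIso.ofSim e one_ne_zero (by simpa using he)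
  obtain ⟨g, hg⟩ := (E1.mapS_TS MTS_stdE.1).exists_map_eq hQ hE.1 (by
    rw [E1.finrank_mapS, finrank_stdE, Fintype.card_fin])
  let E2 := E1.trans (ofOG Q g)
  have h2 : E2.mapS (stdE _ F) = E := by rw [← mapS_ofOG] at hg; exact hg
  let d : Gam (QP (finrank F E) F) := diagG (Sum.elim (fun _ => l) fun _ => 1) l (by simp)
  refine ⟨E2.gam d, E2.gam_σ_eq_one.2 rfl, Units.ext (E2.gam_c rfl), ?_, ?_⟩
  · rw [gdet_gam E2 rfl, gdet_diagG, Fintype.card_fin]; rfl
  · ext y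
    obtain ⟨x, rfl⟩ := (E2.gam d).T.surjective y
    obtain ⟨x, rfl⟩ := E2.T.surjective x
    rw [SIso.T_mem_mapS, SIso.gam_T, SIso.symm_T_T]
    have h3 : ∀ x, E2.T x ∈ E ↔ x ∈ stdE _ F := fun x => by
      rw [← E2.T_mem_mapS, h2]
    rw [h3, h3, mem_stdE, mem_stdE]
    simp [d]

theorem MTS.even_iff_delta [Finite F] [FiniteDimensional F V] (hQ : ND Q) (hG : Good Q)
    {E : Submodule F V} (hE : MTS Q E) {γ : Gam Q} (h : γ.σ = 1) :
    Even (finrank F E - finrank F ↥(E ⊓ γ.mapS E)) ↔ delta γ = 1 := by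
  have hn : Even (finrank F V) := ⟨finrank F E, by rw [← hE.2]; ring⟩
  obtain ⟨d, d1, d2, d3, d4⟩ := hE.exists_fix hQ γ.c
  obtain ⟨g, hg⟩ := exists_ofOG (γ := γ * d⁻¹) (by simp [h, d1])
    (by rw [Gam.mul_c_of_lin h, Gam.inv_c_of_lin d1, d2, mul_inv_cancel])
  have e : γ = ofOG Q g * d := by rw [hg]; group
  have hd : delta d = 1 := by
    by_cases h2 : (2 : F) = 0
    · obtain ⟨a, g, rfl⟩ := exists_scal_mul_ofOG d1 (isSquare_of_two_eq_zero h2 _)
      rw [mapS_mul, mapS_scal, mapS_ofOG] at d4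
      rw [delta_scal_mul_ofOG hQ hn, ← hE.even_iff_dickF hQ hG, d4, inf_idem, Nat.sub_self]
      exact Even.zero
    · exact delta_eq_of_gdet hQ h2 hE.2.symm d1 (by simp [d3, d2])
  rw [e, mapS_mul, d4, mapS_ofOG, hE.even_iff_dickF hQ hG, delta_mul hQ hG hn rfl d1, hd, mul_one,
    delta_ofOG hQ hn]

end CfsgH8
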