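/-
Folding `D₄` to `G₂`.
-/
import Cfsg.Agent.H8.Fold
import Cfsg.Agent.H8.CkD4
import Cfsg.Agent.H8.CkG2

set_option autoImplicit false
set_option linter.unusedSectionVars false
set_option maxRecDepth 100000

namespace CfsgH8

open Matrix CfsgH5 Cfsg.Lie Chev

noncomputable section

section rect

variable {ι κ μ F : Type*} [Field F] [Fintype κ] [Fintype μ]

/-- rectangular version of `Rp` -/
def Rq (code : ι → ℕ) (N : ℕ) (code' : κ → ℕ) (N' : ℕ) (t u : F) (M : Matrix ι κ F)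
    (φ : List En → List En) : Prop :=
  ∀ v, (∀ e ∈ v, e.r < N') → (∀ e ∈ φ v, e.r < N) ∧ M *ᵥ valL code' t u v = valL code t u (φ v)

variable {code : ι → ℕ} {N : ℕ} {code' : κ → ℕ} {N' : ℕ} {code'' : μ → ℕ} {N'' : ℕ} {t u : F}

theorem Rq.mul {M : Matrix ι κ F} {M' : Matrix κ μ F} {φ φ' : List En → List En}
    (h : Rq code N code' N' t u M φ) (h' : Rq code' N' code'' N'' t u M' φ') :
    Rq code N code'' N'' t u (M * M') fun v => φ (φ' v) := fun v hv =>
  ⟨(h _ (h' v hv).1).1, by rw [← mulVec_mulVec, (h' v hv).2, (h _ (h' v hv).1).2]⟩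

theorem Rq.eq [DecidableEq κ] (hc : Function.Injective code') (hN : ∀ i, code' i < N')
    {M M' : Matrix ι κ F} {φ φ' : List En → List En} (h : Rq code N code' N' t u M φ)
    (h' : Rq code N code' N' t u M' φ')
    (he : ∀ c < N', eqV (φ [⟨c, 0, 0, 1⟩]) (φ' [⟨c, 0, 0, 1⟩]) = true) : M = M' := by
  ext i j
  have e1 := (h [⟨code' j, 0, 0, 1⟩] (by simp [hN])).2
  have e2 := (h' [⟨code' j, 0, 0, 1⟩] (by simp [hN])).2
  rw [valL_of_eqV code t u (he _ (hN j)), ← e2] at e1
  have e3 : valL code' t u [⟨code' j, 0, 0, 1⟩] = Pi.single j 1 := by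
    ext k; simp [valL, bas, hc.eq_iff, Pi.single_apply]
  rw [e3, mulVec_single_one, mulVec_single_one] at e1
  exact congrFun e1 i

/-- rectangular constant matrix -/
def NR (F : Type*) [Field F] (code : ι → ℕ) (code' : κ → ℕ) (col : ℕ → List Ce) : Matrix ι κ F :=
  Matrix.of fun i j => ((col (code' j)).map fun q => (q.m : F) • bas F code q.r).sum i

theorem rq_NR [DecidableEq κ] (hc : Function.Injective code') (hs : ∀ n < N', ∃ i, code' i = n)
    {col : ℕ → List Ce} (h : ∀ n < N', ∀ q ∈ col n, q.r < N) :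
    Rq code N code' N' t u (NR F code code' col) (appN col) := by
  intro v hv
  induction v with
  | nil => exact ⟨by simp [appN], by simp [valL, appN]⟩
  | cons e v ih =>
    have ih := ih fun e he => hv e (List.mem_cons_of_mem _ he)
    have he := hv e List.mem_cons_self
    rw [appN_cons, valL_cons, mulVec_add, mulVec_smul, ih.2, valL_append]
    refine ⟨fun e' he' => (List.mem_append.1 he').elim (fun he' => ?_) (ih.1 e'), ?_⟩
    · obtain ⟨q, hq, rfl⟩ := List.mem_map.1 he'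
      exact h _ he q hq
    congr 1
    obtain ⟨j, hj⟩ := hs _ he
    have e3 : bas F code' (code' j) = Pi.single j 1 := by
      ext k; simp [bas, hc.eq_iff, Pi.single_apply]
    rw [← hj, e3, mulVec_single_one]
    have : (NR F code code' col).col j =
      ((col (code' j)).map fun q => (q.m : F) • bas F code q.r).sum := rfl
    rw [this, List.smul_sum, valL, List.map_map, List.map_map]
    congr 1
    refine List.map_congr_left fun q _ => ?_
    simp only [Function.comp, smul_smul]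
    congr 1
    push_cast
    ring

theorem NR_apply {col : ℕ → List Ce} (i : ι) (j : κ) : NR F code code' col i j =
    ((((col (code' j)).filter fun q => q.r = code i).map fun q => q.m).sum : ℤ) := by
  change ((col (code' j)).map fun q => (q.m : F) • bas F code q.r).sum i = _
  induction col (code' j) with
  | nil => simp
  | cons q L ih =>
    rw [List.map_cons, List.sum_cons, Pi.add_apply, ih, List.filter_cons]
    by_cases h : q.r = code i
    · simp [h, bas]
    · simp [h, bas, Ne.symm h]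

theorem NR_ne {col : ℕ → List Ce} {i : ι} {j : κ} (h : NR F code code' col i j ≠ 0) :
    ∃ q ∈ col (code' j), q.r = code i := by
  by_contra h'
  push Not at h'
  apply h
  rw [NR_apply, List.filter_eq_nil_iff.2 (by simpa using h')]
  simp

end rect

theorem hom_ext_single {l M : Type*} [Fintype l] [DecidableEq l] [AddCommGroup M]
    {φ ψ : (l → ℤ) →+ M} (h : ∀ j, φ (Pi.single j 1) = ψ (Pi.single j 1)) : φ = ψ := by
  ext j
  exact h j

theorem Tab.Ok.extra {D : ChevalleyDatum} {T : Tab} (h : T.Ok D) (F : Type*) [Field F]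
    (hη : ∀ i < D.rank, ∀ s < D.nroots, T.eta i (T.ng s) = T.eta i s) : (h.chev F).Extra where
  mult k s e := by
    rcases k with i | r
    · exact absurd (by rw [← e]; exact congrArg _ ((h.chev F).wt_hb i) |>.trans (map_zero _))
        ((h.chev F).f_ne s)
    · exact congrArg Sum.inr ((h.chev F).rt_inj (((h.chev F).wt_e r).symm.trans e))
  eta i s := by
    have key : ∀ s t, (h.chev F).n i * (h.chev F).x s t * ((h.chev F).n i)⁻¹ =
        (h.chev F).x ((h.chev F).w i s) (T.eta i s * t) := fun s t => by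
      rw [mul_inv_eq_iff_eq_mul]
      refine Units.ext ?_
      have := h.c4' F i.2 s.2 t
      rw [← (h.c3' F i.2).1] at this
      exact this
    refine ⟨T.eta i s, h.eta_sq F _ _, key s, fun t => ?_⟩
    rw [key, w_neg, ← hη i i.2 s s.2]; rfl

namespace D4

def f24 (n : ℕ) : Fin chevD4.nroots := ⟨n % 24, Nat.mod_lt _ (by decide)⟩
def f12 (n : ℕ) : Fin chevG2.nroots := ⟨n % 12, Nat.mod_lt _ (by decide)⟩
def f4 (n : ℕ) : Fin chevD4.rank := ⟨n % 4, Nat.mod_lt _ (by decide)⟩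
def f2 (n : ℕ) : Fin chevG2.rank := ⟨n % 2, Nat.mod_lt _ (by decide)⟩

def piN (r : ℕ) : ℕ :=
  [0, 1, 6, 2, 7, 10, 3, 8, 4, 9, 11, 5, 18, 12, 14, 19, 15, 20, 13, 16, 21, 17, 22, 23].getD r 0
def epsN (r : ℕ) : ℤ :=
  [1, 1, -1, 1, -1, 1, -1, 1, -1, 1, 1, 1, 1, 1, 1, -1, 1, -1, 1, -1, 1, -1, 1, 1].getD r 0
def soN (r : ℕ) : ℕ :=
  [0, 1, 2, 2, 3, 4, 2, 3, 3, 5, 4, 4, 7, 7, 6, 8, 8, 9, 7, 8, 9, 9, 10, 11].getD r 0
def o1 (s : ℕ) : ℕ := [0, 1, 2, 4, 5, 9, 14, 12, 15, 17, 22, 23].getD s 0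
def o2 (s : ℕ) : ℕ := [0, 1, 6, 7, 10, 9, 14, 18, 19, 20, 22, 23].getD s 0
def o3 (s : ℕ) : ℕ := [0, 1, 3, 8, 11, 9, 14, 13, 16, 21, 22, 23].getD s 0
def k1 (s : ℕ) : ℤ := [-1, -1, -1, 1, 1, 1, 1, 1, -1, 1, -1, -1].getD s 0
def k2 (s : ℕ) : ℤ := [-1, -1, 1, -1, 1, 1, 1, 1, 1, -1, -1, -1].getD s 0
def k3 (s : ℕ) : ℤ := [-1, -1, -1, -1, 1, 1, 1, 1, -1, -1, -1, -1].getD s 0
def rho (i : ℕ) : ℕ := [2, 1, 3, 0].getD i 0
def rhoI (i : ℕ) : ℕ := [3, 1, 0, 2].getD i 0
def colT (c : ℕ) : List Ce := if c < 4 then [⟨rho c, 0, 1⟩] else [⟨4 + piN (c - 4), 0, epsN (c - 4)⟩]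
def colP (c : ℕ) : List Ce := if c = 0 then [⟨0, 0, 1⟩, ⟨2, 0, 1⟩, ⟨3, 0, 1⟩] else
  if c = 1 then [⟨1, 0, 1⟩] else if o1 (c - 2) = o2 (c - 2) then [⟨4 + o1 (c - 2), 0, k1 (c - 2)⟩] else
    [⟨4 + o1 (c - 2), 0, k1 (c - 2)⟩, ⟨4 + o2 (c - 2), 0, k2 (c - 2)⟩, ⟨4 + o3 (c - 2), 0, k3 (c - 2)⟩]
def colL (c : ℕ) : List Ce := if c < 2 then [⟨c, 0, 1⟩] else if c < 4 then [] else
  if o1 (soN (c - 4)) = c - 4 then [⟨2 + soN (c - 4), 0, k1 (soN (c - 4))⟩] else []

def cX (r : ℕ) : ℕ → List Ce := tabD4.colF chevD4 (r % 24)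

def yF (s : ℕ) (c : ℤ) (i j : ℕ) (v : List En) : List En :=
  if o1 s = o2 s then appX (cX (o1 s)) (k1 s * c) i j v else
    appX (cX (o1 s)) (k1 s * c) i j (appX (cX (o2 s)) (k2 s * c) i j (appX (cX (o3 s)) (k3 s * c) i j v))

variable (F : Type*) [Field F]

abbrev CD := okD4.chev F
abbrev CG := okG2.chev F

def y (s : Fin chevG2.nroots) (t : F) : GL chevD4.Idx F :=
  if o1 s = o2 s then (CD F).x (f24 (o1 s)) (k1 s * t) else
    (CD F).x (f24 (o1 s)) (k1 s * t) * (CD F).x (f24 (o2 s)) (k2 s * t) * (CD F).x (f24 (o3 s)) (k3 s * t)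

abbrev RD (t u : F) := Rp (codeD chevD4) (chevD4.rank + chevD4.nroots) t u

theorem rpx (r : ℕ) (t u : F) (c : ℤ) (i j : ℕ) {τ : F} (hτ : τ = c * t ^ i * u ^ j) :
    RD F t u ((CD F).x (f24 r) τ : Matrix _ _ F) (appX (cX r) c i j) :=
  okD4.rpX F (f24 r).2 t u c i j hτ

theorem rpy (s : Fin chevG2.nroots) (t u : F) (c : ℤ) (i j : ℕ) {τ : F} (hτ : τ = c * t ^ i * u ^ j) :
    RD F t u (y F s τ : Matrix _ _ F) (yF s c i j) := by
  unfold y yF
  split_ifs
  · exact rpx F _ t u _ i j (by rw [hτ]; push_cast; ring)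
  · rw [Units.val_mul, Units.val_mul, Matrix.mul_assoc]
    exact (rpx F _ t u _ i j (by rw [hτ]; push_cast; ring)).mul
      ((rpx F _ t u _ i j (by rw [hτ]; push_cast; ring)).mul
        (rpx F _ t u _ i j (by rw [hτ]; push_cast; ring)))

theorem rpT (t u : F) : RD F t u (NM F (codeD chevD4) colT) (appN colT) :=
  rp_NM (codeD_inj _) (codeD_surj _) (by decide +kernel)

/-- the triality matrix -/
def T : GL chevD4.Idx F :=
  ⟨NM F (codeD chevD4) colT, NM F (codeD chevD4) colT * NM F (codeD chevD4) colT,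
    Rp.eq (t := 1) (u := 1) (codeD_inj _) (codeD_lt _) ((rpT F 1 1).mul ((rpT F 1 1).mul (rpT F 1 1)))
      Rp.one (by decide +kernel),
    Rp.eq (t := 1) (u := 1) (codeD_inj _) (codeD_lt _) (((rpT F 1 1).mul (rpT F 1 1)).mul (rpT F 1 1))
      Rp.one (by decide +kernel)⟩

def piF (r : Fin chevD4.nroots) : Fin chevD4.nroots := f24 (piN r)

theorem f24_val (r : Fin chevD4.nroots) : f24 r = r := Fin.ext (Nat.mod_eq_of_lt r.2)

theorem T_x (r : Fin chevD4.nroots) (t : F) :
    T F * (CD F).x r t * (T F)⁻¹ = (CD F).x (piF r) (epsN r * t) := by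
  rw [mul_inv_eq_iff_eq_mul]
  have : ∀ r : Fin chevD4.nroots, ∀ c < chevD4.rank + chevD4.nroots,
      eqV (appN colT (appX (cX r) 1 1 0 [⟨c, 0, 0, 1⟩]))
        (appX (cX (piN r)) (epsN r) 1 0 (appN colT [⟨c, 0, 0, 1⟩])) = true := by decide +kernel
  have h := Rp.eq (t := t) (u := 1) (codeD_inj _) (codeD_lt _)
    ((rpT F t 1).mul (rpx F r t 1 1 1 0 (τ := t) (by simp)))
    ((rpx F (piN r) t 1 (epsN r) 1 0 (τ := epsN r * t) (by simp)).mul (rpT F t 1)) (this r)
  rw [f24_val] at h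
  exact Units.ext h

def aL : (Fin chevD4.rank → ℤ) →+ (Fin chevD4.rank → ℤ) where
  toFun v j := v (f4 (rhoI j))
  map_zero' := rfl
  map_add' _ _ := rfl

def prL : (Fin chevD4.rank → ℤ) →+ (Fin chevG2.rank → ℤ) where
  toFun v j := if j.val = 0 then v (f4 0) + v (f4 2) + v (f4 3) else v (f4 1)
  map_zero' := by funext j; simp
  map_add' a b := by funext j; simp only [Pi.add_apply]; split_ifs <;> ring

def secL : (Fin chevG2.rank → ℤ) →+ (Fin chevD4.rank → ℤ) where
  toFun v j := if j.val = 0 then v (f2 0) else if j.val = 1 then v (f2 1) else 0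
  map_zero' := by funext j; simp
  map_add' a b := by funext j; simp only [Pi.add_apply]; split_ifs <;> ring

theorem extra : (CD F).Extra := okD4.extra F (by decide +kernel)

theorem acts : (CD F).Acts (T F) aL piF where
  inj a b h := funext fun j => by
    have : ∀ j : Fin chevD4.rank, f4 (rhoI (f4 (rho j))) = j := by decide +kernel
    rw [← this j]; exact congrFun h (f4 (rho j))
  rt s := funext fun j => by
    have : ∀ (s : Fin chevD4.nroots) (j : Fin chevD4.rank),
      tabD4.rtc (piF s) j = tabD4.rtc s (f4 (rhoI j)) := by decide +kernel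
    exact this s j
  wt i j h := funext fun k => by
    obtain ⟨q, hq, e⟩ := NM_ne h
    have : ∀ c < chevD4.rank + chevD4.nroots, ∀ q ∈ colT c, ∀ k : Fin chevD4.rank,
      tabD4.wtN q.r k = tabD4.wtN c (f4 (rhoI k)) := by decide +kernel
    exact (congrArg (fun n => tabD4.wtN n k) e).symm.trans (this _ (codeD_lt _ j) q hq k)
  conj s := by
    have : ∀ s : Fin chevD4.nroots, epsN s * epsN s = 1 ∧ epsN (tabD4.ng s) = epsN s ∧
      piN (tabD4.ng s) % 24 = tabD4.ng (piN s % 24) := by decide +kernel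
    refine ⟨epsN s, by exact_mod_cast congrArg (Int.cast (R := F)) (this s).1, T_x F s, fun t => ?_⟩
    rw [T_x, ← (this s).2.1]
    exact congrArg (fun r => (CD F).x r _) (Fin.ext (this s).2.2)

def J (i : Fin chevD4.rank) : List (Fin chevD4.rank) := if i.val = 1 then [f4 1] else [f4 0, f4 2, f4 3]

def wrN (i : ℕ) (s : ℕ) : ℕ := if i = 1 then tabD4.wf 1 s else tabD4.wf 0 (tabD4.wf 2 (tabD4.wf 3 s))

theorem wr_J (i : Fin chevD4.rank) (s : Fin chevD4.nroots) : ((CD F).wr (J i) s).val = wrN i s := by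
  unfold J wrN
  split_ifs <;> rfl

theorem rqP (t u : F) : Rq (codeD chevD4) (chevD4.rank + chevD4.nroots) (codeD chevG2)
    (chevG2.rank + chevG2.nroots) t u (NR F (codeD chevD4) (codeD chevG2) colP) (appN colP) :=
  rq_NR (codeD_inj _) (codeD_surj _) (by decide +kernel)

theorem J_mem (i : Fin chevD4.rank) :
    (CD F).nw (J i) ∈ Subgroup.closure {g | ∃ s t, g = y F s t} := by
  have m : ∀ s t, y F s t ∈ Subgroup.closure {g | ∃ s t, g = y F s t} := fun s t =>
    Subgroup.subset_closure ⟨s, t, rfl⟩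
  have rn : ∀ a b : ℕ, RD F 1 1 (((CD F).x (f24 a) 1 * (CD F).x (f24 b) (-1) * (CD F).x (f24 a) 1 :
      GL _ F) : Matrix _ _ F) fun v =>
        appX (cX a) 1 0 0 (appX (cX b) (-1) 0 0 (appX (cX a) 1 0 0 v)) := fun a b =>
    ((rpx F a 1 1 1 0 0 (by simp)).mul (rpx F b 1 1 (-1) 0 0 (by simp))).mul
      (rpx F a 1 1 1 0 0 (by simp))
  have ry : ∀ a b, RD F 1 1 ((y F a 1 * y F b (-1) * y F a 1 : GL _ F) : Matrix _ _ F) fun v =>
        yF a 1 0 0 (yF b (-1) 0 0 (yF a 1 0 0 v)) := fun a b =>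
    ((rpy F a 1 1 1 0 0 (by simp)).mul (rpy F b 1 1 (-1) 0 0 (by simp))).mul
      (rpy F a 1 1 1 0 0 (by simp))
  unfold J
  split_ifs
  · have : (CD F).nw [f4 1] = y F (f12 6) 1 * y F (f12 5) (-1) * y F (f12 6) 1 := Units.ext
      (Rp.eq (codeD_inj _) (codeD_lt _) ((rn 14 9).mul Rp.one) (ry _ _) (by decide +kernel))
    rw [this]; exact mul_mem (mul_mem (m _ _) (m _ _)) (m _ _)
  · have : (CD F).nw [f4 0, f4 2, f4 3] = y F (f12 7) 1 * y F (f12 4) (-1) * y F (f12 7) 1 :=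
      Units.ext (Rp.eq (codeD_inj _) (codeD_lt _)
        ((rn 18 5).mul ((rn 13 10).mul ((rn 12 11).mul Rp.one))) (ry _ _) (by decide +kernel))
    rw [this]; exact mul_mem (mul_mem (m _ _) (m _ _)) (m _ _)

theorem f_rt (r : Fin chevD4.nroots) : (CD F).f ((CD F).rt r) = tabD4.fv r := (okD4.fv_eq r).symm

theorem f_rt' (r : Fin chevG2.nroots) : (CG F).f ((CG F).rt r) = tabG2.fv r := (okG2.fv_eq r).symm

theorem pi_p (i : Fin chevD4.rank) : piF ((CD F).p i) = (CD F).p (f4 (rho i)) := by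
  have : ∀ i : Fin chevD4.rank, piN (tabD4.si i) % 24 = tabD4.si (f4 (rho i)) := by decide +kernel
  exact Fin.ext (this i)

theorem pi_p0 : piF ((CD F).p (f4 0)) = (CD F).p (f4 2) :=
  (pi_p F _).trans (congrArg _ (by decide +kernel))
theorem pi_p2 : piF ((CD F).p (f4 2)) = (CD F).p (f4 3) :=
  (pi_p F _).trans (congrArg _ (by decide +kernel))
theorem pi_p3 : piF ((CD F).p (f4 3)) = (CD F).p (f4 0) :=
  (pi_p F _).trans (congrArg _ (by decide +kernel))

theorem w_p_fix (i j : Fin chevD4.rank) (h : i.val ≠ 1 ∧ j.val ≠ 1 ∧ i ≠ j) :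
    (CD F).w i ((CD F).p j) = (CD F).p j := by
  have : ∀ i j : Fin chevD4.rank, i.val ≠ 1 ∧ j.val ≠ 1 ∧ i ≠ j →
    tabD4.wf i (tabD4.si j) = tabD4.si j := by decide +kernel
  exact Fin.ext (this i j h)

theorem J_dec (L : List (Fin chevD4.rank)) (i : Fin chevD4.rank)
    (h : ∀ s, piF ((CD F).wr L s) = (CD F).wr L (piF s))
    (hi : (CD F).f ((CD F).rt ((CD F).wr L ((CD F).p i))) < 0) :
    (CD F).ninv ((CD F).wr (L ++ J i)) < (CD F).ninv ((CD F).wr L) := by
  have key : ∀ L i, (CD F).f ((CD F).rt ((CD F).wr L ((CD F).p i))) < 0 →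
      (CD F).ninv ((CD F).wr (L ++ [i])) < (CD F).ninv ((CD F).wr L) := fun L i hi => by
    rw [show (CD F).wr (L ++ [i]) = (CD F).wr L ∘ (CD F).w i from funext ((CD F).wr_append L [i])]
    exact (CD F).ninv_lt ((extra F).acts_nw L).pi_neg hi
  unfold J
  split_ifs with h1
  · obtain rfl : i = f4 1 := Fin.ext h1
    exact key L _ hi
  · have sg : ∀ r, (CD F).f ((CD F).rt r) < 0 → (CD F).f ((CD F).rt (piF r)) < 0 := by
      simp only [f_rt]; decide +kernel
    have p0 := pi_p0 F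
    have p2 := pi_p2 F
    have p3 := pi_p3 F
    have s0 := sg ((CD F).wr L ((CD F).p (f4 0)))
    have s2 := sg ((CD F).wr L ((CD F).p (f4 2)))
    have s3 := sg ((CD F).wr L ((CD F).p (f4 3)))
    rw [h, p0] at s0; rw [h, p2] at s2; rw [h, p3] at s3
    have hi' : i = f4 0 ∨ i = f4 2 ∨ i = f4 3 := by clear hi; revert i; decide +kernel
    have h0 : (CD F).f ((CD F).rt ((CD F).wr L ((CD F).p (f4 0)))) < 0 := by
      rcases hi' with rfl | rfl | rfl
      exacts [hi, s3 (s2 hi), s3 hi]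
    have w02 : (CD F).wr [f4 0] ((CD F).p (f4 2)) = (CD F).p (f4 2) :=
      w_p_fix F _ _ (by decide +kernel)
    have w03 : (CD F).wr [f4 0, f4 2] ((CD F).p (f4 3)) = (CD F).p (f4 3) :=
      (congrArg _ (w_p_fix F (f4 2) _ (by decide +kernel))).trans (w_p_fix F _ _ (by decide +kernel))
    have a1 := key L _ h0
    have a2 := key (L ++ [f4 0]) (f4 2) (by rw [wr_append, w02]; exact s0 h0)
    have a3 := key (L ++ [f4 0, f4 2]) (f4 3) (by rw [wr_append, w03]; exact s2 (s0 h0))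
    simp only [List.append_assoc, List.cons_append, List.nil_append] at a2 a3
    omega

/-- the folding -/
def fold : Fold (CD F) (CG F) where
  T := T F
  a := aL
  π := piF
  eps r := epsN r
  pr := prL
  so r := f12 (soN r)
  y := y F
  J := J
  jo i := if i.val = 1 then f2 1 else f2 0
  P := NR F (codeD chevD4) (codeD chevG2) colP
  Lm := NR F (codeD chevG2) (codeD chevD4) colL
  extra := extra F
  acts := acts F
  T_x := T_x F
  rt_so r := funext fun j => by
    have : ∀ (r : Fin chevD4.nroots) (j : Fin chevG2.rank),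
      tabG2.rtc (f12 (soN r)) j = prL (fun k => tabD4.rtc r k) j := by decide +kernel
    exact this r j
  so_π := by decide +kernel
  orb s := by
    by_cases h : o1 s = o2 s
    · have : ∀ s : Fin chevG2.nroots, o1 s = o2 s → k1 s * k1 s = 1 ∧
        ∀ r : Fin chevD4.nroots, f12 (soN r) = s ↔ r = f24 (o1 s) := by decide +kernel
      exact .inl ⟨_, k1 s, by exact_mod_cast congrArg (Int.cast (R := F)) (this s h).1,
        (this s h).2, fun t => if_pos h⟩
    · have : ∀ s : Fin chevG2.nroots, ¬o1 s = o2 s → f24 (o1 s) ≠ f24 (o2 s) ∧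
        f24 (o1 s) ≠ f24 (o3 s) ∧ f24 (o2 s) ≠ f24 (o3 s) ∧ k1 s * k1 s = 1 ∧
        piF (f24 (o1 s)) = f24 (o2 s) ∧ piF (f24 (o2 s)) = f24 (o3 s) ∧
        piF (f24 (o3 s)) = f24 (o1 s) ∧ k2 s = epsN (f24 (o1 s)) * k1 s ∧
        k3 s = epsN (f24 (o2 s)) * k2 s ∧ ∀ r : Fin chevD4.nroots, f12 (soN r) = s ↔
          r = f24 (o1 s) ∨ r = f24 (o2 s) ∨ r = f24 (o3 s) := by decide +kernel
      obtain ⟨a1, a2, a3, a4, a5, a6, a7, a8, a9, a10⟩ := this s h
      exact .inr ⟨_, _, _, k1 s, k2 s, k3 s, a1, a2, a3,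
        by exact_mod_cast congrArg (Int.cast (R := F)) a4, a5, a6, a7,
        by exact_mod_cast congrArg (Int.cast (R := F)) a8,
        by exact_mod_cast congrArg (Int.cast (R := F)) a9, a10, fun t => if_neg h⟩
  y_T s t := by
    have : ∀ s : Fin chevG2.nroots, ∀ c < chevD4.rank + chevD4.nroots,
      eqV (appN colT (yF s 1 1 0 [⟨c, 0, 0, 1⟩])) (yF s 1 1 0 (appN colT [⟨c, 0, 0, 1⟩])) = true := by
      decide +kernel
    exact Units.ext (Rp.eq (t := t) (u := 1) (codeD_inj _) (codeD_lt _)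
      ((rpT F t 1).mul (rpy F s t 1 1 1 0 (τ := t) (by simp)))
      ((rpy F s t 1 1 1 0 (τ := t) (by simp)).mul (rpT F t 1)) (this s))
  pos := by simp only [f_rt, f_rt']; decide +kernel
  J_mem := J_mem F
  J_π i s := Fin.ext (by
    rw [wr_J]
    change piN ((CD F).wr (J i) s) % 24 = _
    rw [wr_J]
    revert i s; decide +kernel)
  J_dec := J_dec F
  J_pr i v := by
    refine DFunLike.congr_fun (hom_ext_single (φ := prL.comp ((CD F).wl (J i)))
      (ψ := ((CG F).sr _).comp prL) fun k => ?_) v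
    have e1 : ∀ r : Fin chevD4.nroots, prL ((CD F).rt r) = (CG F).rt (f12 (soN r)) := fun r =>
      funext fun j => by
        have : ∀ (r : Fin chevD4.nroots) (j : Fin chevG2.rank),
          tabG2.rtc (f12 (soN r)) j = prL (fun k => tabD4.rtc r k) j := by decide +kernel
        exact (this r j).symm
    rw [← (CD F).rt_p, AddMonoidHom.comp_apply, AddMonoidHom.comp_apply,
      ← ((extra F).acts_nw (J i)).rt, e1, e1, ← rt_w', wr_J]
    congr 1
    refine Fin.ext ?_
    change soN (wrN i (tabD4.si k)) % 12 =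
      tabG2.wf (if i.val = 1 then f2 1 else f2 0).val (soN (tabD4.si k) % 12)
    revert i k; decide +kernel
  jo_surj := by decide +kernel
  tor χ h := ⟨chp χ secL, ch_ext fun j => by
    rw [cv_chp, cv_chp]
    have e : ∀ j : Fin chevD4.rank, secL (prL (Pi.single j 1)) =
        Pi.single (if j.val = 1 then f4 1 else f4 0) 1 := by decide +kernel
    have p0 := pi_p0 F
    have p3 := pi_p3 F
    have h0 := h ((CD F).p (f4 0))
    have h3 := h ((CD F).p (f4 3))
    rw [p0, (CD F).rt_p, (CD F).rt_p] at h0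
    rw [p3, (CD F).rt_p, (CD F).rt_p] at h3
    have hj : j = f4 0 ∨ j = f4 1 ∨ j = f4 2 ∨ j = f4 3 := by revert j; decide +kernel
    rw [e]
    rcases hj with rfl | rfl | rfl | rfl
    exacts [rfl, rfl, h0, h3.symm]⟩
  hB := okG2.hB_of invG2 F invG2_spec
  LP := Rq.eq (t := 1) (u := 1) (codeD_inj _) (codeD_lt _)
    ((rq_NR (codeD_inj _) (codeD_surj _) (by decide +kernel)).mul (rqP F 1 1)) Rp.one
    (by decide +kernel)
  y_P s t := by
    have : ∀ s : Fin chevG2.nroots, ∀ c < chevG2.rank + chevG2.nroots,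
      eqV (yF s 1 1 0 (appN colP [⟨c, 0, 0, 1⟩]))
        (appN colP (appX (tabG2.colF chevG2 s) 1 1 0 [⟨c, 0, 0, 1⟩])) = true := by
      decide +kernel
    exact Rq.eq (t := t) (u := 1) (codeD_inj _) (codeD_lt _)
      (Rq.mul (rpy F s t 1 1 1 0 (τ := t) (by simp)) (rqP F t 1))
      ((rqP F t 1).mul (okG2.rpX F s.2 t 1 1 1 0 (τ := t) (by simp))) (this s)
  P_wt k s h := by
    obtain ⟨q, hq, e⟩ := NR_ne h
    have : ∀ s : Fin chevG2.nroots, ∀ q ∈ colP (chevG2.rank + s), ∀ j : Fin chevG2.rank,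
      prL (fun k => tabD4.wtN q.r k) j = tabG2.rtc s j := by decide +kernel
    funext j
    have := this s q hq j
    rw [e] at this
    exact this
  P_ne r := by
    rw [NR_apply]
    have : ∀ r : Fin chevD4.nroots, (((colP (chevG2.rank + f12 (soN r))).filter
      fun q => q.r = chevD4.rank + r).map fun q => q.m).sum ^ 2 = 1 := by decide +kernel
    intro h
    have h2 := congrArg (Int.cast (R := F)) (this r)
    rw [Int.cast_pow] at h2
    exact zero_ne_one ((zero_pow two_ne_zero).symm.trans ((congrArg (· ^ 2) h.symm).trans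
      (h2.trans Int.cast_one)))

end D4

end

end CfsgH8
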