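import Cfsg.Agent.H8.MaxTS
import Cfsg.Agent.H7.PCentral

set_option autoImplicit false

namespace CfsgH8

open QuadraticMap Module

/-- semisimilarities between two quadratic spaces -/
structure SIso {F₁ V₁ F₂ V₂ : Type*} [Field F₁] [AddCommGroup V₁] [Module F₁ V₁] [Field F₂]
    [AddCommGroup V₂] [Module F₂ V₂] (Q₁ : QuadraticForm F₁ V₁) (Q₂ : QuadraticForm F₂ V₂) where
  T : V₁ ≃+ V₂
  σ : F₁ ≃+* F₂
  c : F₂ˣ
  smul : ∀ a x, T (a • x) = σ a • T x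
  mapQ : ∀ x, Q₂ (T x) = c * σ (Q₁ x)

/-- the projective commutator subgroup -/
abbrev POm {F V : Type*} [Field F] [AddCommGroup V] [Module F V] (Q : QuadraticForm F V) :=
  commutator (OG Q) ⧸ Subgroup.center (commutator (OG Q))

/-- an isomorphism of groups induces one of the derived subgroups -/
def commCongr {G H : Type*} [Group G] [Group H] (e : G ≃* H) : commutator G ≃* commutator H where
  toFun g := ⟨e g, (mem_commutator_map e g).2 g.2⟩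
  invFun g := ⟨e.symm g, (mem_commutator_map e.symm g).2 g.2⟩
  left_inv g := Subtype.ext (e.symm_apply_apply g)
  right_inv g := Subtype.ext (e.apply_symm_apply g)
  map_mul' g h := Subtype.ext (e.map_mul g h)

@[simp] lemma commCongr_coe {G H : Type*} [Group G] [Group H] (e : G ≃* H) (g : commutator G) :
    (commCongr e g : H) = e g := rfl

/-- an isomorphism of groups induces one of the central quotients -/
def centCongr {G H : Type*} [Group G] [Group H] (e : G ≃* H) :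
    G ⧸ Subgroup.center G ≃* H ⧸ Subgroup.center H :=
  QuotientGroup.congr _ _ e (by
    ext x
    simp only [Subgroup.mem_map]
    constructor
    · rintro ⟨y, hy, rfl⟩
      exact (MulEquivClass.apply_mem_center_iff e).2 hy
    · intro hx
      exact ⟨e.symm x, (MulEquivClass.apply_mem_center_iff e.symm).2 hx, by simp⟩)

@[simp] lemma centCongr_mk {G H : Type*} [Group G] [Group H] (e : G ≃* H) (g : G) :
    centCongr e (QuotientGroup.mk g) = QuotientGroup.mk (e g) := rfl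

lemma mulEquiv_quot_ext {G H : Type*} [Group G] [Group H] {N : Subgroup G} [N.Normal]
    {β γ : G ⧸ N ≃* H} (h : ∀ x : G, β (QuotientGroup.mk x) = γ (QuotientGroup.mk x)) : β = γ := by
  ext x
  obtain ⟨x, rfl⟩ := QuotientGroup.mk_surjective x
  exact h x

namespace SIso

variable {F₁ V₁ F₂ V₂ F₃ V₃ : Type*} [Field F₁] [AddCommGroup V₁] [Module F₁ V₁] [Field F₂]
  [AddCommGroup V₂] [Module F₂ V₂] [Field F₃] [AddCommGroup V₃] [Module F₃ V₃]
  {Q₁ : QuadraticForm F₁ V₁} {Q₂ : QuadraticForm F₂ V₂} {Q₃ : QuadraticForm F₃ V₃}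

lemma ext' {γ δ : SIso Q₁ Q₂} (h1 : ∀ x, γ.T x = δ.T x) (h2 : γ.σ = δ.σ) (h3 : γ.c = δ.c) :
    γ = δ := by
  obtain ⟨T, σ, c, _, _⟩ := γ
  obtain ⟨T', σ', c', _, _⟩ := δ
  obtain rfl : T = T' := AddEquiv.ext h1
  obtain rfl : σ = σ' := h2
  obtain rfl : c = c' := h3
  rfl

lemma σ_eq_of_T {γ δ : SIso Q₁ Q₂} [Nontrivial V₁] (h1 : ∀ x, γ.T x = δ.T x) : γ.σ = δ.σ := by
  obtain ⟨x, hx⟩ := exists_ne (0 : V₁)
  refine RingEquiv.ext fun a => ?_
  have h := h1 (a • x)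
  rw [γ.smul, δ.smul, h1, ← sub_eq_zero, ← sub_smul, smul_eq_zero] at h
  rcases h with h | h
  · exact sub_eq_zero.1 h
  · exact absurd (δ.T.map_eq_zero_iff.1 h) hx

lemma ext_of_nonsing {γ δ : SIso Q₁ Q₂} (hx : ∃ x, Q₁ x ≠ 0) (h1 : ∀ x, γ.T x = δ.T x) : γ = δ := by
  obtain ⟨x, hx⟩ := hx
  have : Nontrivial V₁ := ⟨⟨x, 0, by rintro rfl; simp at hx⟩⟩
  have h2 := σ_eq_of_T h1
  refine ext' h1 h2 (Units.ext ?_)
  have h := γ.mapQ x
  rw [h1, δ.mapQ, h2] at h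
  exact (mul_right_cancel₀ (by simpa using hx) h).symm

lemma polar (γ : SIso Q₁ Q₂) (x y : V₁) :
    QuadraticMap.polar Q₂ (γ.T x) (γ.T y) = γ.c * γ.σ (QuadraticMap.polar Q₁ x y) := by
  simp only [QuadraticMap.polar, ← map_add, γ.mapQ, map_sub]; ring

lemma Q_eq_zero (γ : SIso Q₁ Q₂) {x : V₁} : Q₂ (γ.T x) = 0 ↔ Q₁ x = 0 := by
  simp [γ.mapQ]

lemma polar_eq_zero (γ : SIso Q₁ Q₂) {x y : V₁} :
    QuadraticMap.polar Q₂ (γ.T x) (γ.T y) = 0 ↔ QuadraticMap.polar Q₁ x y = 0 := by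
  simp [γ.polar]

lemma T_eq_zero (γ : SIso Q₁ Q₂) {x : V₁} : γ.T x = 0 ↔ x = 0 := γ.T.map_eq_zero_iff

/-- identity -/
def refl (Q₁ : QuadraticForm F₁ V₁) : SIso Q₁ Q₁ where
  T := AddEquiv.refl _
  σ := RingEquiv.refl _
  c := 1
  smul _ _ := rfl
  mapQ x := by simp

/-- inverse -/
def symm (γ : SIso Q₁ Q₂) : SIso Q₂ Q₁ where
  T := γ.T.symm
  σ := γ.σ.symm
  c := Units.map γ.σ.symm.toMonoidHom γ.c⁻¹
  smul a x := by
    apply γ.T.injective
    rw [γ.smul]; simp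
  mapQ x := by
    apply γ.σ.injective
    have := γ.mapQ (γ.T.symm x)
    rw [AddEquiv.apply_symm_apply] at this
    rw [this]
    simp

/-- composition -/
def trans (γ : SIso Q₁ Q₂) (δ : SIso Q₂ Q₃) : SIso Q₁ Q₃ where
  T := γ.T.trans δ.T
  σ := γ.σ.trans δ.σ
  c := δ.c * Units.map δ.σ.toMonoidHom γ.c
  smul a x := by simp [γ.smul, δ.smul]
  mapQ x := by simp [γ.mapQ, δ.mapQ, mul_assoc]

@[simp] lemma refl_T (x : V₁) : (refl Q₁).T x = x := rfl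
@[simp] lemma trans_T (γ : SIso Q₁ Q₂) (δ : SIso Q₂ Q₃) (x : V₁) :
    (γ.trans δ).T x = δ.T (γ.T x) := rfl
@[simp] lemma symm_T_T (γ : SIso Q₁ Q₂) (x : V₁) : γ.symm.T (γ.T x) = x := γ.T.symm_apply_apply x
@[simp] lemma T_symm_T (γ : SIso Q₁ Q₂) (x : V₂) : γ.T (γ.symm.T x) = x := γ.T.apply_symm_apply x
lemma symm_T (γ : SIso Q₁ Q₂) : γ.symm.T = γ.T.symm := rfl
@[simp] lemma trans_σ (γ : SIso Q₁ Q₂) (δ : SIso Q₂ Q₃) : (γ.trans δ).σ = γ.σ.trans δ.σ := rfl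
@[simp] lemma symm_σ (γ : SIso Q₁ Q₂) : γ.symm.σ = γ.σ.symm := rfl
@[simp] lemma refl_σ : (refl Q₁).σ = RingEquiv.refl _ := rfl
lemma trans_c (γ : SIso Q₁ Q₂) (δ : SIso Q₂ Q₃) : ((γ.trans δ).c : F₃) = δ.c * δ.σ γ.c := rfl
lemma symm_c (γ : SIso Q₁ Q₂) : (γ.symm.c : F₁) = γ.σ.symm (γ.c : F₂)⁻¹ := by
  simp [symm]

lemma nd (γ : SIso Q₁ Q₂) (h : ND Q₁) : ND Q₂ :=
  ND.of_forall fun y hy => by
    obtain ⟨x, rfl⟩ := γ.T.surjective y
    rw [γ.T_eq_zero]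
    exact h.eq_zero fun z => γ.polar_eq_zero.1 (hy _)

/-- conjugation of linear maps -/
def conjL (γ : SIso Q₁ Q₂) (g : V₁ →ₗ[F₁] V₁) : V₂ →ₗ[F₂] V₂ where
  toFun x := γ.T (g (γ.symm.T x))
  map_add' x y := by simp
  map_smul' a x := by simp [γ.symm.smul, γ.smul]

@[simp] lemma conjL_apply (γ : SIso Q₁ Q₂) (g : V₁ →ₗ[F₁] V₁) (x : V₂) :
    γ.conjL g x = γ.T (g (γ.symm.T x)) := rfl

/-- conjugation of linear automorphisms -/
def conjE (γ : SIso Q₁ Q₂) (g : V₁ ≃ₗ[F₁] V₁) : V₂ ≃ₗ[F₂] V₂ :=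
  LinearEquiv.ofLinear (γ.conjL g) (γ.conjL g.symm) (LinearMap.ext fun x => by simp)
    (LinearMap.ext fun x => by simp)

@[simp] lemma conjE_apply (γ : SIso Q₁ Q₂) (g : V₁ ≃ₗ[F₁] V₁) (x : V₂) :
    γ.conjE g x = γ.T (g (γ.symm.T x)) := rfl

/-- the induced isomorphism of orthogonal groups -/
def og (γ : SIso Q₁ Q₂) : OG Q₁ ≃* OG Q₂ where
  toFun g := ⟨γ.conjE g.1, fun x => by
    rw [conjE_apply, γ.mapQ, OG.map_Q, ← γ.mapQ, T_symm_T]⟩
  invFun g := ⟨γ.symm.conjE g.1, fun x => by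
    obtain ⟨y, rfl⟩ := γ.symm.T.surjective x
    rw [conjE_apply, γ.symm.mapQ, OG.map_Q, symm_T_T, γ.symm.mapQ]⟩
  left_inv g := OG.ext' fun x => by
    change γ.T.symm (γ.T (g.1 (γ.T.symm (γ.T x)))) = _
    simp
  right_inv g := OG.ext' fun x => by
    change γ.T (γ.T.symm (g.1 (γ.T (γ.T.symm x)))) = _
    simp
  map_mul' g h := OG.ext' fun x => by simp

@[simp] lemma og_apply (γ : SIso Q₁ Q₂) (g : OG Q₁) (x : V₂) :
    (γ.og g).1 x = γ.T (g.1 (γ.symm.T x)) := rfl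

lemma og_T (γ : SIso Q₁ Q₂) (g : OG Q₁) (x : V₁) : (γ.og g).1 (γ.T x) = γ.T (g.1 x) := by simp

lemma og_refl (γ : SIso Q₁ Q₂) (v : V₁) : γ.og (CfsgH8.refl Q₁ v) = CfsgH8.refl Q₂ (γ.T v) :=
  OG.ext' fun x => by
    obtain ⟨x, rfl⟩ := γ.T.surjective x
    rw [og_T, refl_apply, refl_apply, map_sub, γ.smul, γ.mapQ, γ.polar]
    congr 2
    simp only [_root_.map_mul, map_inv₀]
    have := γ.c.ne_zero
    by_cases h : γ.σ (Q₁ v) = 0
    · simp [h]
    · field_simp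

lemma og_sieg (γ : SIso Q₁ Q₂) (u v : V₁) :
    γ.og (sieg Q₁ u v) = sieg Q₂ (γ.T u) ((γ.c : F₂)⁻¹ • γ.T v) := by
  have hc := γ.c.ne_zero
  by_cases h : Q₁ u = 0 ∧ QuadraticMap.polar Q₁ u v = 0
  · refine OG.ext' fun x => ?_
    obtain ⟨x, rfl⟩ := γ.T.surjective x
    rw [og_T, sieg_apply h.1 h.2, sieg_apply (γ.Q_eq_zero.2 h.1)
      (by rw [polar_sr, γ.polar_eq_zero.2 h.2, mul_zero])]
    simp only [map_sub, map_add, γ.smul, polar_sl, Q_smul, γ.polar, γ.mapQ, _root_.map_mul]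
    match_scalars <;> field_simp
  · rw [sieg_of_not h, sieg_of_not, _root_.map_one]
    rw [polar_sr, γ.Q_eq_zero, mul_eq_zero, γ.polar_eq_zero]
    simpa using h

/-- the image of a subspace -/
def mapS (γ : SIso Q₁ Q₂) (U : Submodule F₁ V₁) : Submodule F₂ V₂ where
  carrier := {y | γ.symm.T y ∈ U}
  add_mem' {a b} ha hb := by
    simp only [Set.mem_setOf_eq, map_add] at *
    exact U.add_mem ha hb
  zero_mem' := by simp
  smul_mem' a x hx := by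
    simp only [Set.mem_setOf_eq, γ.symm.smul] at *
    exact U.smul_mem _ hx

lemma mem_mapS (γ : SIso Q₁ Q₂) {U : Submodule F₁ V₁} {y : V₂} : y ∈ γ.mapS U ↔ γ.symm.T y ∈ U :=
  Iff.rfl

@[simp] lemma T_mem_mapS (γ : SIso Q₁ Q₂) {U : Submodule F₁ V₁} {x : V₁} :
    γ.T x ∈ γ.mapS U ↔ x ∈ U := by rw [mem_mapS, symm_T_T]

lemma finrank_mapS (γ : SIso Q₁ Q₂) (U : Submodule F₁ V₁) :
    finrank F₂ (γ.mapS U) = finrank F₁ U := by
  let j : U ≃+ γ.mapS U :=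
    { toFun := fun x => ⟨γ.T x, γ.T_mem_mapS.2 x.2⟩
      invFun := fun y => ⟨γ.symm.T y, y.2⟩
      left_inv := fun x => Subtype.ext (by simp)
      right_inv := fun x => Subtype.ext (by simp)
      map_add' := fun x y => Subtype.ext (by simp) }
  have := lift_rank_eq_of_equiv_equiv γ.σ j γ.σ.bijective (fun r m => Subtype.ext (γ.smul r m))
  unfold finrank
  rw [← Cardinal.toNat_lift.{_} (Module.rank F₂ _), ← this, Cardinal.toNat_lift]

lemma mapS_top (γ : SIso Q₁ Q₂) : γ.mapS ⊤ = ⊤ := by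
  ext; simp [mem_mapS]

lemma finrank_eq (γ : SIso Q₁ Q₂) : finrank F₂ V₂ = finrank F₁ V₁ := by
  rw [← finrank_top, ← γ.mapS_top, finrank_mapS, finrank_top]

lemma mapS_inf (γ : SIso Q₁ Q₂) (U W : Submodule F₁ V₁) :
    γ.mapS (U ⊓ W) = γ.mapS U ⊓ γ.mapS W := rfl

lemma mapS_TS (γ : SIso Q₁ Q₂) {U : Submodule F₁ V₁} (h : TS Q₁ U) : TS Q₂ (γ.mapS U) :=
  fun _ hy => γ.symm.Q_eq_zero.1 (h _ hy)

lemma mapS_MTS (γ : SIso Q₁ Q₂) {U : Submodule F₁ V₁} (h : MTS Q₁ U) : MTS Q₂ (γ.mapS U) :=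
  ⟨γ.mapS_TS h.1, by rw [finrank_mapS, γ.finrank_eq, h.2]⟩

lemma movS_og (γ : SIso Q₁ Q₂) (g : OG Q₁) : movS (γ.og g) = γ.mapS (movS g) := by
  ext y
  obtain ⟨x, rfl⟩ := γ.T.surjective y
  rw [T_mem_mapS, mem_movS, mem_movS]
  constructor
  · rintro ⟨z, hz⟩
    refine ⟨γ.symm.T z, γ.T.injective ?_⟩
    rw [← hz]; simp
  · rintro ⟨z, rfl⟩
    exact ⟨γ.T z, by simp⟩

lemma dickF_og (γ : SIso Q₁ Q₂) (g : OG Q₁) : dickF (γ.og g) = dickF g := by
  rw [dickF, dickF, movS_og, finrank_mapS]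

lemma good (γ : SIso Q₁ Q₂) (h : finrank F₁ V₁ ≠ 4) : Good Q₂ :=
  good_of_finrank (by rwa [γ.finrank_eq])

/-- the induced isomorphism of the projective groups -/
def pom (γ : SIso Q₁ Q₂) : POm Q₁ ≃* POm Q₂ := centCongr (commCongr γ.og)

@[simp] lemma pom_mk (γ : SIso Q₁ Q₂) (g : commutator (OG Q₁)) :
    γ.pom (QuotientGroup.mk g) = QuotientGroup.mk (commCongr γ.og g) := rfl

lemma pom_trans (γ : SIso Q₁ Q₂) (δ : SIso Q₂ Q₃) : (γ.trans δ).pom = γ.pom.trans δ.pom :=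
  mulEquiv_quot_ext fun _ => rfl

lemma pom_symm (γ : SIso Q₁ Q₂) : γ.symm.pom = γ.pom.symm :=
  mulEquiv_quot_ext fun _ => rfl

/-- a similarity as a semisimilarity -/
def ofSim {V₂ : Type*} [AddCommGroup V₂] [Module F₁ V₂] {Q₂ : QuadraticForm F₁ V₂}
    (e : V₁ ≃ₗ[F₁] V₂) {c : F₁} (hc : c ≠ 0) (he : ∀ x, Q₂ (e x) = c * Q₁ x) : SIso Q₁ Q₂ where
  T := e.toAddEquiv
  σ := RingEquiv.refl _
  c := Units.mk0 c hc
  smul a x := e.map_smul a x
  mapQ := he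

end SIso

lemma chi_map {F₁ F₂ : Type*} [Field F₁] [Field F₂] (σ : F₁ ≃+* F₂) (a : F₁) :
    chi (σ a) = chi a := by
  have : IsSquare (σ a) ↔ IsSquare a :=
    ⟨fun h => by simpa using h.map σ.symm, fun h => h.map σ⟩
  by_cases h : IsSquare a
  · rw [chi_eq_one_iff.2 h, chi_eq_one_iff.2 (this.2 h)]
  · rw [chi_eq_neg_one_iff.2 h, chi_eq_neg_one_iff.2 (fun h' => h (this.1 h'))]

/-! ### The group of semisimilarities -/

variable {F V : Type*} [Field F] [AddCommGroup V] [Module F V] {Q : QuadraticForm F V}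

/-- the group of semisimilarities -/
abbrev Gam (Q : QuadraticForm F V) := SIso Q Q

instance gamGroup (Q : QuadraticForm F V) : Group (Gam Q) where
  mul γ δ := SIso.trans δ γ
  one := SIso.refl Q
  inv γ := SIso.symm γ
  mul_assoc a b c := SIso.ext' (fun _ => rfl) rfl (Units.ext (by
    change a.c * a.σ b.c * a.σ (b.σ c.c) = a.c * a.σ (b.c * b.σ c.c)
    rw [_root_.map_mul, mul_assoc]))
  one_mul a := SIso.ext' (fun _ => rfl) rfl (Units.ext (by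
    change 1 * (a.c : F) = a.c
    rw [one_mul]))
  mul_one a := SIso.ext' (fun _ => rfl) rfl (Units.ext (by
    change a.c * a.σ 1 = a.c
    rw [_root_.map_one, mul_one]))
  inv_mul_cancel a := SIso.ext' (fun x => a.symm_T_T x) (RingEquiv.ext a.σ.symm_apply_apply)
    (Units.ext (by
      change (a.symm.c : F) * a.σ.symm a.c = 1
      rw [SIso.symm_c, ← _root_.map_mul, inv_mul_cancel₀ a.c.ne_zero, _root_.map_one]))

namespace Gam

@[simp] lemma mul_T (γ δ : Gam Q) (x : V) : (γ * δ).T x = γ.T (δ.T x) := rfl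
@[simp] lemma one_T (x : V) : (1 : Gam Q).T x = x := rfl
@[simp] lemma inv_T_T (γ : Gam Q) (x : V) : (γ⁻¹).T (γ.T x) = x := γ.symm_T_T x
@[simp] lemma T_inv_T (γ : Gam Q) (x : V) : γ.T ((γ⁻¹).T x) = x := γ.T_symm_T x
@[simp] lemma mul_σ (γ δ : Gam Q) : (γ * δ).σ = γ.σ * δ.σ := rfl
@[simp] lemma one_σ : (1 : Gam Q).σ = 1 := rfl
@[simp] lemma inv_σ (γ : Gam Q) : (γ⁻¹).σ = γ.σ⁻¹ := rfl
lemma mul_c (γ δ : Gam Q) : ((γ * δ).c : F) = γ.c * γ.σ δ.c := rfl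
@[simp] lemma one_c : (1 : Gam Q).c = 1 := rfl
lemma inv_c (γ : Gam Q) : ((γ⁻¹).c : F) = γ.σ⁻¹ (γ.c : F)⁻¹ := γ.symm_c
lemma symm_eq (γ : Gam Q) : SIso.symm γ = γ⁻¹ := rfl

lemma pow_T (γ : Gam Q) (k : ℕ) (x : V) : (γ ^ k).T x = γ.T^[k] x := by
  induction k with
  | zero => simp
  | succ k ih => rw [pow_succ', mul_T, ih, Function.iterate_succ_apply']

lemma ext (hQ : ND Q) [Nontrivial V] {γ δ : Gam Q} (h : ∀ x, γ.T x = δ.T x) : γ = δ :=
  SIso.ext_of_nonsing hQ.exists_nonsing h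

end Gam

/-- the field automorphism of a semisimilarity -/
def fld (Q : QuadraticForm F V) : Gam Q →* (F ≃+* F) where
  toFun γ := γ.σ
  map_one' := rfl
  map_mul' _ _ := rfl

@[simp] lemma fld_apply (γ : Gam Q) : fld Q γ = γ.σ := rfl

lemma Gam.pow_σ (γ : Gam Q) (k : ℕ) : (γ ^ k).σ = γ.σ ^ k := map_pow (fld Q) γ k

lemma Gam.pow_c (γ : Gam Q) (k : ℕ) :
    ((γ ^ k).c : F) = ∏ i ∈ Finset.range k, (γ.σ ^ i) γ.c := by
  induction k with
  | zero => simp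
  | succ k ih => rw [pow_succ, Gam.mul_c, ih, Finset.prod_range_succ, Gam.pow_σ]

/-- isometries as semisimilarities -/
def ofOG (Q : QuadraticForm F V) : OG Q →* Gam Q where
  toFun g := SIso.ofSim g.1 one_ne_zero (by simp)
  map_one' := SIso.ext' (fun _ => rfl) rfl (Units.ext rfl)
  map_mul' g h := SIso.ext' (fun _ => rfl) rfl (Units.ext (by
    change (1 : F) = 1 * 1
    rw [one_mul]))

@[simp] lemma ofOG_T (g : OG Q) (x : V) : (ofOG Q g).T x = g.1 x := rfl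
@[simp] lemma ofOG_σ (g : OG Q) : (ofOG Q g).σ = 1 := rfl
@[simp] lemma ofOG_c (g : OG Q) : (ofOG Q g).c = 1 := Units.ext rfl

lemma ofOG_injective : Function.Injective (ofOG Q) := fun g h e =>
  OG.ext' fun x => by rw [← ofOG_T, e, ofOG_T]

/-- scalars as semisimilarities -/
def scal (Q : QuadraticForm F V) : Fˣ →* Gam Q where
  toFun a := SIso.ofSim (LinearEquiv.smulOfUnit a) (c := (a : F) ^ 2) (pow_ne_zero _ a.ne_zero)
    (fun x => Q_smul _ x)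
  map_one' := SIso.ext' (fun x => one_smul F x) rfl (Units.ext (by
    change (1 : F) ^ 2 = 1
    simp))
  map_mul' a b := SIso.ext' (fun x => mul_smul (a : F) (b : F) x) rfl (Units.ext (by
    change ((a : F) * b) ^ 2 = (a : F) ^ 2 * (b : F) ^ 2
    ring))

@[simp] lemma scal_T (a : Fˣ) (x : V) : (scal Q a).T x = (a : F) • x := rfl
@[simp] lemma scal_σ (a : Fˣ) : (scal Q a).σ = 1 := rfl
@[simp] lemma scal_c (a : Fˣ) : (scal Q a).c = a ^ 2 := Units.ext (by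
  change (a : F) ^ 2 = _
  simp)

lemma conj_ofOG (γ : Gam Q) (g : OG Q) : γ * ofOG Q g * γ⁻¹ = ofOG Q (SIso.og γ g) :=
  SIso.ext' (fun _ => rfl) (by simp) (Units.ext (by
    rw [Gam.mul_c, Gam.mul_c, Gam.inv_c]
    simp))

lemma conj_scal (γ : Gam Q) (a : Fˣ) :
    γ * scal Q a * γ⁻¹ = scal Q (Units.map γ.σ.toMonoidHom a) :=
  SIso.ext' (fun x => by simp [γ.smul]) (by simp) (Units.ext (by
    rw [Gam.mul_c, Gam.mul_c, Gam.inv_c]
    have := γ.c.ne_zero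
    simp
    field_simp))

lemma mul_scal (γ : Gam Q) (a : Fˣ) :
    γ * scal Q a = scal Q (Units.map γ.σ.toMonoidHom a) * γ := by
  rw [← conj_scal]; group

lemma og_ofOG (g h : OG Q) : SIso.og (ofOG Q g) h = g * h * g⁻¹ := OG.ext' fun _ => rfl

lemma og_scal (a : Fˣ) (h : OG Q) : SIso.og (scal Q a) h = h := OG.ext' fun x => by
  change (a : F) • h.1 (((a⁻¹ : Fˣ) : F) • x) = _
  simp [smul_smul]

/-- the action on the projective group -/
def Phi (Q : QuadraticForm F V) : Gam Q →* MulAut (POm Q) where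
  toFun γ := SIso.pom γ
  map_one' := mulEquiv_quot_ext fun _ => rfl
  map_mul' _ _ := mulEquiv_quot_ext fun _ => rfl

lemma Phi_mk (γ : Gam Q) (g : commutator (OG Q)) :
    Phi Q γ (QuotientGroup.mk g) = QuotientGroup.mk (commCongr (SIso.og γ) g) := rfl

lemma Phi_scal (a : Fˣ) : Phi Q (scal Q a) = 1 :=
  mulEquiv_quot_ext fun g => by
    rw [Phi_mk]
    congr 1
    exact Subtype.ext (og_scal a g.1)

lemma Phi_ofOG (g : commutator (OG Q)) :
    Phi Q (ofOG Q g) = MulAut.conj (QuotientGroup.mk g : POm Q) :=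
  mulEquiv_quot_ext fun _ => rfl

/-- the linear map of a linear semisimilarity -/
def Gam.lin (γ : Gam Q) (h : γ.σ = 1) : V ≃ₗ[F] V :=
  { γ.T with
    map_smul' := fun a x => by
      change γ.T (a • x) = a • γ.T x
      rw [γ.smul, h]; rfl }

@[simp] lemma Gam.lin_apply (γ : Gam Q) (h : γ.σ = 1) (x : V) : γ.lin h x = γ.T x := rfl

lemma Gam.smul_of_lin {γ : Gam Q} (h : γ.σ = 1) (a : F) (x : V) : γ.T (a • x) = a • γ.T x := by
  rw [γ.smul, h]; rfl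

lemma Gam.mapQ_of_lin {γ : Gam Q} (h : γ.σ = 1) (x : V) : Q (γ.T x) = γ.c * Q x := by
  rw [γ.mapQ, h]; rfl

lemma exists_ofOG {γ : Gam Q} (h : γ.σ = 1) (hc : γ.c = 1) : ∃ g : OG Q, ofOG Q g = γ :=
  ⟨⟨γ.lin h, fun x => by rw [Gam.lin_apply, Gam.mapQ_of_lin h, hc]; simp⟩,
    SIso.ext' (fun _ => rfl) h.symm ((ofOG_c _).trans hc.symm)⟩

lemma exists_scal_mul_ofOG {γ : Gam Q} (h : γ.σ = 1) (hc : IsSquare (γ.c : F)) :
    ∃ (a : Fˣ) (g : OG Q), γ = scal Q a * ofOG Q g := by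
  obtain ⟨a, ha⟩ := hc
  have ha0 : a ≠ 0 := by
    rintro rfl
    exact γ.c.ne_zero (by rw [ha, mul_zero])
  obtain ⟨g, hg⟩ := exists_ofOG (γ := (scal Q (Units.mk0 a ha0))⁻¹ * γ) (by simp [h]) (Units.ext (by
    rw [Gam.mul_c, Gam.inv_c]
    simp [ha]
    field_simp))
  exact ⟨Units.mk0 a ha0, g, by rw [hg]; group⟩

section fin
variable {F₁ V₁ F₂ V₂ : Type*} [Field F₁] [AddCommGroup V₁] [Module F₁ V₁] [Field F₂]
  [AddCommGroup V₂] [Module F₂ V₂] {Q₁ : QuadraticForm F₁ V₁} {Q₂ : QuadraticForm F₂ V₂}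

lemma SIso.finiteDimensional (γ : SIso Q₁ Q₂) [FiniteDimensional F₁ V₁] :
    FiniteDimensional F₂ V₂ := by
  have := lift_rank_eq_of_equiv_equiv γ.σ γ.T γ.σ.bijective γ.smul
  change Module.Finite _ _
  rw [← Module.rank_lt_aleph0_iff, ← Cardinal.lift_lt_aleph0, ← this, Cardinal.lift_lt_aleph0]
  exact Module.rank_lt_aleph0 _ _

lemma SIso.spinF_og [Finite F₁] [FiniteDimensional F₁ V₁] (γ : SIso Q₁ Q₂) (hQ : ND Q₁)
    (hG : Good Q₁) (g : OG Q₁) :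
    spinF (γ.og g) = spinF g * (if dickF g = 1 then 1 else chi (γ.c : F₂)) := by
  have : Finite F₂ := Finite.of_equiv _ γ.σ.toEquiv
  have := γ.finiteDimensional
  obtain ⟨vs, hvs, rfl⟩ := exists_list hQ hG g
  have e : γ.og (vs.map (CfsgH8.refl Q₁)).prod = ((vs.map γ.T).map (CfsgH8.refl Q₂)).prod := by
    rw [map_list_prod, List.map_map, List.map_map]
    congr 1
    exact List.map_congr_left fun v _ => γ.og_refl v
  have hvs' : ∀ v ∈ vs.map γ.T, Q₂ v ≠ 0 := by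
    intro v hv
    obtain ⟨w, hw, rfl⟩ := List.mem_map.1 hv
    exact fun h => hvs w hw (γ.Q_eq_zero.1 h)
  rw [e, spinF_list (γ.nd hQ) _ hvs', spinF_list hQ _ hvs, dickF_list hQ _ hvs]
  have e2 : ((vs.map γ.T).map Q₂).prod = (γ.c : F₂) ^ vs.length * γ.σ (vs.map Q₁).prod := by
    clear e hvs hvs'
    induction vs with
    | nil => simp
    | cons v vs ih =>
      simp only [List.map_cons, List.prod_cons, ih, γ.mapQ, List.length_cons, _root_.map_mul]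
      ring
  rw [e2, chi_mul (pow_ne_zero _ γ.c.ne_zero) (by simpa using list_prod_ne_zero hvs), chi_map,
    chi_pow γ.c.ne_zero, mul_comm]
  congr 1
  rcases Nat.even_or_odd vs.length with h | h
  · rw [h.neg_one_pow, if_pos rfl]
    obtain ⟨k, hk⟩ := h
    rw [hk, pow_add, Int.units_mul_self]
  · rw [h.neg_one_pow, if_neg (by decide)]
    obtain ⟨k, hk⟩ := h
    rw [hk, pow_succ, pow_mul, _root_.sq, Int.units_mul_self, one_pow, one_mul]

end fin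

end CfsgH8
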