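import Cfsg.Agent.H8.Disc

set_option autoImplicit false

namespace CfsgH8

open QuadraticMap Module Matrix

variable {F V : Type*} [Field F] [AddCommGroup V] [Module F V] {Q : QuadraticForm F V}

/-- dilation in a hyperbolic pair -/
noncomputable def dil (Q : QuadraticForm F V) (u w : V) (a : F) : OG Q :=
  refl Q (u - w) * refl Q (u - a • w)

lemma dil_apply {u w : V} (hu : Q u = 0) (hw : Q w = 0) (huw : polar Q u w = 1) {a : F}
    (ha : a ≠ 0) (x : V) :
    (dil Q u w a).1 x = x + ((a - 1) * polar Q w x) • u + ((a⁻¹ - 1) * polar Q u x) • w := by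
  have hwu : polar Q w u = 1 := by rw [pcomm, huw]
  rw [dil, OG.mul_apply, refl_apply, refl_apply]
  simp only [Q_sub, Q_smul, polar_sub_left, polar_sub_right, polar_sl, polar_sr, polar_self', hu,
    hw, huw, hwu, mul_zero, add_zero, zero_add, zero_sub, mul_one, inv_neg, inv_one]
  match_scalars <;> field_simp <;> ring

lemma dil_Q1 {u w : V} (hu : Q u = 0) (hw : Q w = 0) (huw : polar Q u w = 1) (a : F) :
    Q (u - a • w) = -a := by
  rw [Q_sub, Q_smul, polar_sr, hu, hw, huw]; ring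

lemma dickF_dil [FiniteDimensional F V] (hQ : ND Q) {u w : V} (hu : Q u = 0) (hw : Q w = 0)
    (huw : polar Q u w = 1) {a : F} (ha : a ≠ 0) : dickF (dil Q u w a) = 1 := by
  have h1 := dil_Q1 hu hw huw 1
  rw [one_smul] at h1
  rw [dil, dickF_refl_mul hQ _ (by simp [h1]), dickF_refl hQ (by simp [dil_Q1 hu hw huw, ha])]
  simp

lemma spinF_dil [Finite F] [FiniteDimensional F V] (hQ : ND Q) {u w : V} (hu : Q u = 0)
    (hw : Q w = 0) (huw : polar Q u w = 1) {a : F} (ha : a ≠ 0) :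
    spinF (dil Q u w a) = chi a := by
  have h1 := dil_Q1 hu hw huw 1
  rw [one_smul] at h1
  have := spinF_list hQ [u - w, u - a • w] (by simp [h1, dil_Q1 hu hw huw, ha])
  simpa [h1, dil_Q1 hu hw huw, dil] using this

lemma map_eq_self_of_le [FiniteDimensional F V] (g : OG Q) {U : Submodule F V}
    (h : ∀ x ∈ U, g.1 x ∈ U) : U.map g.1.toLinearMap = U :=
  Submodule.eq_of_le_of_finrank_eq (by rintro _ ⟨x, hx, rfl⟩; exact h x hx)
    (LinearEquiv.finrank_map_eq _ _)

lemma map_mul (g h : OG Q) (U : Submodule F V) :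
    U.map (g * h).1.toLinearMap = (U.map h.1.toLinearMap).map g.1.toLinearMap := by
  rw [← Submodule.map_comp]; rfl

@[simp] lemma map_one (U : Submodule F V) : U.map (1 : OG Q).1.toLinearMap = U :=
  Submodule.map_id U

lemma perp_map (g : OG Q) (U : Submodule F V) :
    perp Q (U.map g.1.toLinearMap) = (perp Q U).map g.1.toLinearMap := by
  ext x
  rw [Submodule.mem_map_equiv, mem_perp, mem_perp]
  constructor
  · intro h u hu
    have := h (g.1 u) ⟨u, hu, rfl⟩
    rwa [OG.polar_inv] at this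
  · rintro h _ ⟨u, hu, rfl⟩
    simp only [LinearEquiv.coe_coe]
    rw [OG.polar_inv]; exact h u hu

lemma exists_nonsq [Finite F] (h2 : (2 : F) ≠ 0) : ∃ a : F, a ≠ 0 ∧ chi a = -1 := by
  obtain ⟨a, ha⟩ := FiniteField.exists_nonsquare (ringChar_ne_two h2)
  exact ⟨a, by rintro rfl; exact ha IsSquare.zero, chi_eq_neg_one_iff.2 ha⟩

section findim
variable [FiniteDimensional F V]

lemma exists_mul_mem_commutator' [Finite F] (hQ : ND Q) (hG : Good Q) (S : Subgroup (OG Q))
    (h2 : (2 : F) ≠ 0 → ∃ s ∈ S, dickF s = 1 ∧ spinF s = -1) (g : OG Q) (hg : dickF g = 1) :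
    ∃ s ∈ S, g * s ∈ commutator (OG Q) := by
  rcases Int.units_eq_one_or (spinF g) with h | h
  · exact ⟨1, S.one_mem, by rw [mul_one, mem_commutator_iff hQ hG]; exact ⟨hg, h⟩⟩
  · have : (2 : F) ≠ 0 := fun h' => by simp [spinF_of_two_eq_zero hQ hG h'] at h
    obtain ⟨s, hs, h3, h4⟩ := h2 this
    exact ⟨s, hs, by simp [mem_commutator_iff hQ hG, dickF_mul hQ hG, spinF_mul hQ hG, *]⟩

lemma exists_mul_mem_commutator [Finite F] (hQ : ND Q) (hG : Good Q) (S : Subgroup (OG Q))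
    (h1 : ∃ s ∈ S, dickF s = -1)
    (h2 : (2 : F) ≠ 0 → ∃ s ∈ S, dickF s = 1 ∧ spinF s = -1) (g : OG Q) :
    ∃ s ∈ S, g * s ∈ commutator (OG Q) := by
  rcases Int.units_eq_one_or (dickF g) with h | h
  · exact exists_mul_mem_commutator' hQ hG S h2 g h
  · obtain ⟨s, hs, h3⟩ := h1
    obtain ⟨t, ht, h4⟩ := exists_mul_mem_commutator' hQ hG S h2 (g * s)
      (by simp [dickF_mul hQ hG, *])
    exact ⟨s * t, S.mul_mem hs ht, by rwa [← mul_assoc]⟩

omit [FiniteDimensional F V] in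
/-- the stabiliser of a subspace -/
def stab (Q : QuadraticForm F V) (U : Submodule F V) : Subgroup (OG Q) where
  carrier := {g | U.map g.1.toLinearMap = U}
  mul_mem' {a b} ha hb := by
    simp only [Set.mem_setOf_eq] at *
    rw [map_mul, hb, ha]
  one_mem' := map_one U
  inv_mem' {a} ha := by
    simp only [Set.mem_setOf_eq] at *
    conv_lhs => rw [← ha, ← map_mul, inv_mul_cancel, map_one]

omit [FiniteDimensional F V] in
lemma mem_stab {U : Submodule F V} {g : OG Q} : g ∈ stab Q U ↔ U.map g.1.toLinearMap = U := Iff.rfl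

lemma mem_stab_iff {U : Submodule F V} {g : OG Q} : g ∈ stab Q U ↔ ∀ x ∈ U, g.1 x ∈ U :=
  ⟨fun h x hx => by rw [← mem_stab.1 h]; exact ⟨x, hx, rfl⟩, map_eq_self_of_le g⟩

lemma refl_mem_stab {U : Submodule F V} {v : V} (hv : v ∈ U) : refl Q v ∈ stab Q U :=
  mem_stab_iff.2 fun x hx => by
    rw [refl_apply]; exact U.sub_mem hx (U.smul_mem _ hv)

lemma refl_mem_stab_perp {U : Submodule F V} {v : V} (hv : v ∈ perp Q U) : refl Q v ∈ stab Q U :=
  mem_stab_iff.2 fun x hx => by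
    rwa [refl_of_perp (mem_perp'.1 hv x hx)]

lemma TS.exists_stab_spin [Finite F] (hQ : ND Q) {U : Submodule F V} (hU : TS Q U) (h0 : U ≠ ⊥)
    (h2 : (2 : F) ≠ 0) : ∃ s ∈ stab Q U, dickF s = 1 ∧ spinF s = -1 := by
  obtain ⟨u, hu, hu0⟩ := Submodule.exists_mem_ne_zero_of_ne_bot h0
  obtain ⟨w, hw, huw⟩ := hQ.exists_partner' (hU u hu) hu0
  obtain ⟨a, ha, ha'⟩ := exists_nonsq h2
  refine ⟨dil Q u w a, mem_stab_iff.2 fun x hx => ?_, dickF_dil hQ (hU u hu) hw huw ha,
    by rw [spinF_dil hQ (hU u hu) hw huw ha, ha']⟩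
  rw [dil_apply (hU u hu) hw huw ha, hU.polar hu hx, mul_zero, zero_smul, add_zero]
  exact U.add_mem hx (U.smul_mem _ hu)

lemma exists_nonsing_perp (hQ : ND Q) {U : Submodule F V} (h : 2 * finrank F U < finrank F V) :
    ∃ v ∈ perp Q U, Q v ≠ 0 := by
  by_contra hc
  push Not at hc
  have h1 := two_mul_finrank_le hQ (le_perp_of_sing hc)
  have h2 := hQ.finrank_perp U
  omega

theorem TS.exists_omega_map_eq [Finite F] (hQ : ND Q) (hG : Good Q) {U W : Submodule F V}
    (hU : TS Q U) (hW : TS Q W) (h : finrank F U = finrank F W)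
    (hlt : 2 * finrank F U < finrank F V) :
    ∃ g ∈ commutator (OG Q), U.map g.1.toLinearMap = W := by
  by_cases h0 : U = ⊥
  · subst h0
    rw [finrank_bot, eq_comm, Submodule.finrank_eq_zero] at h
    exact ⟨1, Subgroup.one_mem _, by simp [h]⟩
  obtain ⟨g, hg⟩ := hU.exists_map_eq hQ hW h
  obtain ⟨v, hv, hv0⟩ := exists_nonsing_perp hQ hlt
  obtain ⟨s, hs, hgs⟩ := exists_mul_mem_commutator hQ hG (stab Q U)
    ⟨refl Q v, refl_mem_stab_perp hv, dickF_refl hQ hv0⟩ (hU.exists_stab_spin hQ h0) g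
  exact ⟨g * s, hgs, by rw [map_mul, mem_stab.1 hs, hg]⟩

lemma exists_stab_of_represents [Finite F] (hQ : ND Q) (S : Subgroup (OG Q))
    (h : ∀ c : F, c ≠ 0 → ∃ v, Q v = c ∧ refl Q v ∈ S) :
    (∃ s ∈ S, dickF s = -1) ∧ ((2 : F) ≠ 0 → ∃ s ∈ S, dickF s = 1 ∧ spinF s = -1) := by
  obtain ⟨v, hv, hvS⟩ := h 1 one_ne_zero
  refine ⟨⟨_, hvS, dickF_refl hQ (by simp [hv])⟩, fun h2 => ?_⟩
  obtain ⟨a, ha, ha'⟩ := exists_nonsq h2
  obtain ⟨w, hw, hwS⟩ := h a ha
  refine ⟨_, S.mul_mem hvS hwS, ?_, ?_⟩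
  · rw [dickF_refl_mul hQ _ (by simp [hv]), dickF_refl hQ (by simp [hw, ha]), neg_neg]
  · rw [spinF_mul hQ (good_of_two_ne h2), spinF_refl hQ (by simp [hv]),
      spinF_refl hQ (by simp [hw, ha]), hv, hw, ha']
    simp

theorem exists_omega_map_eq_of_nd [Finite F] (hQ : ND Q) (hG : Good Q) (hn : 3 ≤ finrank F V)
    {U W : Submodule F V} (hU : U ⊓ perp Q U = ⊥) (e : U ≃ₗ[F] W)
    (he : ∀ u : U, Q (e u : V) = Q (u : V)) :
    ∃ g ∈ commutator (OG Q), U.map g.1.toLinearMap = W := by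
  obtain ⟨g, -, hg⟩ := witt_map hQ e he
  have h1 := hQ.finrank_perp U
  have h2 : ∀ c : F, c ≠ 0 → ∃ v, Q v = c ∧ refl Q v ∈ stab Q U := fun c _ => by
    by_cases h : 2 ≤ finrank F U
    · obtain ⟨v, hv⟩ := (nd_res_iff.2 hU).represents h c
      exact ⟨v, hv, refl_mem_stab v.2⟩
    · obtain ⟨v, hv⟩ := ((perpDec hU).nd_right hQ).represents (by omega) c
      exact ⟨v, hv, refl_mem_stab_perp v.2⟩
  obtain ⟨h3, h4⟩ := exists_stab_of_represents hQ _ h2
  obtain ⟨s, hs, hgs⟩ := exists_mul_mem_commutator hQ hG (stab Q U) h3 h4 g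
  exact ⟨g * s, hgs, by rw [map_mul, mem_stab.1 hs, hg]⟩

/-! ### half-dimensional totally singular subspaces -/

omit [FiniteDimensional F V] in
/-- totally singular of half the dimension -/
def MTS (Q : QuadraticForm F V) (U : Submodule F V) : Prop :=
  TS Q U ∧ 2 * finrank F U = finrank F V

lemma MTS.perp_eq (hQ : ND Q) {U : Submodule F V} (h : MTS Q U) : perp Q U = U := by
  have h1 := hQ.finrank_perp U
  have h2 := h.2
  exact (Submodule.eq_of_le_of_finrank_eq h.1.le_perp (by omega)).symm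

omit [FiniteDimensional F V] in
lemma MTS.map {U : Submodule F V} (h : MTS Q U) (g : OG Q) : MTS Q (U.map g.1.toLinearMap) :=
  ⟨h.1.map g, by rw [LinearEquiv.finrank_map_eq]; exact h.2⟩

omit [FiniteDimensional F V] in
lemma le_or_le_of_subset_union {D U W : Submodule F V} (h : ∀ x ∈ D, x ∈ U ∨ x ∈ W) :
    D ≤ U ∨ D ≤ W := by
  by_contra hc
  push Not at hc
  obtain ⟨x, hx, hxU⟩ := SetLike.not_le_iff_exists.1 hc.1
  obtain ⟨y, hy, hyW⟩ := SetLike.not_le_iff_exists.1 hc.2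
  have hxW := (h x hx).resolve_left hxU
  have hyU := (h y hy).resolve_right hyW
  rcases h _ (D.add_mem hx hy) with h' | h'
  · exact hxU (by simpa using U.sub_mem h' hyU)
  · exact hyW (by simpa using W.sub_mem h' hxW)

/-- two maximal subspaces meeting in a hyperplane have opposite parity -/
lemma MTS.finrank_inf_of_adj (hQ : ND Q) {E U U' : Submodule F V} (hE : MTS Q E) (hU : MTS Q U)
    (hU' : MTS Q U') (h : finrank F ↥(U ⊓ U') + 1 = finrank F U) :
    finrank F ↥(E ⊓ U) = finrank F ↥(E ⊓ U') + 1 ∨ finrank F ↥(E ⊓ U') = finrank F ↥(E ⊓ U) + 1 := by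
  have e1 := hU.2
  have e2 := hU'.2
  have e3 := hE.2
  set H := U ⊓ U' with hH
  have hp : perp Q H = U ⊔ U' := by rw [hH, hQ.perp_inf, hU.perp_eq hQ, hU'.perp_eq hQ]
  obtain ⟨u, hu, huH⟩ := exists_mem_notMem_of_finrank_lt (U := H) (W := U) (by omega)
  have hUe : U = H ⊔ F ∙ u := by
    refine (Submodule.eq_of_le_of_finrank_le (sup_le inf_le_left
      ((Submodule.span_singleton_le_iff_mem _ _).2 hu)) ?_).symm
    have : H < H ⊔ F ∙ u := lt_of_le_of_ne le_sup_left fun h' => huH (by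
      rw [h']; exact Submodule.mem_sup_right (Submodule.mem_span_singleton_self u))
    have := Submodule.finrank_lt_finrank_of_lt this
    omega
  have hsing : ∀ x ∈ E ⊓ perp Q H, x ∈ U ∨ x ∈ U' := by
    rintro x ⟨hxE, hx⟩
    rw [hp] at hx
    obtain ⟨a, ha, b, hb, rfl⟩ := Submodule.mem_sup.1 hx
    have h0 := hE.1 _ hxE
    rw [Q_add, hU.1 a ha, hU'.1 b hb, zero_add, zero_add] at h0
    have ha' := ha
    rw [hUe] at ha'
    obtain ⟨k, hk, z, hz, rfl⟩ := Submodule.mem_sup.1 ha'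
    obtain ⟨c, rfl⟩ := Submodule.mem_span_singleton.1 hz
    rw [polar_add_left, hU'.1.polar hk.2 hb, zero_add, polar_sl] at h0
    rcases mul_eq_zero.1 h0 with h0 | h0
    · right
      rw [h0, zero_smul, add_zero]
      exact U'.add_mem hk.2 hb
    · left
      refine U.add_mem ha ?_
      rw [← hU.perp_eq hQ, hUe, mem_perp_sup, mem_perp_span_singleton]
      exact ⟨mem_perp.2 fun y hy => hU'.1.polar hy.2 hb, h0⟩
  have hD : finrank F ↥(E ⊓ perp Q H) = finrank F ↥(E ⊓ H) + 1 := by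
    have h1 : E ⊓ perp Q H = perp Q (E ⊔ H) := by rw [perp_sup, hE.perp_eq hQ]
    have h2 := hQ.finrank_perp (E ⊔ H)
    have h3 := Submodule.finrank_sup_add_finrank_inf_eq E H
    rw [h1]
    omega
  have hUp : U ≤ perp Q H := hp ▸ le_sup_left
  have hUp' : U' ≤ perp Q H := hp ▸ le_sup_right
  rcases le_or_le_of_subset_union hsing with h1 | h1
  · left
    have a1 : E ⊓ U = E ⊓ perp Q H :=
      le_antisymm (inf_le_inf_left _ hUp) (le_inf inf_le_left h1)
    have a2 : E ⊓ U' = E ⊓ H := le_antisymm (le_inf inf_le_left (le_inf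
      ((inf_le_inf_left _ hUp').trans h1) inf_le_right)) (inf_le_inf_left _ inf_le_right)
    rw [a1, a2, hD]
  · right
    have a1 : E ⊓ U' = E ⊓ perp Q H :=
      le_antisymm (inf_le_inf_left _ hUp') (le_inf inf_le_left h1)
    have a2 : E ⊓ U = E ⊓ H := le_antisymm (le_inf inf_le_left (le_inf inf_le_right
      ((inf_le_inf_left _ hUp).trans h1))) (inf_le_inf_left _ inf_le_left)
    rw [a1, a2, hD]

lemma MTS.finrank_inf_refl (hQ : ND Q) {U : Submodule F V} (hU : MTS Q U) {v : V} (hv : Q v ≠ 0) :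
    finrank F ↥(U ⊓ U.map (refl Q v).1.toLinearMap) + 1 = finrank F U := by
  have hvU : v ∉ U := fun h => hv (hU.1 v h)
  have h1 : U ⊓ U.map (refl Q v).1.toLinearMap = U ⊓ perp Q (F ∙ v) := by
    ext x
    constructor
    · rintro ⟨hx, y, hy, rfl⟩
      refine ⟨hx, mem_perp_span_singleton.2 ?_⟩
      simp only [LinearEquiv.coe_coe] at hx ⊢
      by_cases h0 : polar Q v y = 0
      · rw [refl_of_perp h0, h0]
      · exfalso
        apply hvU
        have := U.sub_mem hy hx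
        rw [refl_apply, sub_sub_cancel] at this
        exact (U.smul_mem_iff (by simp [hv, h0])).1 this
    · rintro ⟨hx, hx'⟩
      exact ⟨hx, x, hx, refl_of_perp (mem_perp_span_singleton.1 hx')⟩
  have h2 : U ⊓ perp Q (F ∙ v) = perp Q (U ⊔ F ∙ v) := by rw [perp_sup, hU.perp_eq hQ]
  have h3 := hQ.finrank_perp (U ⊔ F ∙ v)
  have h4 := Submodule.finrank_sup_add_finrank_inf_eq U (F ∙ v)
  have h5 : U ⊓ F ∙ v = ⊥ := disjoint_iff.1 (Submodule.disjoint_span_singleton_of_notMem hvU)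
  rw [h5, finrank_bot, finrank_span_singleton (by rintro rfl; simp at hv)] at h4
  have := hU.2
  rw [h1, h2]
  omega

theorem MTS.parity_map (hQ : ND Q) (hG : Good Q) {E U : Submodule F V} (hE : MTS Q E)
    (hU : MTS Q U) (g : OG Q) :
    (-1 : ℤˣ) ^ finrank F ↥(E ⊓ U.map g.1.toLinearMap) = dickF g * (-1) ^ finrank F ↥(E ⊓ U) := by
  induction g using refl_induction hQ hG with
  | h1 => rw [map_one]; simp
  | hs v g hv ih =>
    rw [map_mul, dickF_refl_mul hQ _ hv, neg_mul, ← ih]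
    rcases hE.finrank_inf_of_adj hQ (hU.map g) ((hU.map g).map (refl Q v))
      ((hU.map g).finrank_inf_refl hQ hv) with h | h <;> rw [h, pow_succ] <;> simp

lemma even_sub_iff {a b : ℕ} (h : b ≤ a) : Even (a - b) ↔ (-1 : ℤˣ) ^ b = (-1) ^ a := by
  rw [Nat.even_sub h]
  rcases Nat.even_or_odd a with ha | ha <;> rcases Nat.even_or_odd b with hb | hb <;>
    simp [ha, hb, ha.neg_one_pow, hb.neg_one_pow, Nat.not_even_iff_odd.2]

theorem MTS.even_iff_dickF (hQ : ND Q) (hG : Good Q) {E : Submodule F V} (hE : MTS Q E)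
    (g : OG Q) :
    Even (finrank F E - finrank F ↥(E ⊓ E.map g.1.toLinearMap)) ↔ dickF g = 1 := by
  rw [even_sub_iff (Submodule.finrank_mono inf_le_left), hE.parity_map hQ hG hE, inf_idem]
  simp

theorem MTS.exists_omega_map_eq [Finite F] (hQ : ND Q) (hG : Good Q) {U W : Submodule F V}
    (hU : MTS Q U) (hW : MTS Q W) (h : Even (finrank F U - finrank F ↥(U ⊓ W))) :
    ∃ g ∈ commutator (OG Q), U.map g.1.toLinearMap = W := by
  have e1 := hU.2
  have e2 := hW.2
  by_cases h0 : U = ⊥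
  · subst h0
    have : finrank F W = 0 := by rw [finrank_bot] at e1; omega
    rw [Submodule.finrank_eq_zero] at this
    exact ⟨1, Subgroup.one_mem _, by simp [this]⟩
  obtain ⟨g, hg⟩ := hU.1.exists_map_eq hQ hW.1 (by omega)
  rw [← hg, hU.even_iff_dickF hQ hG] at h
  obtain ⟨s, hs, hgs⟩ := exists_mul_mem_commutator' hQ hG (stab Q U)
    (hU.1.exists_stab_spin hQ h0) g h
  exact ⟨g * s, hgs, by rw [map_mul, mem_stab.1 hs, hg]⟩

end findim

/-- the first standard maximal totally singular subspace -/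
abbrev stdE (κ : Type*) (F : Type*) [Field F] : Submodule F (κ ⊕ κ → F) :=
  LinearMap.ker (LinearMap.funLeft F F (Sum.inr : κ → κ ⊕ κ))

/-- the second standard maximal totally singular subspace -/
abbrev stdE' (κ : Type*) (F : Type*) [Field F] : Submodule F (κ ⊕ κ → F) :=
  LinearMap.ker (LinearMap.funLeft F F (Sum.inl : κ → κ ⊕ κ))

lemma mem_stdE {κ : Type*} {v : κ ⊕ κ → F} : v ∈ stdE κ F ↔ ∀ i, v (Sum.inr i) = 0 := by
  simp [funext_iff]

lemma mem_stdE' {κ : Type*} {v : κ ⊕ κ → F} : v ∈ stdE' κ F ↔ ∀ i, v (Sum.inl i) = 0 := by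
  simp [funext_iff]

lemma finrank_stdE {κ : Type*} [Fintype κ] : finrank F (stdE κ F) = Fintype.card κ := by
  have h := LinearMap.finrank_range_add_finrank_ker (LinearMap.funLeft F F (Sum.inr : κ → κ ⊕ κ))
  rw [LinearMap.range_eq_top.2 (LinearMap.funLeft_surjective_of_injective _ _ _
    Sum.inr_injective)] at h
  simp at h
  omega

lemma finrank_stdE' {κ : Type*} [Fintype κ] : finrank F (stdE' κ F) = Fintype.card κ := by
  have h := LinearMap.finrank_range_add_finrank_ker (LinearMap.funLeft F F (Sum.inl : κ → κ ⊕ κ))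
  rw [LinearMap.range_eq_top.2 (LinearMap.funLeft_surjective_of_injective _ _ _
    Sum.inl_injective)] at h
  simp at h
  omega

lemma MTS_stdE {κ : Type*} [Fintype κ] : MTS (QH κ F) (stdE κ F) :=
  ⟨fun v hv => by simp [QH_apply, mem_stdE.1 hv], by simp [finrank_stdE]; ring⟩

lemma MTS_stdE' {κ : Type*} [Fintype κ] : MTS (QH κ F) (stdE' κ F) :=
  ⟨fun v hv => by simp [QH_apply, mem_stdE'.1 hv], by simp [finrank_stdE']; ring⟩

lemma stdE_inf_stdE' {κ : Type*} : stdE κ F ⊓ stdE' κ F = ⊥ := by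
  rw [eq_bot_iff]
  rintro v ⟨h1, h2⟩
  ext i
  cases i with
  | inl i => exact mem_stdE'.1 h2 i
  | inr i => exact mem_stdE.1 h1 i

/-! ### Levi elements -/

section levi
variable {κ : Type} [Fintype κ] [DecidableEq κ]

lemma polar_QH_inl (j : κ) (c : F) (x : κ ⊕ κ → F) :
    polar (QH κ F) (Pi.single (Sum.inl j) c) x = c * x (Sum.inr j) := by
  simp [polar_QH, Pi.single_apply]

lemma polar_QH_inr (j : κ) (c : F) (x : κ ⊕ κ → F) :
    polar (QH κ F) (Pi.single (Sum.inr j) c) x = c * x (Sum.inl j) := by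
  simp [polar_QH, Pi.single_apply]

lemma QH_inl (j : κ) (c : F) : QH κ F (Pi.single (Sum.inl j) c) = 0 := by simp [QH_apply]

lemma QH_inr (j : κ) (c : F) : QH κ F (Pi.single (Sum.inr j) c) = 0 := by simp [QH_apply]

lemma exists_diag [Finite F] (hG : Good (QH κ F)) (D : κ → F) (hD : ∀ i, D i ≠ 0) :
    ∃ g : OG (QH κ F), (∀ x k, g.1 x k = Sum.elim D (fun i => (D i)⁻¹) k * x k) ∧
      dickF g = 1 ∧ spinF g = chi (∏ i, D i) := by
  suffices ∀ s : Finset κ, ∃ g : OG (QH κ F), (∀ x k, g.1 x k =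
      Sum.elim (fun i => if i ∈ s then D i else 1) (fun i => if i ∈ s then (D i)⁻¹ else 1) k * x k) ∧
      dickF g = 1 ∧ spinF g = chi (∏ i ∈ s, D i) by
    simpa using this Finset.univ
  intro s
  induction s using Finset.induction_on with
  | empty => exact ⟨1, fun x k => by cases k <;> simp, by simp, by simp⟩
  | insert j s hj ih =>
    obtain ⟨g, hg, h1, h2⟩ := ih
    have hu : QH κ F (Pi.single (Sum.inl j) 1) = 0 := by simp [QH_apply]
    have hw : QH κ F (Pi.single (Sum.inr j) 1) = 0 := by simp [QH_apply]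
    have huw : polar (QH κ F) (Pi.single (Sum.inl j) 1) (Pi.single (Sum.inr j) 1) = 1 := by
      simp [polar_QH, Pi.single_apply]
    refine ⟨dil _ (Pi.single (Sum.inl j) 1) (Pi.single (Sum.inr j) 1) (D j) * g, fun x k => ?_,
      ?_, ?_⟩
    · rw [OG.mul_apply, dil_apply hu hw huw (hD j)]
      rcases k with k | k <;> by_cases hk : k = j <;>
        simp [polar_QH_inl, polar_QH_inr, Pi.single_apply, hg, hk, hj] <;> ring
    · rw [dickF_mul ND_QH hG, dickF_dil ND_QH hu hw huw (hD j), h1, mul_one]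
    · rw [spinF_mul ND_QH hG, spinF_dil ND_QH hu hw huw (hD j), h2, Finset.prod_insert hj,
        chi_mul (hD j) (Finset.prod_ne_zero_iff.2 fun i _ => hD i)]

theorem exists_levi [Finite F] (hG : Good (QH κ F)) (M : Matrix κ κ F) (hM : M.det ≠ 0) :
    ∃ g : OG (QH κ F), (∀ x, g.1 x = Matrix.fromBlocks M 0 0 (M⁻¹)ᵀ *ᵥ x) ∧
      dickF g = 1 ∧ spinF g = chi M.det := by
  refine Matrix.diagonal_transvection_induction_of_det_ne_zero
    (fun M => ∃ g : OG (QH κ F), (∀ x, g.1 x = Matrix.fromBlocks M 0 0 (M⁻¹)ᵀ *ᵥ x) ∧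
      dickF g = 1 ∧ spinF g = chi M.det) M hM (fun D hD => ?_) (fun t => ?_)
      (fun A B hA hB ⟨g, hg, h1, h2⟩ ⟨h, hh, h3, h4⟩ => ?_)
  · rw [Matrix.det_diagonal] at hD ⊢
    have hD' : ∀ i, D i ≠ 0 := fun i => Finset.prod_ne_zero_iff.1 hD i (Finset.mem_univ i)
    obtain ⟨g, hg, h1, h2⟩ := exists_diag hG D hD'
    refine ⟨g, fun x => ?_, h1, h2⟩
    have : (Matrix.diagonal D)⁻¹ = Matrix.diagonal fun i => (D i)⁻¹ := by
      refine Matrix.inv_eq_right_inv ?_
      simp [Matrix.diagonal_mul_diagonal, hD']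
    ext k
    rw [hg, this, Matrix.diagonal_transpose, Matrix.fromBlocks_diagonal, Matrix.mulVec_diagonal]
  · obtain ⟨i, j, hij, c⟩ := t
    have hu : QH κ F (Pi.single (Sum.inl i) 1) = 0 := by simp [QH_apply]
    have huw : polar (QH κ F) (Pi.single (Sum.inl i) 1) (Pi.single (Sum.inr j) c) = 0 := by
      simp [polar_QH, Pi.single_apply, hij.symm]
    have hm := (mem_commutator_iff ND_QH hG _).1
      (sieg_mem_commutator ND_QH hG (Pi.single (Sum.inl i) 1) (Pi.single (Sum.inr j) c))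
    refine ⟨sieg _ (Pi.single (Sum.inl i) 1) (Pi.single (Sum.inr j) c), fun x => ?_, hm.1, by
      rw [hm.2, Matrix.TransvectionStruct.det, chi_one]⟩
    have : (Matrix.transvection i j c)⁻¹ = Matrix.transvection i j (-c) := by
      refine Matrix.inv_eq_right_inv ?_
      simp [Matrix.transvection_mul_transvection_same _ _ hij]
    rw [Matrix.TransvectionStruct.toMatrix_mk, this, sieg_apply hu huw]
    ext k
    rcases k with k | k
    · simp [Matrix.fromBlocks_mulVec, Matrix.transvection, Matrix.add_mulVec, polar_QH, QH_apply,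
        Pi.single_apply, Matrix.single_mulVec, Function.update_apply]
    · simp [Matrix.fromBlocks_mulVec, Matrix.transvection, Matrix.add_mulVec, polar_QH, QH_apply,
        Pi.single_apply, Matrix.single_mulVec, Function.update_apply]
      split_ifs <;> ring
  · refine ⟨g * h, fun x => ?_, by rw [dickF_mul ND_QH hG, h1, h3, mul_one], by
      rw [spinF_mul ND_QH hG, h2, h4, Matrix.det_mul, chi_mul hA hB]⟩
    rw [OG.mul_apply, hh, hg, Matrix.mulVec_mulVec, Matrix.fromBlocks_multiply, Matrix.mul_inv_rev,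
      Matrix.transpose_mul]
    simp

end levi

end CfsgH8
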