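import Cfsg.Agent.H8.Gamma

set_option autoImplicit false

namespace CfsgH8

open QuadraticMap Module

variable {F V : Type*} [Field F] [AddCommGroup V] [Module F V] {Q : QuadraticForm F V}

/-- non-degenerate of dimension at least five -/
class Big (Q : QuadraticForm F V) : Prop where
  nd : ND Q
  five : 5 ≤ finrank F V

lemma Big.good [h : Big Q] : Good Q := good_of_finrank (by have := h.five; omega)

lemma Big.fd (Q : QuadraticForm F V) [h : Big Q] : FiniteDimensional F V :=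
  Module.finite_of_finrank_pos (by have := h.five; omega)

lemma Big.nontrivial (Q : QuadraticForm F V) [h : Big Q] : Nontrivial V :=
  Module.nontrivial_of_finrank_pos (R := F) (by have := h.five; omega)

/-- the derived group -/
abbrev Om (Q : QuadraticForm F V) := commutator (OG Q)

/-- the projection to the projective group -/
abbrev pmk (Q : QuadraticForm F V) : Om Q →* POm Q := QuotientGroup.mk' (Subgroup.center _)

/-- Siegel transformations in the derived group -/
noncomputable def sg (Q : QuadraticForm F V) [h : Big Q] (u v : V) : Om Q :=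
  ⟨sieg Q u v, haveI := Big.fd Q; sieg_mem_commutator h.nd Big.good u v⟩

@[simp] lemma sg_coe [Big Q] (u v : V) : (sg Q u v : OG Q) = sieg Q u v := rfl

/-- the group of Siegel transformations attached to a singular vector -/
def XS (Q : QuadraticForm F V) (u : V) : Subgroup (Om Q) where
  carrier := {g | ∃ v, polar Q u v = 0 ∧ (g : OG Q) = sieg Q u v}
  one_mem' := ⟨0, by simp, by simp⟩
  mul_mem' := by
    rintro a b ⟨v, hv, ha⟩ ⟨w, hw, hb⟩
    refine ⟨v + w, by simp [hv, hw], ?_⟩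
    rw [Subgroup.coe_mul, ha, hb]
    by_cases hu : Q u = 0
    · rw [sieg_add hu hv hw]
    · simp [sieg_of_not (fun h => hu h.1)]
  inv_mem' := by
    rintro a ⟨v, hv, ha⟩
    refine ⟨-v, by simp [hv], ?_⟩
    rw [Subgroup.coe_inv, ha]
    by_cases hu : Q u = 0
    · rw [sieg_neg hu hv]
    · simp [sieg_of_not (fun h => hu h.1)]

lemma mem_XS {u : V} {g : Om Q} :
    g ∈ XS Q u ↔ ∃ v, polar Q u v = 0 ∧ (g : OG Q) = sieg Q u v := Iff.rfl

lemma sg_mem_XS [Big Q] {u v : V} (h : polar Q u v = 0) : sg Q u v ∈ XS Q u := ⟨v, h, rfl⟩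

/-- the image in the projective group -/
def BS (Q : QuadraticForm F V) (u : V) : Subgroup (POm Q) := (XS Q u).map (pmk Q)

lemma sieg_nsmul {u v : V} (hu : Q u = 0) (hv : polar Q u v = 0) (k : ℕ) :
    sieg Q u (k • v) = sieg Q u v ^ k := by
  induction k with
  | zero => simp
  | succ k ih =>
    rw [succ_nsmul, sieg_add hu (by rw [← Nat.cast_smul_eq_nsmul F, polar_sr, hv, mul_zero]) hv, ih,
      pow_succ]

lemma sieg_pow_char (p : ℕ) [CharP F p] (u v : V) : sieg Q u v ^ p = 1 := by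
  by_cases h : Q u = 0 ∧ polar Q u v = 0
  · rw [← sieg_nsmul h.1 h.2, ← Nat.cast_smul_eq_nsmul F, CharP.cast_eq_zero, zero_smul, sieg_zero]
  · rw [sieg_of_not h, one_pow]

lemma XS_pow (p : ℕ) [CharP F p] {u : V} {g : Om Q} (hg : g ∈ XS Q u) : g ^ p ^ 1 = 1 := by
  obtain ⟨v, -, h⟩ := hg
  exact Subtype.ext (by rw [pow_one, Subgroup.coe_pow, h, sieg_pow_char p]; rfl)

lemma XS_isPGroup (p : ℕ) [CharP F p] (u : V) : IsPGroup p (XS Q u) :=
  fun g => ⟨1, Subtype.ext (XS_pow p g.2)⟩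

lemma XS_smul {u : V} (hu : Q u = 0) {a : F} (ha : a ≠ 0) : XS Q (a • u) = XS Q u := by
  ext g
  constructor
  · rintro ⟨v, hv, h⟩
    rw [polar_sl, mul_eq_zero, or_iff_right ha] at hv
    exact ⟨a • v, by rw [polar_sr, hv, mul_zero], by rw [h, sieg_smul_left hu hv]⟩
  · rintro ⟨v, hv, h⟩
    refine ⟨a⁻¹ • v, by rw [polar_sr, polar_sl, hv, mul_zero, mul_zero], ?_⟩
    rw [h, sieg_smul_left hu (by rw [polar_sr, hv, mul_zero]), smul_smul, mul_inv_cancel₀ ha,
      one_smul]

lemma BS_smul {u : V} (hu : Q u = 0) {a : F} (ha : a ≠ 0) : BS Q (a • u) = BS Q u := by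
  rw [BS, XS_smul hu ha, BS]

lemma XS_comm {u : V} {g h : Om Q} (hg : g ∈ XS Q u) (hh : h ∈ XS Q u) : g * h = h * g := by
  obtain ⟨v, hv, e1⟩ := hg
  obtain ⟨w, hw, e2⟩ := hh
  apply Subtype.ext
  rw [Subgroup.coe_mul, Subgroup.coe_mul, e1, e2]
  by_cases hu : Q u = 0
  · rw [← sieg_add hu hv hw, ← sieg_add hu hw hv, add_comm]
  · simp [sieg_of_not (fun h => hu h.1)]

lemma map_BS_le (γ : Gam Q) (u : V) : (BS Q u).map (Phi Q γ).toMonoidHom ≤ BS Q (γ.T u) := by
  rintro _ ⟨_, ⟨g, ⟨v, hv, hg⟩, rfl⟩, rfl⟩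
  refine ⟨commCongr γ.og g, ⟨(γ.c : F)⁻¹ • γ.T v, ?_, ?_⟩, rfl⟩
  · rw [polar_sr, γ.polar_eq_zero.2 hv, mul_zero]
  · rw [commCongr_coe, hg, γ.og_sieg]

lemma map_BS (γ : Gam Q) (u : V) : (BS Q u).map (Phi Q γ).toMonoidHom = BS Q (γ.T u) := by
  refine le_antisymm (map_BS_le γ u) fun x hx => ?_
  have := map_BS_le γ⁻¹ (γ.T u) ⟨x, hx, rfl⟩
  rw [Gam.inv_T_T] at this
  exact ⟨_, this, by simp⟩

lemma Phi_sg [Big Q] (γ : Gam Q) (u v : V) :
    Phi Q γ (pmk Q (sg Q u v)) = pmk Q (sg Q (γ.T u) ((γ.c : F)⁻¹ • γ.T v)) := by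
  change QuotientGroup.mk (commCongr γ.og _) = QuotientGroup.mk _
  congr 1
  exact Subtype.ext (γ.og_sieg u v)

lemma conj_mem_BS (g : Om Q) {u : V} {x : POm Q} (hx : x ∈ BS Q u) :
    pmk Q g * x * (pmk Q g)⁻¹ ∈ BS Q (g.1.1 u) := by
  have := map_BS_le (ofOG Q g) u ⟨x, hx, rfl⟩
  rwa [Phi_ofOG] at this

lemma map_conj_BS (g : Om Q) (u : V) :
    (BS Q u).map (MulAut.conj (pmk Q g)).toMonoidHom = BS Q (g.1.1 u) := by
  have := map_BS (ofOG Q g) u
  rwa [Phi_ofOG] at this

/-! ### hyperbolic pairs -/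

/-- the orthogonal complement of a pair of vectors -/
abbrev perp2 (Q : QuadraticForm F V) (e f : V) : Submodule F V :=
  perp Q (Submodule.span F {e, f})

lemma mem_perp2 {e f x : V} : x ∈ perp2 Q e f ↔ polar Q e x = 0 ∧ polar Q f x = 0 := by
  rw [mem_perp_span]; simp

/-- projection to the complement of a hyperbolic pair -/
lemma proj_mem_perp2 {e f : V} (he : Q e = 0) (hf : Q f = 0) (h : polar Q e f = 1) (x : V) :
    x - polar Q f x • e - polar Q e x • f ∈ perp2 Q e f := by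
  rw [mem_perp2]
  simp [polar_sub_right, polar_self', he, hf, h, pcomm f e]

lemma span_inf_perp2 {e f : V} (he : Q e = 0) (hf : Q f = 0) (h : polar Q e f = 1) :
    Submodule.span F {e, f} ⊓ perp2 Q e f = ⊥ := by
  rw [eq_bot_iff]
  rintro x ⟨h1, h2⟩
  obtain ⟨a, b, rfl⟩ := Submodule.mem_span_pair.1 h1
  have := mem_perp2.1 h2
  simp [polar_add_right, polar_self', he, hf, h, pcomm f e] at this
  simp [this]

lemma finrank_perp2 [FiniteDimensional F V] (hQ : ND Q) {e f : V} (he : Q e = 0)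
    (h : polar Q e f = 1) : finrank F (perp2 Q e f) + 2 = finrank F V := by
  have h1 := hQ.finrank_perp (Submodule.span F {e, f})
  have h2 := finrank_span_eq_card (linInd_pair_of_polar he (by rw [h]; exact one_ne_zero))
  rw [Matrix.range_cons_cons_empty] at h2
  simp only [Fintype.card_fin] at h2
  rw [h2] at h1
  rw [← h1, add_comm]

lemma nd_perp2 [FiniteDimensional F V] (hQ : ND Q) {e f : V} (he : Q e = 0) (hf : Q f = 0)
    (h : polar Q e f = 1) : ND (res Q (perp2 Q e f)) := by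
  rw [nd_res_iff, hQ.perp_perp, inf_comm, span_inf_perp2 he hf h]

lemma eq_zero_of_perp2 (hQ : ND Q) {e f : V} (he : Q e = 0) (hf : Q f = 0)
    (h : polar Q e f = 1) {v : V} (hv : v ∈ perp2 Q e f)
    (h0 : ∀ y ∈ perp2 Q e f, polar Q v y = 0) : v = 0 :=
  hQ.eq_zero fun y => by
    have := h0 _ (proj_mem_perp2 he hf h y)
    obtain ⟨h1, h2⟩ := mem_perp2.1 hv
    simpa [polar_sub_right, pcomm v e, pcomm v f, h1, h2] using this

lemma sing_induction {e f : V} (he : Q e = 0) (hf : Q f = 0) (h : polar Q e f = 1)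
    {P : V → Prop} (h1 : ∀ x, Q x = 0 → P x) (h2 : ∀ x y, P x → P y → P (x + y)) (x : V) : P x := by
  set y := x - polar Q f x • e - polar Q e x • f with hy
  obtain ⟨y1, y2⟩ := mem_perp2.1 (hy ▸ proj_mem_perp2 he hf h x)
  have e1 : x = (e + y - Q y • f) + ((polar Q f x - 1) • e + (polar Q e x + Q y) • f) := by
    rw [hy]; module
  rw [e1]
  refine h2 _ _ (h1 _ ?_) (h2 _ _ (h1 _ ?_) (h1 _ ?_))
  · rw [Q_sub, Q_add, Q_smul, polar_sr, polar_add_left, h, pcomm y f, y1, y2, he, hf]; ring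
  · rw [Q_smul, he, mul_zero]
  · rw [Q_smul, hf, mul_zero]

section fd
variable [FiniteDimensional F V]

lemma exists_hyp [Finite F] (hQ : ND Q) (hn : 3 ≤ finrank F V) :
    ∃ e f : V, Q e = 0 ∧ Q f = 0 ∧ polar Q e f = 1 := by
  obtain ⟨e, he0, he⟩ := exists_sing (Q := Q) hn
  obtain ⟨f, hf, h⟩ := hQ.exists_partner' he he0
  exact ⟨e, f, he, hf, h⟩

lemma sing_induction' [Finite F] (hQ : ND Q) (hn : 3 ≤ finrank F V)
    {P : V → Prop} (h1 : ∀ x, Q x = 0 → P x) (h2 : ∀ x y, P x → P y → P (x + y)) (x : V) : P x := by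
  obtain ⟨e, f, he, hf, h⟩ := exists_hyp hQ hn
  exact sing_induction he hf h h1 h2 x

lemma exists_perp_notMem (hQ : ND Q) {U : Submodule F V} (h : 2 * finrank F U < finrank F V) :
    ∃ v ∈ perp Q U, v ∉ U :=
  exists_mem_notMem_of_finrank_lt (by have := hQ.finrank_perp U; omega)

lemma finrank_sup_span_le (D : Submodule F V) (w : V) :
    finrank F ↥(D ⊔ F ∙ w) ≤ finrank F D + 1 := by
  have h1 := Submodule.finrank_add_le_finrank_add_finrank D (F ∙ w)
  have h2 : finrank F (F ∙ w) ≤ 1 := by simpa using finrank_span_le_card ({w} : Set V)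
  omega

/-- An invariant subspace contains the singular vector. -/
lemma mem_of_sieg_inv (hQ : ND Q) {D U : Submodule F V} {w : V} (hw : Q w = 0)
    (hn : 2 * finrank F D + 3 ≤ finrank F V) (hDU : D < U)
    (hinv : ∀ v ∈ perp Q D, polar Q w v = 0 → ∀ x ∈ U, (sieg Q w v).1 x ∈ U) : w ∈ U := by
  have key : ∀ x ∈ U, x ∉ D → polar Q w x = 0 → w ∈ U := by
    intro x hx hxD hwx
    by_cases h : x ∈ D ⊔ F ∙ w
    · obtain ⟨d, hd, _, hz, rfl⟩ := Submodule.mem_sup.1 h
      obtain ⟨a, rfl⟩ := Submodule.mem_span_singleton.1 hz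
      have ha : a ≠ 0 := by rintro rfl; simp [hd] at hxD
      have : a • w ∈ U := by simpa using U.sub_mem hx (hDU.le hd)
      exact (U.smul_mem_iff ha).1 this
    · obtain ⟨v, hv, hxv⟩ := hQ.exists_perp_one h
      have hwv := hv w (Submodule.mem_sup_right (Submodule.mem_span_singleton_self w))
      have := hinv v (fun d hd => hv d (Submodule.mem_sup_left hd)) hwv x hx
      rw [sieg_apply_of_perp hw hwv hwx, pcomm, hxv, one_smul] at this
      simpa using U.sub_mem this hx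
  obtain ⟨x, hx, hxD⟩ := SetLike.exists_of_lt hDU
  by_cases hwx : polar Q w x = 0
  · exact key x hx hxD hwx
  obtain ⟨v, hv, hvD⟩ := exists_perp_notMem hQ (U := D ⊔ F ∙ w)
    (by have := finrank_sup_span_le D w; omega)
  obtain ⟨hv1, hv2⟩ := mem_perp_sup.1 hv
  rw [mem_perp_span_singleton] at hv2
  have h1 := U.sub_mem (hinv v hv1 hv2 x hx) hx
  refine key _ h1 (fun h => hvD ?_) ?_
  · rw [sieg_apply hw hv2] at h
    have e : v = (-(polar Q w x)⁻¹) • (x + polar Q v x • w - polar Q w x • v -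
        (Q v * polar Q w x) • w - x) + ((polar Q w x)⁻¹ * polar Q v x - Q v) • w := by
      match_scalars <;> field_simp <;> ring
    rw [e]
    exact Submodule.add_mem_sup (D.smul_mem _ h)
      (Submodule.smul_mem _ _ (Submodule.mem_span_singleton_self w))
  · rw [polar_sub_right, OG.polar_inv', ← sieg_neg hw hv2, sieg_apply_self hw (by simp [hv2]),
      sub_self]

/-- the common fixed space of the Siegel transformations at `u`. -/
lemma mem_span_of_fixed (hQ : ND Q) (hn : 3 ≤ finrank F V) {u x : V} (hu : Q u = 0) (hu0 : u ≠ 0)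
    (h : ∀ v, polar Q u v = 0 → (sieg Q u v).1 x = x) : x ∈ F ∙ u := by
  have hux : polar Q u x = 0 := by
    by_contra hux
    obtain ⟨v, hv, hvu⟩ := exists_perp_notMem hQ (U := F ∙ u)
      (by rw [finrank_span_singleton hu0]; omega)
    rw [mem_perp_span_singleton] at hv
    have h1 := h v hv
    rw [sieg_apply hu hv] at h1
    refine hvu (Submodule.mem_span_singleton.2 ⟨(polar Q u x)⁻¹ * polar Q v x - Q v, ?_⟩)
    have : v = (polar Q u x)⁻¹ • (x - (x + polar Q v x • u - polar Q u x • v -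
        (Q v * polar Q u x) • u)) + ((polar Q u x)⁻¹ * polar Q v x - Q v) • u := by
      match_scalars <;> field_simp <;> ring
    conv_rhs => rw [this, h1]
    simp
  rw [← hQ.perp_perp (F ∙ u), mem_perp]
  intro v hv
  rw [mem_perp_span_singleton] at hv
  have h1 := h v hv
  rw [sieg_apply_of_perp hu hv hux] at h1
  simpa [hu0] using h1

omit [FiniteDimensional F V] in
lemma sieg_fix_of_nonperp {u v w : V} (hu : Q u = 0) (hv : polar Q u v = 0)
    (huw : polar Q u w ≠ 0) (h : (sieg Q u v).1 w = w) : sieg Q u v = 1 := by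
  rw [sieg_apply hu hv] at h
  have : v = (polar Q u w)⁻¹ • (w - (w + polar Q v w • u - polar Q u w • v -
      (Q v * polar Q u w) • u)) + ((polar Q u w)⁻¹ * polar Q v w - Q v) • u := by
    match_scalars <;> field_simp <;> ring
  rw [h, sub_self, smul_zero, zero_add] at this
  rw [this, sieg_smul_self hu]

lemma sieg_eq_one_iff (hQ : ND Q) {u v : V} (hu : Q u = 0) (hu0 : u ≠ 0) (hv : polar Q u v = 0) :
    sieg Q u v = 1 ↔ v ∈ F ∙ u := by
  constructor
  · intro h
    rw [← hQ.perp_perp (F ∙ u), mem_perp']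
    intro x hx
    rw [mem_perp_span_singleton] at hx
    have := sieg_apply_of_perp hu hv hx
    rw [h] at this
    simpa [hu0] using this
  · intro h
    obtain ⟨a, rfl⟩ := Submodule.mem_span_singleton.1 h
    exact sieg_smul_self hu a

/-- an isometry fixing `u` and acting trivially on `u^⊥/u` is a Siegel transformation -/
lemma eq_sieg_of_triv (hQ : ND Q) {u : V} (hu : Q u = 0) (hu0 : u ≠ 0) (g : OG Q)
    (h1 : g.1 u = u) (h2 : ∀ x, polar Q u x = 0 → g.1 x - x ∈ F ∙ u) :
    ∃ v, polar Q u v = 0 ∧ g = sieg Q u v := by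
  obtain ⟨f, hf, huf⟩ := hQ.exists_partner' hu hu0
  have hgf : polar Q u (g.1 f) = 1 := by rw [← h1, OG.map_polar, huf]
  set v := f - g.1 f + polar Q f (g.1 f) • u with hv
  have huu : polar Q u u = 0 := by rw [polar_self', hu, mul_zero]
  have hff : polar Q f f = 0 := by rw [polar_self', hf, mul_zero]
  have hfu : polar Q f u = 1 := by rw [pcomm, huf]
  have huv : polar Q u v = 0 := by
    rw [hv, polar_add_right, polar_sub_right, polar_sr, huf, hgf, huu]; ring
  have hfv : polar Q v f = 0 := by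
    rw [pcomm, hv, polar_add_right, polar_sub_right, polar_sr, hff, hfu]; ring
  have hQv : Q v = - polar Q f (g.1 f) := by
    rw [hv, Q_add, Q_sub, Q_smul, polar_sr, polar_sub_left, hfu, pcomm _ u, hgf, hu, hf, OG.map_Q,
      hf]; ring
  have e1 : (sieg Q u v).1 f = g.1 f := by
    rw [sieg_apply hu huv, hfv, huf, hQv, hv]; module
  refine ⟨v, huv, ?_⟩
  have key : ∀ x, polar Q u x = 0 → g.1 x = (sieg Q u v).1 x := by
    intro x hx
    obtain ⟨a, ha⟩ := Submodule.mem_span_singleton.1 (h2 x hx)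
    have e2 : g.1 x = x + a • u := by rw [ha]; abel
    have e3 := OG.map_polar g x f
    have e4 := OG.map_polar (sieg Q u v) x f
    rw [e1, sieg_apply_of_perp hu huv hx] at e4
    rw [e2] at e3
    simp only [polar_add_left, polar_sl, hgf] at e3 e4
    rw [e2, sieg_apply_of_perp hu huv hx]
    congr 2
    linear_combination e3 - e4
  refine OG.ext' fun x => ?_
  have : x = (x - polar Q u x • f) + polar Q u x • f := by abel
  rw [this, map_add, map_add, map_smul, map_smul, e1, key _ (by simp [polar_sub_right, huf])]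

/-- a semisimilarity fixing every singular point is a scalar -/
lemma eq_scal_of_fix [Finite F] (hQ : ND Q) (hn : 3 ≤ finrank F V) (γ : Gam Q)
    (h : ∀ u, Q u = 0 → γ.T u ∈ F ∙ u) : ∃ a : Fˣ, γ = scal Q a := by
  obtain ⟨e, f, he, hf, hef⟩ := exists_hyp hQ hn
  have : Nontrivial V := Module.nontrivial_of_finrank_pos (R := F) (by omega)
  obtain ⟨a, ha⟩ := Submodule.mem_span_singleton.1 (h e he)
  obtain ⟨b, hb⟩ := Submodule.mem_span_singleton.1 (h f hf)
  have he0 : e ≠ 0 := by rintro rfl; simp at hef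
  have hf0 : f ≠ 0 := by rintro rfl; simp at hef
  have ha0 : a ≠ 0 := by rintro rfl; exact he0 (γ.T_eq_zero.1 (by simp [← ha]))
  have hb0 : b ≠ 0 := by rintro rfl; exact hf0 (γ.T_eq_zero.1 (by simp [← hb]))
  have hee : polar Q e e = 0 := by rw [polar_self', he, mul_zero]
  have hff : polar Q f f = 0 := by rw [polar_self', hf, mul_zero]
  have hfe : polar Q f e = 1 := by rw [pcomm, hef]
  have key : ∀ y ∈ perp2 Q e f, γ.T y = a • y ∧ γ.σ (Q y) * b = a * Q y := by
    intro y hy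
    obtain ⟨y1, y2⟩ := mem_perp2.1 hy
    have t1 : polar Q e (γ.T y) = 0 := by
      have := γ.polar_eq_zero.2 y1
      rwa [← ha, polar_sl, mul_eq_zero, or_iff_right ha0] at this
    have t2 : polar Q f (γ.T y) = 0 := by
      have := γ.polar_eq_zero.2 y2
      rwa [← hb, polar_sl, mul_eq_zero, or_iff_right hb0] at this
    obtain ⟨l, hl⟩ := Submodule.mem_span_singleton.1 (h (e + y - Q y • f) (by
      rw [Q_sub, Q_add, Q_smul, polar_sr, polar_add_left, hef, pcomm y f, y1, y2, he, hf]; ring))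
    rw [map_sub, map_add, γ.smul, ← ha, ← hb] at hl
    have s1 := congrArg (polar Q f) hl
    have s2 := congrArg (polar Q e) hl
    simp only [polar_sr, polar_sub_right, polar_add_right, hee, hff, hef, hfe, y1, y2, t1, t2] at s1 s2
    have hla : l = a := by linear_combination s1
    subst hla
    refine ⟨?_, by linear_combination s2⟩
    have s3 : γ.σ (Q y) * b = l * Q y := by linear_combination s2
    rw [smul_smul, s3] at hl
    linear_combination (norm := module) -hl
  have hnd := nd_perp2 hQ he hf hef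
  have : Nontrivial (perp2 Q e f) := Module.nontrivial_of_finrank_pos (R := F)
    (by have := finrank_perp2 hQ he hef; omega)
  obtain ⟨⟨y, hy⟩, hy0⟩ := hnd.exists_nonsing
  change Q y ≠ 0 at hy0
  have hσ : γ.σ = 1 := RingEquiv.ext fun t => by
    have h1 := (key _ (Submodule.smul_mem _ t hy)).1
    rw [γ.smul, (key y hy).1, smul_smul, smul_smul, ← sub_eq_zero, ← sub_smul, smul_eq_zero] at h1
    rcases h1 with h1 | h1
    · exact mul_right_cancel₀ ha0 (by rw [sub_eq_zero.1 h1, mul_comm]; rfl)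
    · simp [h1] at hy0
  have hab : b = a := by
    have := (key y hy).2
    rw [hσ] at this
    exact mul_left_cancel₀ hy0 (by rw [mul_comm _ a]; exact this)
  refine ⟨Units.mk0 a ha0, Gam.ext hQ fun x => ?_⟩
  have e1 : x = (x - polar Q f x • e - polar Q e x • f) + polar Q f x • e + polar Q e x • f := by
    abel
  conv_lhs => rw [e1, map_add, map_add, (key _ (proj_mem_perp2 he hf hef x)).1,
    Gam.smul_of_lin hσ, Gam.smul_of_lin hσ, ← ha, ← hb, hab]
  simp only [scal_T, Units.val_mk0]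
  module

end fd

section big
variable [Finite F] [hB : Big Q]

lemma center_Om {z : Om Q} (hz : z ∈ Subgroup.center (Om Q)) :
    ∃ a : Fˣ, ofOG Q z = scal Q a := by
  have := Big.fd Q
  have hn := hB.five
  refine eq_scal_of_fix hB.nd (by omega) _ fun u hu => ?_
  by_cases hu0 : u = 0
  · simp [hu0]
  refine mem_span_of_fixed hB.nd (by omega) hu hu0 fun v hv => ?_
  have := congrArg (fun g : Om Q => g.1.1 u) (Subgroup.mem_center_iff.1 hz (sg Q u v))
  simpa [sieg_apply_self hu hv] using this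

lemma hZ_Om (p : ℕ) [CharP F p] [Fact p.Prime] :
    ∀ z ∈ Subgroup.center (Om Q), z ^ p = 1 → z = 1 := by
  intro z hz hp
  obtain ⟨a, ha⟩ := center_Om hz
  have := Big.nontrivial Q
  obtain ⟨x, hx⟩ := exists_ne (0 : V)
  have h1 : scal Q (a ^ p) = 1 := by
    rw [map_pow, ← ha, ← map_pow, ← Subgroup.coe_pow, hp]; simp
  have h2 : (a : F) ^ p = 1 := by
    have := congrArg (fun γ : Gam Q => γ.T x) h1
    simp only [scal_T, Gam.one_T, Units.val_pow_eq_pow_val] at this
    have h3 : ((a : F) ^ p - 1) • x = 0 := by rw [sub_smul, this, one_smul, sub_self]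
    exact sub_eq_zero.1 ((smul_eq_zero.1 h3).resolve_right hx)
  have h3 : (a : F) = 1 := by
    have := sub_pow_char (p := p) (a : F) 1
    rw [h2, one_pow, sub_self] at this
    exact sub_eq_zero.1 (pow_eq_zero_iff (Fact.out : p.Prime).ne_zero |>.1 this)
  apply Subtype.ext
  apply ofOG_injective
  rw [ha, Units.val_eq_one.1 h3]; simp

omit [Finite F] hB in
lemma mem_center_of_scal {z : Om Q} {a : Fˣ} (h : ofOG Q z = scal Q a) :
    z ∈ Subgroup.center (Om Q) :=
  Subgroup.mem_center_iff.2 fun g => Subtype.ext (OG.ext' fun x => by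
    have e : ∀ y, z.1.1 y = (a : F) • y := fun y => congrArg (fun γ : Gam Q => γ.T y) h
    simp [e])

lemma exists_prime_char (F : Type*) [Field F] [Finite F] : ∃ p : ℕ, p.Prime ∧ CharP F p := by
  obtain ⟨p, hp⟩ := CharP.exists F
  exact ⟨p, CharP.char_is_prime F p, hp⟩

lemma eq_of_pmk_eq {u w : V} {g h : Om Q} (hg : g ∈ XS Q u) (hh : h ∈ XS Q w)
    (e : pmk Q g = pmk Q h) : g = h := by
  obtain ⟨p, hp, _⟩ := exists_prime_char F
  have := Fact.mk hp
  exact CfsgH7.eq_of_mk_eq_of_pow (hZ_Om p) (XS_pow p hg) (XS_pow p hh) e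

lemma mem_span_of_BS_le {u w : V} (hu : Q u = 0) (hu0 : u ≠ 0) (hw : Q w = 0)
    (h : BS Q u ≤ BS Q w) : w ∈ F ∙ u := by
  have := Big.fd Q
  have hn := hB.five
  refine mem_span_of_fixed hB.nd (by omega) hu hu0 fun v hv => ?_
  obtain ⟨g, hg, e⟩ := h ⟨_, sg_mem_XS hv, rfl⟩
  obtain rfl := eq_of_pmk_eq hg (sg_mem_XS hv) e
  obtain ⟨v', hv', e'⟩ := hg
  rw [← sg_coe, e', sieg_apply_self hw hv']

theorem Phi_eq_one_iff {γ : Gam Q} : Phi Q γ = 1 ↔ ∃ a : Fˣ, γ = scal Q a := by
  have := Big.fd Q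
  have hn := hB.five
  refine ⟨fun h => eq_scal_of_fix hB.nd (by omega) _ fun u hu => ?_, ?_⟩
  · by_cases hu0 : u = 0
    · simp [hu0]
    refine mem_span_of_BS_le hu hu0 (γ.Q_eq_zero.2 hu) ?_
    rw [← map_BS, h]
    exact fun x hx => ⟨x, hx, rfl⟩
  · rintro ⟨a, rfl⟩
    exact Phi_scal a

lemma pmk_sg_eq_one_iff {u v : V} (hu : Q u = 0) (hu0 : u ≠ 0) (hv : polar Q u v = 0) :
    pmk Q (sg Q u v) = 1 ↔ v ∈ F ∙ u := by
  have := Big.fd Q
  rw [← sieg_eq_one_iff hB.nd hu hu0 hv]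
  constructor
  · intro h
    exact congrArg Subtype.val (eq_of_pmk_eq (sg_mem_XS hv) (XS Q u).one_mem (by simpa using h))
  · intro h
    rw [show sg Q u v = 1 from Subtype.ext h, _root_.map_one]

lemma BS_ne_bot {u : V} (hu : Q u = 0) (hu0 : u ≠ 0) : BS Q u ≠ ⊥ := by
  have := Big.fd Q
  have hn := hB.five
  obtain ⟨v, hv, hvu⟩ := exists_perp_notMem hB.nd (U := F ∙ u)
    (by rw [finrank_span_singleton hu0]; omega)
  rw [mem_perp_span_singleton] at hv
  intro h
  have : pmk Q (sg Q u v) ∈ BS Q u := ⟨_, sg_mem_XS hv, rfl⟩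
  rw [h, Subgroup.mem_bot, pmk_sg_eq_one_iff hu hu0 hv] at this
  exact hvu this

theorem BS_inf_eq_bot_iff {u w : V} (hu : Q u = 0) (hu0 : u ≠ 0) (hw : Q w = 0) (hw0 : w ≠ 0) :
    BS Q u ⊓ BS Q w = ⊥ ↔ polar Q u w ≠ 0 := by
  constructor
  · intro h huw
    by_cases hm : w ∈ F ∙ u
    · obtain ⟨a, rfl⟩ := Submodule.mem_span_singleton.1 hm
      rw [BS_smul hu (by rintro rfl; simp at hw0), inf_idem] at h
      exact BS_ne_bot hu hu0 h
    · have : pmk Q (sg Q u w) ∈ BS Q u ⊓ BS Q w :=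
        ⟨⟨_, sg_mem_XS huw, rfl⟩, ⟨_, ⟨-u, by simp [pcomm w u, huw], by
          rw [sg_coe, sieg_swap hw hu (by rw [pcomm, huw])]⟩, rfl⟩⟩
      rw [h, Subgroup.mem_bot, pmk_sg_eq_one_iff hu hu0 huw] at this
      exact hm this
  · intro h
    rw [eq_bot_iff]
    rintro _ ⟨⟨g, hg, rfl⟩, ⟨g', hg', e⟩⟩
    obtain rfl := eq_of_pmk_eq hg' hg e
    obtain ⟨v, hv, e1⟩ := hg
    obtain ⟨v', hv', e2⟩ := hg'
    have : sieg Q u v = 1 := sieg_fix_of_nonperp hu hv h (by rw [← e1, e2, sieg_apply_self hw hv'])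
    rw [show g' = 1 from Subtype.ext (e1.trans this)]
    simp

lemma exists_Om_map {u w : V} (hu : Q u = 0) (hu0 : u ≠ 0) (hw : Q w = 0) (hw0 : w ≠ 0) :
    ∃ g : Om Q, ∃ a : F, a ≠ 0 ∧ g.1.1 u = a • w := by
  have := Big.fd Q
  have hn := hB.five
  obtain ⟨g, hg, e⟩ := (TS.span_singleton hu).exists_omega_map_eq hB.nd Big.good
    (TS.span_singleton hw) (by rw [finrank_span_singleton hu0, finrank_span_singleton hw0])
    (by rw [finrank_span_singleton hu0]; omega)
  have : g.1 u ∈ F ∙ w := e ▸ ⟨u, Submodule.mem_span_singleton_self u, rfl⟩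
  obtain ⟨a, ha⟩ := Submodule.mem_span_singleton.1 this
  refine ⟨⟨g, hg⟩, a, ?_, ha.symm⟩
  rintro rfl
  exact hu0 ((OG.eq_zero_iff g u).1 (by simp [← ha]))

end big

end CfsgH8
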