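import Cfsg.Agent.H8.Wall
import Cfsg.Agent.H8.MaxTS
import Cfsg.Agent.H1.Sp1
import Cfsg.Agent.H7.InvRing

set_option autoImplicit false
set_option linter.unusedSectionVars false

namespace CfsgH8

open QuadraticMap Module

variable {F V : Type*} [Field F] [AddCommGroup V] [Module F V] [FiniteDimensional F V]
  {Q : QuadraticForm F V}

section alt

variable {B : LinearMap.BilinForm F V}

lemma det_alt_one (halt : B.IsAlt) (hnd : ∀ x, (∀ y, B x y = 0) → x = 0) {g : V →ₗ[F] V}
    (hg : ∀ x y, B (g x) (g y) = B x y) : LinearMap.det g = 1 := by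
  obtain ⟨k, hk⟩ := CfsgH1.even_finrank_of_alt halt hnd
  obtain ⟨e, he⟩ := CfsgH1.exists_symp_equiv halt hnd (m := k) (by omega)
  rw [← LinearMap.det_conj g e.symm]
  set g' := e.symm.toLinearMap ∘ₗ g ∘ₗ e.symm.symm.toLinearMap with hg'
  have h1 : ∀ x y, Matrix.toBilin' (Matrix.J (Fin k) F) (g' x) (g' y) =
      Matrix.toBilin' (Matrix.J (Fin k) F) x y := fun x y => by
    rw [← he, ← he x y, ← hg (e x) (e y)]
    simp [hg']
  rw [← LinearMap.det_toMatrix']
  apply SymplecticGroup.det_eq_one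
  rw [SymplecticGroup.mem_iff']
  rw [← LinearMap.BilinForm.toMatrix'_toBilin' (Matrix.J (Fin k) F),
    ← LinearMap.BilinForm.toMatrix'_comp]
  congr 1
  exact LinearMap.ext₂ h1

lemma det_alt_sim (halt : B.IsAlt) (hnd : ∀ x, (∀ y, B x y = 0) → x = 0) {k : ℕ}
    (hk : finrank F V = 2 * k) {g : V →ₗ[F] V} {c : F} (hc : c ≠ 0)
    (hg : ∀ x y, B (g x) (g y) = c * B x y) : LinearMap.det g = c ^ k := by
  obtain ⟨e, he⟩ := CfsgH1.exists_symp_equiv halt hnd hk
  let D : Fin k ⊕ Fin k → F := Sum.elim (fun _ => c⁻¹) (fun _ => 1)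
  let d : V →ₗ[F] V := e.toLinearMap ∘ₗ Matrix.toLin' (Matrix.diagonal D) ∘ₗ e.symm.toLinearMap
  have hd : LinearMap.det d = c⁻¹ ^ k := by
    rw [LinearMap.det_conj, LinearMap.det_toLin', Matrix.det_diagonal]
    simp [D, Fintype.prod_sum_type]
  have hdB : ∀ x y, B (d x) (d y) = c⁻¹ * B x y := fun x y => by
    obtain ⟨x, rfl⟩ := e.surjective x
    obtain ⟨y, rfl⟩ := e.surjective y
    simp only [d, LinearMap.comp_apply, LinearEquiv.coe_coe, LinearEquiv.symm_apply_apply, he,
      CfsgH1.toBilin'_J, CfsgH1.sympForm_eq, Matrix.toLin'_apply, Matrix.mulVec_diagonal, D,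
      Sum.elim_inl, Sum.elim_inr, Finset.mul_sum]
    exact Finset.sum_congr rfl fun i _ => by ring
  have := det_alt_one halt hnd (g := g ∘ₗ d) fun x y => by
    simp only [LinearMap.comp_apply, hg, hdB]; field_simp
  rw [LinearMap.det_comp, hd, inv_pow, mul_inv_eq_one₀ (pow_ne_zero _ hc)] at this
  exact this

lemma chi_det_alt (halt : B.IsAlt) (hnd : ∀ x, (∀ y, B x y = 0) → x = 0) :
    chi (B.toMatrix (finBasis F V)).det = 1 := by
  obtain ⟨k, hk⟩ := CfsgH1.even_finrank_of_alt halt hnd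
  obtain ⟨e, he⟩ := CfsgH1.exists_symp_equiv halt hnd (m := k) (by omega)
  obtain ⟨c, hc, h⟩ := det_bilin_basis_change B ((Pi.basisFun F _).map e) (finBasis F V)
  have : B.toMatrix ((Pi.basisFun F _).map e) = Matrix.J (Fin k) F := by
    ext i j
    simp [LinearMap.BilinForm.toMatrix_apply, he]
  rw [h, this, chi_sq_mul hc, SymplecticGroup.det_eq_one (SymplecticGroup.J_mem _ _)]
  exact chi_eq_one_iff.2 IsSquare.one

end alt

/-- the adjoint with respect to the polar form -/
noncomputable def adj (hQ : ND Q) : End F V →+ End F V where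
  toFun a := LinearMap.BilinForm.leftAdjointOfNondegenerate (polarBilin Q) hQ a
  map_zero' := LinearMap.ext fun x => hQ.ext fun y => by
    have := LinearMap.BilinForm.isAdjointPairLeftAdjointOfNondegenerate (polarBilin Q) hQ 0 x y
    simpa using this
  map_add' a b := LinearMap.ext fun x => hQ.ext fun y => by
    have h := LinearMap.BilinForm.isAdjointPairLeftAdjointOfNondegenerate (polarBilin Q) hQ (a + b) x y
    have h1 := LinearMap.BilinForm.isAdjointPairLeftAdjointOfNondegenerate (polarBilin Q) hQ a x y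
    have h2 := LinearMap.BilinForm.isAdjointPairLeftAdjointOfNondegenerate (polarBilin Q) hQ b x y
    simp only [polarBilin_apply_apply, LinearMap.add_apply, polar_add_right, polar_add_left]
      at h h1 h2 ⊢
    rw [h, h1, h2]

lemma polar_adj (hQ : ND Q) (a : End F V) (x y : V) :
    polar Q (adj hQ a x) y = polar Q x (a y) :=
  LinearMap.BilinForm.isAdjointPairLeftAdjointOfNondegenerate (polarBilin Q) hQ a x y

lemma polar_adj' (hQ : ND Q) (a : End F V) (x y : V) :
    polar Q x (adj hQ a y) = polar Q (a x) y := by rw [pcomm, polar_adj, pcomm]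

lemma adj_eq (hQ : ND Q) {a b : End F V} (h : ∀ x y, polar Q (b x) y = polar Q x (a y)) :
    adj hQ a = b := LinearMap.ext fun x => hQ.ext fun y => by rw [polar_adj, h]

lemma adj_mul (hQ : ND Q) (a b : End F V) : adj hQ (a * b) = adj hQ b * adj hQ a :=
  adj_eq hQ fun x y => by simp [polar_adj]

lemma adj_one (hQ : ND Q) : adj hQ 1 = 1 := adj_eq hQ fun _ _ => rfl

lemma adj_adj (hQ : ND Q) (a : End F V) : adj hQ (adj hQ a) = a :=
  adj_eq hQ fun x y => (polar_adj' hQ a x y).symm

lemma adj_smul (hQ : ND Q) (c : F) (a : End F V) : adj hQ (c • a) = c • adj hQ a :=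
  adj_eq hQ fun x y => by simp [polar_adj, polar_sl, polar_sr]

lemma adj_pow (hQ : ND Q) (a : End F V) (n : ℕ) : adj hQ (a ^ n) = adj hQ a ^ n := by
  induction n with
  | zero => simpa using adj_one hQ
  | succ n ih => rw [pow_succ, adj_mul, ih, pow_succ']

lemma adj_aeval (hQ : ND Q) (a : End F V) (p : Polynomial F) :
    adj hQ (Polynomial.aeval a p) = Polynomial.aeval (adj hQ a) p := by
  induction p using Polynomial.induction_on' with
  | add p q hp hq => simp [hp, hq]
  | monomial n c =>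
    simp only [Polynomial.aeval_monomial, ← Algebra.smul_def, adj_smul, adj_pow]

lemma adj_OG (hQ : ND Q) (g : OG Q) : adj hQ g.1.toLinearMap = (g⁻¹).1.toLinearMap :=
  adj_eq hQ fun x y => (OG.polar_inv' g x y).symm

lemma adj_mul_self (hQ : ND Q) {a : End F V} (h : ∀ x, Q (a x) = Q x) : adj hQ a * a = 1 :=
  LinearMap.ext fun x => hQ.ext fun y => by
    simp only [End.mul_apply, polar_adj, End.one_apply]
    exact polar_map a h x y

lemma toMatrix_polar_comp (k : End F V) :
    LinearMap.BilinForm.toMatrix (finBasis F V) (LinearMap.BilinForm.compRight (polarBilin Q) k) =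
      gram Q (finBasis F V) * LinearMap.toMatrix (finBasis F V) (finBasis F V) k := by
  rw [LinearMap.BilinForm.toMatrix_compRight, gram_eq_toMatrix]

lemma det_adj (hQ : ND Q) (a : End F V) : LinearMap.det (adj hQ a) = LinearMap.det a := by
  have h1 : LinearMap.BilinForm.compLeft (polarBilin Q) (adj hQ a) = LinearMap.BilinForm.compRight (polarBilin Q) a :=
    LinearMap.ext₂ fun x y => polar_adj hQ a x y
  have h2 := congrArg (fun B => (LinearMap.BilinForm.toMatrix (finBasis F V) B).det) h1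
  simp only [LinearMap.BilinForm.toMatrix_compLeft, LinearMap.BilinForm.toMatrix_compRight,
    Matrix.det_mul, Matrix.det_transpose, LinearMap.det_toMatrix, ← gram_eq_toMatrix] at h2
  rw [mul_comm] at h2
  exact mul_left_cancel₀ (hQ.det_gram_ne _) h2

lemma isUnit_adj (hQ : ND Q) {a : End F V} (h : IsUnit a) : IsUnit (adj hQ a) := by
  rw [LinearMap.isUnit_iff_isUnit_det, det_adj, ← LinearMap.isUnit_iff_isUnit_det]; exact h

lemma isUnit_end_iff {a : End F V} : IsUnit a ↔ ∀ x, a x = 0 → x = 0 := by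
  rw [LinearMap.isUnit_iff_ker_eq_bot, LinearMap.ker_eq_bot']

lemma det_ne_zero_of_isUnit {a : End F V} (h : IsUnit a) : LinearMap.det a ≠ 0 :=
  ((LinearMap.isUnit_iff_isUnit_det a).1 h).ne_zero

lemma skew_alt (hQ : ND Q) (h2 : (2 : F) ≠ 0) {k : End F V} (hk : adj hQ k = -k) :
    (LinearMap.BilinForm.compRight (polarBilin Q) k).IsAlt := fun x => by
  have := polar_adj hQ k x x
  rw [hk, LinearMap.neg_apply, polar_neg_left, pcomm] at this
  show polar Q x (k x) = 0
  apply mul_left_cancel₀ h2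
  linear_combination -this

lemma skew_nd (hQ : ND Q) {k : End F V} (hu : IsUnit k) (x : V)
    (h : ∀ y, LinearMap.BilinForm.compRight (polarBilin Q) k x y = 0) : x = 0 := hQ.eq_zero fun y => by
  obtain ⟨z, rfl⟩ := ((End.isUnit_iff k).1 hu).2 y
  exact h z

lemma skew_disc [Finite F] (hQ : ND Q) (h2 : (2 : F) ≠ 0) {k : End F V} (hk : adj hQ k = -k)
    (hu : IsUnit k) : discC Q * chi (LinearMap.det k) = 1 := by
  have := chi_det_alt (skew_alt hQ h2 hk) (skew_nd hQ hu)
  rwa [toMatrix_polar_comp, Matrix.det_mul, LinearMap.det_toMatrix,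
    chi_mul (hQ.det_gram_ne _) (det_ne_zero_of_isUnit hu), chi_gram] at this

lemma chi_det_sym [Finite F] (hQ : ND Q) (h2 : (2 : F) ≠ 0) {k s : End F V} (hk : adj hQ k = -k)
    (hu : IsUnit k) (hs : adj hQ s = s) (hsu : IsUnit s) (hc : k * s = s * k) :
    chi (LinearMap.det s) = 1 := by
  have h1 := skew_disc hQ h2 hk hu
  have h3 := skew_disc hQ h2 (k := k * s) (by rw [adj_mul, hk, hs, hc, mul_neg]) (hu.mul hsu)
  rw [_root_.map_mul, chi_mul (det_ne_zero_of_isUnit hu) (det_ne_zero_of_isUnit hsu), ← mul_assoc,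
    h1, one_mul] at h3
  exact h3

/-- an endomorphism preserving the polar form, in odd characteristic -/
noncomputable def mkOG (hQ : ND Q) (h2 : (2 : F) ≠ 0) (a : End F V) (h : adj hQ a * a = 1) : OG Q :=
  ⟨LinearEquiv.ofBijective a ((End.isUnit_iff a).1 (IsUnit.of_mul_eq_one_right _ h)), fun x => by
    apply mul_left_cancel₀ h2
    rw [← polar_self', ← polar_self']
    show polar Q (a x) (a x) = _
    rw [← polar_adj hQ, ← End.mul_apply, h, End.one_apply]⟩

@[simp] lemma mkOG_coe (hQ : ND Q) (h2 : (2 : F) ≠ 0) (a : End F V) (h : adj hQ a * a = 1) :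
    (mkOG hQ h2 a h).1.toLinearMap = a := rfl

/-- the Cayley type formula for the spinor norm -/
theorem exists_spin_det [Finite F] (hQ : ND Q) (h2 : (2 : F) ≠ 0) {y : End F V} (hy : IsUnit y)
    (hc : y * adj hQ y = adj hQ y * y) (hu : IsUnit (adj hQ y - y)) :
    ∃ g : OG Q, g.1.toLinearMap * adj hQ y = y ∧ dickF g = 1 ∧
      spinF g = chi (LinearMap.det y) := by
  obtain ⟨z, hz⟩ := isUnit_adj hQ hy
  obtain ⟨w, rfl⟩ := hy
  have hz' : adj hQ ↑z⁻¹ = ↑w⁻¹ := by
    have h1 : adj hQ ↑z⁻¹ * ↑w = 1 := by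
      rw [← adj_adj hQ w, ← hz, ← adj_mul, Units.mul_inv, adj_one]
    rw [← mul_one (adj hQ ↑z⁻¹), ← w.mul_inv, ← mul_assoc, h1, one_mul]
  have hc' : w * z = z * w := Units.ext (by simpa [hz] using hc)
  have h1 : adj hQ (w * ↑z⁻¹) * (w * ↑z⁻¹) = 1 := by
    rw [adj_mul, hz', ← hz]
    norm_cast
    rw [mul_assoc, ← mul_assoc z, ← hc']
    simp
  have hdz : LinearMap.det (z : End F V) = LinearMap.det (w : End F V) := by rw [hz, det_adj]
  have hd0 := det_ne_zero_of_isUnit w.isUnit
  have hdi : LinearMap.det (↑z⁻¹ : End F V) = (LinearMap.det (w : End F V))⁻¹ := by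
    rw [← hdz]; exact eq_inv_of_mul_eq_one_left (by rw [← _root_.map_mul]; simp)
  have h3 : 1 - (w : End F V) * ↑z⁻¹ = (adj hQ w - w) * ↑z⁻¹ := by
    rw [sub_mul, ← hz, Units.mul_inv]
  refine ⟨mkOG hQ h2 _ h1, by simp [← hz], ?_, ?_⟩
  · rw [dickF_eq_one_iff_det hQ h2, mkOG_coe, _root_.map_mul, hdi, mul_inv_cancel₀ hd0]
  · rw [spinF_eq_det hQ (good_of_two_ne h2), mkOG_coe, h3, _root_.map_mul, hdi,
      chi_mul (det_ne_zero_of_isUnit hu) (inv_ne_zero hd0), ← mul_assoc,
      skew_disc hQ h2 (by rw [map_sub, adj_adj, neg_sub]) hu, one_mul, chi_inv]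
    intro x hx
    have h4 : IsUnit (1 - (w : End F V) * ↑z⁻¹) := h3 ▸ hu.mul (Units.isUnit _)
    exact isUnit_end_iff.1 h4 x (by rw [LinearMap.sub_apply, sub_eq_zero]; exact hx.symm)

lemma exists_inv_pow [Finite F] {a b : End F V} (h : b * a = 1) : ∃ n : ℕ, b = a ^ n := by
  have : Finite V := Module.finite_of_finite F
  have : Finite (End F V) := Finite.of_injective _ DFunLike.coe_injective
  obtain ⟨u, rfl⟩ : IsUnit a := IsUnit.of_mul_eq_one_right _ h
  refine ⟨orderOf u - 1, ?_⟩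
  have h1 : u ^ (orderOf u - 1) * u = 1 := by
    rw [← pow_succ, Nat.sub_add_cancel (orderOf_pos u), pow_orderOf_eq_one]
  rw [← mul_one b, ← u.mul_inv, ← mul_assoc, h, one_mul, ← Units.val_pow_eq_pow_val,
    eq_inv_of_mul_eq_one_left h1]

/-- two forms invariant under a transformation without eigenvalues `±1` are equivalent under its
centraliser. -/
theorem exists_comm_isom [Finite F] {Q' : QuadraticForm F V} (hQ : ND Q) (hQ' : ND Q')
    {A : End F V} (hA : ∀ x, Q (A x) = Q x) (hA' : ∀ x, Q' (A x) = Q' x)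
    (h2 : ∀ x, A (A x) = x → x = 0) :
    ∃ y : V ≃ₗ[F] V, (∀ x, y (A x) = A (y x)) ∧ ∀ x, Q (y x) = Q' x := by
  have : Finite V := Module.finite_of_finite F
  have : Finite (End F V) := Finite.of_injective _ DFunLike.coe_injective
  let H : End F V := (LinearMap.BilinForm.toDual (polarBilin Q) hQ).symm.toLinearMap ∘ₗ polarBilin Q'
  have hH : ∀ x y, polar Q (H x) y = polar Q' x y := fun x y =>
    LinearMap.BilinForm.apply_toDual_symm_apply (hB := hQ) _ _
  have hHu : IsUnit H := isUnit_end_iff.2 fun x hx => hQ'.eq_zero fun y => by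
    rw [← hH, hx, polar_zero_left]
  have hHs : adj hQ H = H := adj_eq hQ fun x y => by rw [hH, pcomm x (H y), hH, pcomm]
  have hAA := adj_mul_self hQ hA
  have hAu : IsUnit A := IsUnit.of_mul_eq_one_right _ hAA
  have hAs := ((End.isUnit_iff A).1 hAu).2
  have hAH : A * H = H * A := LinearMap.ext fun x => hQ.ext fun y => by
    obtain ⟨y, rfl⟩ := hAs y
    simp only [End.mul_apply, hH, polar_map A hA, polar_map A hA']
  obtain ⟨n, hn⟩ := exists_inv_pow hAA
  have hA2 : IsUnit (A * A - 1) := isUnit_end_iff.2 fun x hx => h2 x (sub_eq_zero.1 hx)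
  have hθ : IsUnit (A - adj hQ A) := by
    have : A - adj hQ A = adj hQ A * (A * A - 1) := by
      rw [mul_sub, ← mul_assoc, hAA, one_mul, mul_one]
    rw [this]; exact (isUnit_adj hQ hAu).mul hA2
  have hAm : A ∈ Subring.closure {A, H} := Subring.subset_closure (by simp)
  have hHm : H ∈ Subring.closure {A, H} := Subring.subset_closure (by simp)
  have hcomm : ∀ a ∈ ({A, H} : Set (End F V)), ∀ b ∈ ({A, H} : Set (End F V)), a * b = b * a := by
    rintro a (rfl | rfl) b (rfl | rfl) <;> simp [hAH]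
  have hS : ∀ a ∈ ({A, H} : Set (End F V)), adj hQ a ∈ Subring.closure {A, H} := by
    rintro a (rfl | rfl)
    · rw [hn]; exact Subring.pow_mem _ hAm n
    · rwa [hHs]
  obtain ⟨x, hx, hxH⟩ := (CfsgH7.exists_norm_of_comm (adj hQ) (adj_mul hQ) (adj_one hQ) {A, H} hcomm
    hS (fun a _ => adj_adj hQ a) A hAm hθ).1 H hHm hHu hHs
  have hx' := (CfsgH7.closure_star_mem (adj hQ) (adj_mul hQ) (adj_one hQ) {A, H} hS
    (fun a _ => adj_adj hQ a) x hx).1
  have hxA : Commute A (adj hQ x) :=
    CfsgH7.commute_of_mem_closure (fun b hb => hcomm A (by simp) b hb) hx'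
  set y := adj hQ x with hy
  have hpol : ∀ u v, polar Q (y u) (y v) = polar Q' u v := fun u v => by
    rw [hy, polar_adj' hQ x, ← hH, ← hxH]; rfl
  have hyu : IsUnit y := isUnit_end_iff.2 fun u hu => hQ'.eq_zero fun v => by
    rw [← hpol, hu, polar_zero_left]
  refine ⟨LinearEquiv.ofBijective y ((End.isUnit_iff y).1 hyu),
    fun u => (LinearMap.congr_fun hxA.eq u).symm, fun u => ?_⟩
  have h1 : IsUnit (A - 1) := isUnit_end_iff.2 fun v hv => h2 v (by
    have : A v = v := sub_eq_zero.1 hv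
    rw [this, this])
  obtain ⟨v, rfl⟩ := ((End.isUnit_iff _).1 h1).2 u
  show Q (y (A v - v)) = Q' (A v - v)
  have h3 : y (A v) = A (y v) := (LinearMap.congr_fun hxA.eq v).symm
  rw [map_sub, Q_sub, Q_sub, hpol, h3, hA, hA']
  have h4 := hpol v v
  have h5 := hpol (A v) v
  rw [polar_self', polar_self'] at h4
  linear_combination h4

end CfsgH8
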