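import Cfsg.Agent.H8.Semi1
import Cfsg.Agent.H8.Delta

set_option autoImplicit false
set_option linter.unusedSectionVars false

namespace CfsgH8

open QuadraticMap Module Polynomial

universe u

variable {F : Type*} {V : Type u} [Field F] [AddCommGroup V] [Module F V] [FiniteDimensional F V]
  {Q : QuadraticForm F V}

lemma OG.pow_apply (g : OG Q) (k : ℕ) (x : V) : (g ^ k).1 x = (g.1.toLinearMap ^ k) x := by
  induction k with
  | zero => rfl
  | succ k ih => rw [pow_succ', pow_succ', OG.mul_apply, ih]; rfl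

lemma OG.coe_pow (g : OG Q) (k : ℕ) : (g ^ k).1.toLinearMap = g.1.toLinearMap ^ k :=
  LinearMap.ext (OG.pow_apply g k)

lemma OG.coe_mul (g h : OG Q) : (g * h).1.toLinearMap = g.1.toLinearMap * h.1.toLinearMap := rfl

lemma mov_inf_fix {A : OG Q} {N : ℕ} (hN : A ^ N = 1) (hNF : (N : F) ≠ 0) :
    movS A ⊓ fixS A = ⊥ := by
  rw [eq_bot_iff]
  rintro x ⟨hx, hx'⟩
  obtain ⟨y, hy⟩ := mem_movS.1 hx
  have hx' := mem_fixS.1 hx'
  have : ∀ k : ℕ, (A ^ k).1 y = y + (k : F) • x := fun k => by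
    induction k with
    | zero => simp
    | succ k ih =>
      rw [pow_succ', OG.mul_apply, ih, map_add, map_smul, hx', Nat.cast_succ, add_smul, one_smul,
        ← hy]
      abel
  have h := this N
  rw [hN, OG.one_apply, left_eq_add, smul_eq_zero] at h
  exact h.resolve_left hNF

lemma fix_of_sq {A : OG Q} {N : ℕ} (hN : A ^ N = 1) (ho : Odd N) {x : V}
    (h : A.1 (A.1 x) = x) : A.1 x = x := by
  obtain ⟨k, rfl⟩ := ho
  have : ∀ j : ℕ, (A ^ (2 * j)).1 x = x := fun j => by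
    induction j with
    | zero => rfl
    | succ j ih => rw [mul_add, pow_add, OG.mul_apply, mul_one, pow_two A, OG.mul_apply, h, ih]
  have h1 : (A ^ (2 * k + 1)).1 x = A.1 x := by rw [pow_succ', OG.mul_apply, this]
  rw [← h1, hN, OG.one_apply]

lemma mov_add_fix (hQ : ND Q) {A : OG Q} (h : movS A ⊓ fixS A = ⊥) (x : V) :
    ∃ u ∈ movS A, ∃ v ∈ fixS A, x = u + v := by
  obtain ⟨u, v, rfl⟩ := (perpDec (Q := Q) (U := movS A) (by rwa [perp_movS hQ])).surj x
  exact ⟨u, u.2, v, perp_movS hQ A ▸ v.2, rfl⟩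

lemma apply_mem_movS (A : OG Q) {x : V} (hx : x ∈ movS A) : A.1 x ∈ movS A := by
  obtain ⟨y, rfl⟩ := mem_movS.1 hx
  exact mem_movS.2 ⟨A.1 y, by rw [map_sub]⟩

/-- restriction of an isometry to an invariant non-degenerate subspace -/
lemma exists_res (hQ : ND Q) {U : Submodule F V} (h : U ⊓ perp Q U = ⊥) (A : OG Q)
    (hA : ∀ x ∈ U, A.1 x ∈ U) : ∃ (A₁ : OG (res Q U)) (A₂ : OG (res Q (perp Q U))),
      (perpDec h).hom (A₁, A₂) = A ∧ (∀ x : U, (A₁.1 x : V) = A.1 x) ∧
        ∀ x : perp Q U, (A₂.1 x : V) = A.1 x := by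
  obtain ⟨⟨A₁, A₂⟩, e⟩ := (perpDec h).exists_hom hQ A fun x => ⟨⟨A.1 x, hA x x.2⟩, by
    simp [perpDec_e]⟩
  refine ⟨A₁, A₂, e, fun x => ?_, fun x => ?_⟩
  · have := (perpDec h).hom_apply (A₁, A₂) x 0
    simpa [e, perpDec_e] using this.symm
  · have := (perpDec h).hom_apply (A₁, A₂) 0 x
    simpa [e, perpDec_e] using this.symm

lemma exists_movDec (hQ : ND Q) {A : OG Q} {N : ℕ} (hN : A ^ N = 1) (hNF : (N : F) ≠ 0) :
    ∃ (h : movS A ⊓ perp Q (movS A) = ⊥) (A₁ : OG (res Q (movS A))),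
      (perpDec h).homL A₁ = A ∧ (∀ x, (A₁.1 x : V) = A.1 x) ∧ A₁ ^ N = 1 ∧
        ∀ x, A₁.1 x = x → x = 0 := by
  have h0 := mov_inf_fix hN hNF
  have h : movS A ⊓ perp Q (movS A) = ⊥ := by rwa [perp_movS hQ]
  obtain ⟨A₁, A₂, e, h1, h2⟩ := exists_res hQ h A fun x => apply_mem_movS A
  have h3 : A₂ = 1 := OG.ext' fun x => Subtype.ext (by
    rw [h2]; exact mem_fixS.1 (perp_movS hQ A ▸ x.2))
  subst h3
  refine ⟨h, A₁, e, h1, ?_, fun x hx => ?_⟩
  · have := (perpDec h).hom_injective (a₁ := (A₁, 1) ^ N) (a₂ := 1) (by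
      rw [map_pow, e, hN, _root_.map_one])
    exact congrArg Prod.fst this
  · have : (x : V) ∈ movS A ⊓ fixS A := ⟨x.2, mem_fixS.2 (by rw [← h1, hx])⟩
    rw [h0] at this
    exact Subtype.ext this

/-- semisimple isometries of odd order conjugate under the linear group are conjugate -/
theorem conj_of_lin [Finite F] (hQ : ND Q) {A B : OG Q} {N : ℕ} (hN : A ^ N = 1) (ho : Odd N)
    (hNF : (N : F) ≠ 0) (g : V ≃ₗ[F] V) (hg : ∀ x, g (A.1 x) = B.1 (g x)) : IsConj A B := by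
  have hB : B ^ N = 1 := OG.ext' fun x => by
    obtain ⟨x, rfl⟩ := g.surjective x
    have : ∀ k : ℕ, (B ^ k).1 (g x) = g ((A ^ k).1 x) := fun k => by
      induction k with
      | zero => rfl
      | succ k ih => rw [pow_succ', pow_succ', OG.mul_apply, OG.mul_apply, ih, hg]
    rw [this, hN]; rfl
  have hB0 := mov_inf_fix hB hNF
  obtain ⟨h, A₁, -, h1, h2, h3⟩ := exists_movDec hQ hN hNF
  have hm : ∀ x : movS A, g x ∈ movS B := fun x => by
    obtain ⟨y, hy⟩ := mem_movS.1 x.2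
    exact mem_movS.2 ⟨g y, by rw [← hg, ← map_sub, hy]⟩
  have hm' : ∀ z ∈ movS B, ∃ x : movS A, g x = z := fun z hz => by
    obtain ⟨y, rfl⟩ := mem_movS.1 hz
    obtain ⟨y, rfl⟩ := g.surjective y
    exact ⟨⟨_, mem_movS.2 ⟨y, rfl⟩⟩, by rw [← hg, ← map_sub]⟩
  let Q₂ : QuadraticForm F (movS A) := Q.comp (g.toLinearMap ∘ₗ (movS A).subtype)
  have hQ₂ : ND Q₂ := ND.of_forall fun x hx => by
    have : g x ∈ movS B ⊓ fixS B := ⟨hm x, by
      rw [← perp_movS hQ]
      refine mem_perp'.2 fun z hz => ?_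
      obtain ⟨y, rfl⟩ := hm' z hz
      exact (polar_map (g.toLinearMap ∘ₗ (movS A).subtype) (Q₁ := Q₂) (fun _ => rfl) x y).trans
        (hx y)⟩
    rw [hB0] at this
    exact Subtype.ext (g.map_eq_zero_iff.1 this)
  obtain ⟨y, hy1, hy2⟩ := exists_comm_isom hQ₂ (nd_res_iff.2 h) (A := A₁.1.toLinearMap)
    (fun x => by
      show Q (g (A₁.1 x)) = Q (g x)
      rw [h1, hg, OG.map_Q]) A₁.2 fun x hx => h3 x (fix_of_sq h2 ho hx)
  obtain ⟨k, hk⟩ := witt hQ (movS A).subtype (g.toLinearMap ∘ₗ (movS A).subtype ∘ₗ y.toLinearMap)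
    Subtype.val_injective (g.injective.comp (Subtype.val_injective.comp y.injective))
    fun w => (hy2 w).symm
  have hk : ∀ w : movS A, k.1 w = g (y w) := hk
  refine isConj_iff.2 ⟨k, ?_⟩
  rw [mul_inv_eq_iff_eq_mul]
  refine OG.ext' fun x => ?_
  obtain ⟨u, hu, v, hv, rfl⟩ := mov_add_fix hQ (mov_inf_fix hN hNF) x
  have e1 : k.1 (A.1 u) = B.1 (k.1 u) := by
    have := hy1 ⟨u, hu⟩
    rw [hk ⟨u, hu⟩, ← hg, ← h1, ← h1 ⟨u, hu⟩, hk]
    exact congrArg (fun z : movS A => g z) this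
  have e2 : k.1 v ∈ fixS B := by
    rw [← perp_movS hQ]
    refine mem_perp.2 fun z hz => ?_
    obtain ⟨w, rfl⟩ := hm' z hz
    obtain ⟨w, rfl⟩ := y.surjective w
    rw [← hk, OG.map_polar]
    exact polar_mov_fix w.2 hv
  simp only [OG.mul_apply, map_add, e1, mem_fixS.1 hv, mem_fixS.1 e2]

lemma exists_sim_gdet [Finite F] (hQ : ND Q) {k : ℕ} (hk : finrank F V = 2 * k) (l : Fˣ) :
    ∃ γ : Gam Q, γ.σ = 1 ∧ γ.c = l ∧ gdet γ = (l : F) ^ k := by
  rcases k with _ | k
  · have : Subsingleton V := finrank_zero_iff.1 hk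
    refine ⟨SIso.ofSim (LinearEquiv.refl F V) l.ne_zero fun x => ?_, rfl, Units.ext rfl, ?_⟩
    · rw [Subsingleton.elim x 0]; simp
    · rw [gdet_eq rfl (g := LinearMap.id) fun _ => rfl, LinearMap.det_id, pow_zero]
  · obtain ⟨γ, h1, h2, h3, -⟩ := exists_basic l k hQ hk
    exact ⟨γ, h1, h2, h3⟩

lemma nd_smul (hQ : ND Q) {c : F} (hc : c ≠ 0) : ND (c • Q) :=
  hQ.congr (LinearEquiv.refl F V) hc fun _ => rfl

lemma skew_unit (hQ : ND Q) {A : OG Q} (h : ∀ x, A.1 (A.1 x) = x → x = 0) :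
    adj hQ (A.1.toLinearMap - adj hQ A.1.toLinearMap) =
      -(A.1.toLinearMap - adj hQ A.1.toLinearMap) ∧
      IsUnit (A.1.toLinearMap - adj hQ A.1.toLinearMap) := by
  refine ⟨by rw [map_sub, adj_adj, neg_sub], isUnit_end_iff.2 fun x hx => h x ?_⟩
  rw [adj_OG, LinearMap.sub_apply, sub_eq_zero] at hx
  change A.1 x = (A⁻¹).1 x at hx
  rw [hx, OG.apply_inv_self]

/-- similarities with prescribed multiplier commuting with a semisimple isometry -/
theorem exists_comm_sim [Finite F] (hQ : ND Q) (h2 : (2 : F) ≠ 0) (hn : Even (finrank F V))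
    {A : OG Q} {N : ℕ} (hN : A ^ N = 1) (ho : Odd N) (hNF : (N : F) ≠ 0) (l : Fˣ) :
    ∃ γ : Gam Q, γ.σ = 1 ∧ γ.c = l ∧ delta γ = 1 ∧ γ * ofOG Q A = ofOG Q A * γ := by
  obtain ⟨h, A₁, e, h1, h3, h4⟩ := exists_movDec hQ hN hNF
  have hQ₁ := nd_res_iff.2 h
  have h5 : ∀ x, A₁.1 (A₁.1 x) = x → x = 0 := fun x hx => h4 x (fix_of_sq h3 ho hx)
  obtain ⟨y, hy1, hy2⟩ := exists_comm_isom hQ₁ (nd_smul hQ₁ l.ne_zero) (A := A₁.1.toLinearMap)
    A₁.2 (fun x => congrArg (fun z => (l : F) * z) (A₁.2 x)) h5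
  obtain ⟨hs, hu⟩ := skew_unit hQ₁ h5
  obtain ⟨k₁, hk₁⟩ := CfsgH1.even_finrank_of_alt (skew_alt hQ₁ h2 hs) (skew_nd hQ₁ hu)
  have hy2 : ∀ x, res Q (movS A) (y x) = l * res Q (movS A) x := hy2
  have hdet : LinearMap.det y.toLinearMap = (l : F) ^ k₁ := by
    refine det_alt_sim (skew_alt hQ₁ h2 hs) (skew_nd hQ₁ hu) (by omega) l.ne_zero fun u v => ?_
    have e1 : (A₁⁻¹).1 (y v) = y ((A₁⁻¹).1 v) := OG.inj A₁ (by
      rw [OG.apply_inv_self]
      conv_lhs => rw [← OG.apply_inv_self A₁ v]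
      exact hy1 _)
    rw [adj_OG]
    show polar (res Q (movS A)) (y u) (A₁.1 (y v) - (A₁⁻¹).1 (y v)) =
      (l : F) * polar (res Q (movS A)) u (A₁.1 v - (A₁⁻¹).1 v)
    rw [e1, ← polar_congr y.toLinearMap hy2, map_sub]
    congr 2
    exact (hy1 v).symm
  have hf := (perpDec h).finrank_eq
  obtain ⟨k, hk⟩ := hn
  obtain ⟨γ₂, g1, g2, g3⟩ := exists_sim_gdet ((perpDec h).nd_right hQ) (k := k - k₁) (by omega) l
  let γ₁ : Gam (res Q (movS A)) := SIso.ofSim y l.ne_zero hy2
  have c1 : γ₁.c = l := Units.ext rfl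
  have s1 : γ₁.σ = 1 := rfl
  refine ⟨(perpDec h).gam γ₁ γ₂ (g1.trans s1.symm) (g2.trans c1.symm), rfl, c1, ?_, ?_⟩
  · refine delta_eq_of_gdet hQ h2 (k := k) (by omega) rfl ?_
    rw [ODec.gdet_gam _ _ _ _ _ s1, g3, gdet_eq (γ := γ₁) rfl (g := y.toLinearMap) fun _ => rfl,
      hdet, ODec.gam_c, c1, ← pow_add, show k₁ + (k - k₁) = k by omega]
    simp
  · refine SIso.ext' (fun x => ?_) rfl (Units.ext (by simp [Gam.mul_c]))
    obtain ⟨u, v, rfl⟩ := (perpDec h).surj x
    have e' : ∀ u v, A.1 ((perpDec h).e (u, v)) = (perpDec h).e (A₁.1 u, v) := fun u v => by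
      have := (perpDec h).homL_apply A₁ u v
      rwa [e] at this
    simp only [Gam.mul_T, ofOG_T, ODec.gam_T, e']
    congr 2
    exact hy1 u

lemma exists_det_nonsq [Finite F] (h2 : (2 : F) ≠ 0) [Nontrivial V] (a : End F V)
    (ha : ∀ U : Submodule F V, (∀ x ∈ U, a x ∈ U) → U = ⊥ ∨ U = ⊤) :
    ∃ p : F[X], chi (LinearMap.det (aeval a p)) = -1 := by
  have hs : IsSimpleModule F[X] (AEval' a) := by
    rw [isSimpleModule_iff_toSpanSingleton_surjective]
    refine ⟨(AEval'.of a).symm.nontrivial, fun x hx y => ?_⟩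
    obtain ⟨x, rfl⟩ := (AEval'.of a).surjective x
    obtain ⟨y, rfl⟩ := (AEval'.of a).surjective y
    let φ : F[X] →ₗ[F] V := LinearMap.applyₗ x ∘ₗ (aeval a).toLinearMap
    rcases ha (LinearMap.range φ) (by
      rintro _ ⟨p, rfl⟩
      exact ⟨X * p, by simp [φ]⟩) with h | h
    · exact absurd (by
        have : x ∈ LinearMap.range φ := ⟨1, by simp [φ]⟩
        rw [h] at this
        rw [(Submodule.mem_bot F).1 this, map_zero]) hx
    · obtain ⟨p, hp⟩ : y ∈ LinearMap.range φ := h ▸ Submodule.mem_top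
      exact ⟨p, by rw [LinearMap.toSpanSingleton_apply, ← hp, ← AEval.of_aeval_smul]; rfl⟩
  obtain ⟨I, hI, ⟨e⟩⟩ := isSimpleModule_iff_quot_maximal.1 hs
  let e' : V ≃ₗ[F] F[X] ⧸ I := (AEval'.of a).trans (e.restrictScalars F)
  letI := Ideal.Quotient.field I
  have : Finite V := Module.finite_of_finite F
  have : Finite (F[X] ⧸ I) := Finite.of_equiv _ e'.toEquiv
  obtain ⟨c, -, hc⟩ := exists_nonsq h2
  obtain ⟨k, hk⟩ := FiniteField.norm_surjective F (F[X] ⧸ I) c
  obtain ⟨p, rfl⟩ := Ideal.Quotient.mk_surjective k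
  refine ⟨p, ?_⟩
  rw [← hc, ← hk, Algebra.norm_apply, ← LinearMap.det_conj _ e']
  congr 2
  refine LinearMap.ext fun z => ?_
  obtain ⟨z, rfl⟩ := e'.surjective z
  simp only [LinearMap.comp_apply, LinearEquiv.coe_coe, LinearEquiv.symm_apply_apply]
  show e (AEval'.of a (aeval a p • z)) = _
  rw [AEval.of_aeval_smul, map_smul]
  rfl

lemma comm_of_spin_det (hQ : ND Q) {y : End F V} (hy : IsUnit y) {A g : OG Q}
    (hg : g.1.toLinearMap * adj hQ y = y) (h1 : Commute A.1.toLinearMap y)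
    (h2 : Commute A.1.toLinearMap (adj hQ y)) : g * A = A * g := by
  have : g.1.toLinearMap * A.1.toLinearMap = A.1.toLinearMap * g.1.toLinearMap :=
    (isUnit_adj hQ hy).mul_right_cancel (by
      rw [mul_assoc, h2.eq, ← mul_assoc, hg, mul_assoc, hg, h1.eq])
  exact OG.ext' fun x => LinearMap.congr_fun this x

lemma commute_aeval (a : End F V) {b : End F V} (h : Commute b a) (p : F[X]) :
    Commute b (aeval a p) := by
  induction p using Polynomial.induction_on' with
  | add p q hp hq => rw [map_add]; exact hp.add_right hq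
  | monomial n c =>
    rw [aeval_monomial]; exact (Algebra.commute_algebraMap_right c b).mul_right (h.pow_right n)

lemma commute_adj (hQ : ND Q) {A : OG Q} {b : End F V} (h : Commute A.1.toLinearMap b) :
    Commute A.1.toLinearMap (adj hQ b) := by
  have h1 := congrArg (adj hQ) h.eq
  rw [adj_mul, adj_mul] at h1
  have h2 := adj_mul_self hQ (a := A.1.toLinearMap) A.2
  have h3 := mul_eq_one_comm.1 h2
  show _ * _ = _ * _
  calc _ = A.1.toLinearMap * (adj hQ b * adj hQ A.1.toLinearMap) * A.1.toLinearMap := by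
        rw [mul_assoc, mul_assoc, h2, mul_one]
    _ = _ := by rw [h1, ← mul_assoc, h3, one_mul]

lemma chi_ne_zero {a : F} (h : chi a = -1) : a ≠ 0 := by
  rintro rfl
  exact chi_eq_neg_one_iff.1 h IsSquare.zero

lemma spin_irred [Finite F] (hQ : ND Q) (h2 : (2 : F) ≠ 0) [Nontrivial V] {A : OG Q}
    (hA : ∀ x, A.1 (A.1 x) = x → x = 0)
    (ha : ∀ U : Submodule F V, (∀ x ∈ U, A.1 x ∈ U) → U = ⊥ ∨ U = ⊤) :
    ∃ h : OG Q, h * A = A * h ∧ dickF h = 1 ∧ spinF h = -1 := by
  obtain ⟨p, hp⟩ := exists_det_nonsq h2 A.1.toLinearMap ha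
  set y := aeval A.1.toLinearMap p with hy
  have hyu : IsUnit y := (LinearMap.isUnit_iff_isUnit_det y).2 (chi_ne_zero hp).isUnit
  have c1 : Commute A.1.toLinearMap y := commute_aeval _ rfl p
  have c2 := commute_adj hQ c1
  have c3 : Commute (adj hQ y) y := commute_aeval _ c2.symm p
  obtain ⟨hs, hu⟩ := skew_unit hQ hA
  have hk : IsUnit (adj hQ y - y) := by
    rcases ha (LinearMap.ker (adj hQ y - y)) (fun x hx => by
      have := LinearMap.congr_fun (c2.sub_right c1).eq x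
      rw [LinearMap.mem_ker] at hx ⊢
      simpa only [End.mul_apply, hx, map_zero, LinearEquiv.coe_coe] using this.symm) with h | h
    · exact (LinearMap.isUnit_iff_ker_eq_bot _).2 h
    · have h3 : adj hQ y = y := sub_eq_zero.1 (LinearMap.ker_eq_top.1 h)
      have h4 : Commute (adj hQ A.1.toLinearMap) y := by
        have := congrArg (adj hQ) c1.eq
        rw [adj_mul, adj_mul, h3] at this
        exact this.symm
      have := chi_det_sym hQ h2 hs hu h3 hyu (c1.sub_left h4).eq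
      rw [hp] at this
      exact absurd this (by decide)
  obtain ⟨g, g1, g2, g3⟩ := exists_spin_det hQ h2 hyu c3.symm.eq hk
  exact ⟨g, comm_of_spin_det hQ hyu g1 c1 c2, g2, g3.trans hp⟩

lemma exists_proj_comm {A : End F V} {N : ℕ} (hN : A ^ N = 1) (hNF : (N : F) ≠ 0)
    {W : Submodule F V} (hW : ∀ x ∈ W, A x ∈ W) :
    ∃ e : End F V, Commute A e ∧ (∀ x, e x ∈ W) ∧ ∀ x ∈ W, e x = x := by
  obtain ⟨W', hW'⟩ := W.exists_isCompl
  let π : End F V := W.subtype ∘ₗ W.projectionOnto W' hW'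
  have hWk : ∀ k : ℕ, ∀ x ∈ W, (A ^ k) x ∈ W := fun k x hx => by
    induction k with
    | zero => exact hx
    | succ k ih => rw [pow_succ']; exact hW _ ih
  have hN0 : N ≠ 0 := by rintro rfl; simp at hNF
  obtain ⟨M, rfl⟩ := Nat.exists_eq_succ_of_ne_zero hN0
  let f : ℕ → End F V := fun i => A ^ i * π * A ^ (i * M)
  have hf : ∀ i, A * f i = f (i + 1) * A := fun i => by
    simp only [f]
    rw [mul_assoc _ _ A, ← pow_succ, add_mul, one_mul, add_assoc, pow_add A (i * M), hN, mul_one,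
      pow_succ', mul_assoc, mul_assoc, mul_assoc]
  have hf0 : f (M + 1) = f 0 := by
    simp only [f]
    rw [pow_mul, hN]; simp
  refine ⟨((M + 1 : ℕ) : F)⁻¹ • ∑ i ∈ Finset.range (M + 1), f i, ?_, fun x => ?_, fun x hx => ?_⟩
  · refine Commute.smul_right ?_ _
    show _ * _ = _ * _
    rw [Finset.mul_sum, Finset.sum_mul, Finset.sum_congr rfl fun i _ => hf i,
      Finset.sum_range_succ, hf0, Finset.sum_range_succ']
  · rw [LinearMap.smul_apply, LinearMap.sum_apply]
    exact W.smul_mem _ (W.sum_mem fun i _ => hWk i _ (Subtype.prop _))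
  · rw [LinearMap.smul_apply, LinearMap.sum_apply, Finset.sum_congr rfl (g := fun _ => x)
      fun i _ => ?_, Finset.sum_const, Finset.card_range, ← Nat.cast_smul_eq_nsmul F, smul_smul,
      inv_mul_cancel₀ hNF, one_smul]
    have h1 : π ((A ^ (i * M)) x) = (A ^ (i * M)) x :=
      congrArg Subtype.val (Submodule.projectionOnto_apply_left hW' ⟨_, hWk _ x hx⟩)
    simp only [f, End.mul_apply, h1]
    rw [← End.mul_apply, ← pow_add, show i + i * M = (M + 1) * i by ring, pow_mul, hN]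
    simp

lemma chi_det_of_odd {a : End F V} {N : ℕ} (hN : a ^ N = 1) (ho : Odd N) :
    chi (LinearMap.det a) = 1 := by
  obtain ⟨k, rfl⟩ := ho
  have := congrArg LinearMap.det hN
  rw [map_pow, _root_.map_one] at this
  exact chi_eq_one_iff.2 ⟨LinearMap.det a ^ (k + 1), by
    linear_combination (-LinearMap.det a) * this⟩

lemma spin_isotropic [Finite F] (hQ : ND Q) (h2 : (2 : F) ≠ 0) {A : OG Q} {N : ℕ}
    (hN : A ^ N = 1) (ho : Odd N) (hNF : (N : F) ≠ 0) (hA : ∀ x, A.1 (A.1 x) = x → x = 0)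
    {W : Submodule F V} (hW : ∀ x ∈ W, A.1 x ∈ W) (hW0 : W ≠ ⊥) (hWp : W ≤ perp Q W)
    (ha : ∀ U ≤ W, (∀ x ∈ U, A.1 x ∈ U) → U = ⊥ ∨ U = W) :
    ∃ h : OG Q, h * A = A * h ∧ dickF h = 1 ∧ spinF h = -1 := by
  set a := A.1.toLinearMap with hadef
  have haN : a ^ N = 1 := by rw [hadef, ← OG.coe_pow, hN]; rfl
  have haa : adj hQ a * a = 1 := adj_mul_self hQ A.2
  have hau : IsUnit a := IsUnit.of_mul_eq_one_right _ haa
  obtain ⟨e₀, c0, e1, e2⟩ := exists_proj_comm haN hNF hW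
  have z0 : ∀ x ∈ W, adj hQ e₀ x = 0 := fun x hx => hQ.eq_zero fun y => by
    rw [polar_adj, pcomm]; exact hWp hx _ (e1 y)
  have i0 : e₀ * e₀ = e₀ := LinearMap.ext fun x => e2 _ (e1 x)
  have i1 : adj hQ e₀ * e₀ = 0 := LinearMap.ext fun x => z0 _ (e1 x)
  have i2 : adj hQ e₀ * adj hQ e₀ = adj hQ e₀ := by rw [← adj_mul, i0]
  let e := e₀ - (2 : F)⁻¹ • (e₀ * adj hQ e₀)
  have c1 : Commute a e := c0.sub_right ((c0.mul_right (commute_adj hQ c0)).smul_right _)
  have m1 : ∀ x, e x ∈ W := fun x => W.sub_mem (e1 x) (W.smul_mem _ (e1 _))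
  have m2 : ∀ x ∈ W, e x = x := fun x hx => by simp [e, z0 x hx, e2 x hx]
  have hadj : adj hQ e = adj hQ e₀ - (2 : F)⁻¹ • (e₀ * adj hQ e₀) := by
    simp only [e, map_sub, adj_smul, adj_mul, adj_adj]
  have j0 : e * e = e := LinearMap.ext fun x => m2 _ (m1 x)
  have j1 : adj hQ e * e = 0 := LinearMap.ext fun x => hQ.eq_zero fun y => by
    rw [End.mul_apply, polar_adj]; exact hWp (m1 y) _ (m1 x)
  have j2 : e * adj hQ e = 0 := by
    rw [hadj]
    simp only [e, mul_sub, sub_mul, mul_smul_comm, smul_mul_assoc, mul_assoc, i2]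
    rw [← mul_assoc e₀ e₀, i0, ← mul_assoc (adj hQ e₀), i1, zero_mul, mul_zero, smul_zero,
      sub_zero, sub_sub, ← add_smul, ← two_mul, mul_inv_cancel₀ h2, one_smul, sub_self]
  have : Nontrivial W := Submodule.nontrivial_iff_ne_bot.2 hW0
  obtain ⟨p, hp⟩ := exists_det_nonsq h2 (a.restrict hW) fun U hU => by
    rcases ha (U.map W.subtype) (Submodule.map_subtype_le W U) (by
      rintro _ ⟨x, hx, rfl⟩
      exact ⟨_, hU x hx, rfl⟩) with h | h
    · exact Or.inl (Submodule.map_injective_of_injective W.injective_subtype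
        (by rw [h, Submodule.map_bot]))
    · exact Or.inr (Submodule.map_injective_of_injective W.injective_subtype
        (by rw [h, Submodule.map_subtype_top]))
  set t := aeval a p with ht
  have ct : Commute a t := commute_aeval _ rfl p
  have cet : Commute e t := commute_aeval _ c1.symm p
  have htW : ∀ x ∈ W, t x ∈ W := fun x hx => by
    rw [← m2 x hx, ← End.mul_apply, ← cet.eq]; exact m1 _
  have htr : aeval (a.restrict hW) p = t.restrict htW := by
    refine LinearMap.ext fun x => Subtype.ext ?_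
    rw [LinearMap.coe_restrict_apply, ht]
    clear hp ht htW cet ct t
    induction p using Polynomial.induction_on' with
    | add p q hp hq => simp [hp, hq]
    | monomial n c =>
      simp only [aeval_monomial, ← Algebra.smul_def, LinearMap.smul_apply, Submodule.coe_smul]
      rw [End.pow_restrict, LinearMap.coe_restrict_apply]
  rw [htr] at hp
  let s := 1 + (t - 1) * e
  have hsW : ∀ x ∈ W, s x = t x := fun x hx => by simp [s, m2 x hx]
  have hds : chi (LinearMap.det s) = -1 := by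
    have hsW' : W ≤ W.comap s := fun x hx => by
      rw [Submodule.mem_comap, hsW x hx]; exact htW x hx
    rw [LinearMap.det_eq_det_mul_det W s hsW']
    have e1 : s.restrict hsW' = t.restrict htW :=
      LinearMap.ext fun x => Subtype.ext (hsW x x.2)
    have e2 : W.mapQ W s hsW' = LinearMap.id := by
      refine LinearMap.ext fun x => ?_
      obtain ⟨x, rfl⟩ := W.mkQ_surjective x
      rw [Submodule.mkQ_apply, Submodule.mapQ_apply, LinearMap.id_apply, Submodule.Quotient.eq]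
      simpa [s] using W.sub_mem (htW _ (m1 x)) (m1 x)
    rw [e1, e2, LinearMap.det_id, mul_one, hp]
  have hsu : IsUnit s := (LinearMap.isUnit_iff_isUnit_det s).2 (chi_ne_zero hds).isUnit
  have cs : Commute a s := (Commute.one_right _).add_right ((ct.sub_right
    (Commute.one_right _)).mul_right c1)
  obtain ⟨y, hy⟩ : ∃ y, y = a * s := ⟨_, rfl⟩
  have hyu : IsUnit y := hy ▸ hau.mul hsu
  have hdy : chi (LinearMap.det y) = -1 := by
    rw [hy, _root_.map_mul, chi_mul (det_ne_zero_of_isUnit hau) (det_ne_zero_of_isUnit hsu),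
      chi_det_of_odd haN ho, one_mul, hds]
  have cy : Commute a y := hy ▸ (Commute.refl a).mul_right cs
  have cy' := commute_adj hQ cy
  have ca' : Commute a (adj hQ a) := commute_adj hQ (Commute.refl a)
  have ce' : Commute a (adj hQ e) := commute_adj hQ c1
  have ct' : Commute a (adj hQ t) := commute_adj hQ ct
  have cee : Commute e (adj hQ e) := j2.trans j1.symm
  obtain ⟨n, hn⟩ := exists_inv_pow haa
  have hy' : adj hQ y = (1 + adj hQ e * (adj hQ t - 1)) * adj hQ a := by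
    simp only [hy, s, adj_mul, map_add, map_sub, adj_one]
  have cet' : Commute e (adj hQ t) := by
    rw [ht, adj_aeval, hn]; exact commute_aeval _ (c1.symm.pow_right n) p
  have cey' : Commute e (adj hQ y) := by
    rw [hy', hn]
    exact ((Commute.one_right _).add_right (cee.mul_right
      (cet'.sub_right (Commute.one_right _)))).mul_right (c1.symm.pow_right n)
  have cyy : Commute y (adj hQ y) := by
    nth_rewrite 1 [hy]
    exact cy'.mul_left ((Commute.one_left _).add_left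
      (((commute_aeval _ cy'.symm p).symm.sub_left (Commute.one_left _)).mul_left cey'))
  have cey : Commute e y := hy ▸ c1.symm.mul_right ((Commute.one_right _).add_right
    ((cet.sub_right (Commute.one_right _)).mul_right (Commute.refl e)))
  -- the operator on `W`
  let b := adj hQ a - a * t
  have cb : Commute a b := ca'.sub_right ((Commute.refl a).mul_right ct)
  have ceb : Commute e b := by
    refine Commute.sub_right ?_ (c1.symm.mul_right cet)
    rw [hn]; exact c1.symm.pow_right n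
  have hb : ∀ x ∈ W, b x = 0 → x = 0 := by
    rcases ha (W ⊓ LinearMap.ker b) inf_le_left (fun x hx => ⟨hW x hx.1, by
      have := LinearMap.congr_fun cb.eq x
      rw [End.mul_apply, End.mul_apply, LinearMap.mem_ker.1 hx.2, map_zero] at this
      exact this.symm⟩) with h | h
    · exact fun x hx hx' => (Submodule.mem_bot F).1 (h ▸ ⟨hx, hx'⟩)
    · exfalso
      have h3 : t.restrict htW * (a.restrict hW) ^ 2 = 1 := LinearMap.ext fun x => Subtype.ext (by
        have h4 : adj hQ a (a x) - a (t (a x)) = 0 := (h.ge (hW x x.2)).2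
        rw [← End.mul_apply, haa, ← End.mul_apply a t, ct.eq] at h4
        exact (sub_eq_zero.1 h4).symm)
      have h5 := congrArg LinearMap.det h3
      rw [_root_.map_mul, map_pow, _root_.map_one] at h5
      rw [eq_inv_of_mul_eq_one_left h5, chi_inv, chi_sq] at hp
      exact absurd hp (by decide)
  have hbe : ∀ u, ∃ u', e u = b (e u') := fun u => by
    have hbW : ∀ x ∈ W, b x ∈ W := fun x hx => by
      rw [← m2 x hx, ← End.mul_apply, ← ceb.eq]; exact m1 _
    obtain ⟨w, hw⟩ := LinearMap.injective_iff_surjective.1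
      ((injective_iff_map_eq_zero (b.restrict hbW)).2 fun x hx =>
        Subtype.ext (hb x x.2 (congrArg Subtype.val hx))) ⟨e u, m1 u⟩
    exact ⟨w, by rw [m2 _ w.2]; exact (congrArg Subtype.val hw).symm⟩
  have k1 : e * (adj hQ y - y) = b * e := by
    rw [← ceb.eq, hy']
    simp only [hy, s, b, mul_sub, mul_add, add_mul, mul_one, one_mul, ← mul_assoc, j2, zero_mul,
      add_zero, sub_mul]
    rw [mul_assoc (e * a), ← cet.eq, ← c1.eq]
    simp only [mul_assoc, sub_self, add_zero]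
    rw [j0, ← mul_assoc e e, j0]
    abel
  have k2 : (adj hQ y - y) * adj hQ e = -(adj hQ e * adj hQ b) := by
    have := congrArg (adj hQ) k1
    rw [adj_mul, adj_mul, map_sub, adj_adj] at this
    rw [← this, ← neg_mul, neg_sub]
  have hk : IsUnit (adj hQ y - y) := isUnit_end_iff.2 fun v hv => by
    have v1 : e v = 0 := hb _ (m1 v) (by rw [← End.mul_apply, ← k1, End.mul_apply, hv, map_zero])
    have cye : Commute (adj hQ y - y) (adj hQ e) := by
      have := congrArg (adj hQ) (cey'.sub_right cey).eq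
      rw [adj_mul, adj_mul, map_sub, adj_adj] at this
      have h' : Commute (y - adj hQ y) (adj hQ e) := this
      rw [← neg_sub]; exact h'.neg_left
    have v2 : adj hQ e v = 0 := hQ.eq_zero fun u => by
      obtain ⟨u', hu'⟩ := hbe u
      have h6 : (adj hQ e * adj hQ b) v = 0 := by
        rw [← neg_eq_zero, ← LinearMap.neg_apply, ← k2, cye.eq, End.mul_apply, hv, map_zero]
      rw [polar_adj, hu', ← polar_adj hQ, ← polar_adj hQ, ← End.mul_apply, h6, polar_zero_left]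
    refine isUnit_end_iff.1 (skew_unit hQ hA).2 v ?_
    have v3 : y v = a v := by simp [hy, s, v1]
    have v4 : adj hQ y v = adj hQ a v := by
      have h7 : Commute (adj hQ e) (adj hQ t) := by
        have := congrArg (adj hQ) cet.eq
        rw [adj_mul, adj_mul] at this
        exact this.symm
      have h8 : Commute (adj hQ e) (adj hQ a) := by rw [hn]; exact ce'.symm.pow_right n
      rw [hy', (h7.sub_right (Commute.one_right _)).eq, add_mul, mul_assoc, h8.eq]
      simp [v2]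
    rw [LinearMap.sub_apply, v3, v4] at hv
    rw [LinearMap.sub_apply, ← neg_sub, hv, neg_zero]
  obtain ⟨g, g1, g2, g3⟩ := exists_spin_det hQ h2 hyu cyy.eq hk
  exact ⟨g, comm_of_spin_det hQ hyu g1 cy cy', g2, g3.trans hdy⟩

lemma ODec.spin_homL [Finite F] {V₁ V₂ : Type*} [AddCommGroup V₁] [Module F V₁] [AddCommGroup V₂]
    [Module F V₂] {Q₁ : QuadraticForm F V₁} {Q₂ : QuadraticForm F V₂} (D : ODec Q₁ Q₂ Q)
    (hQ : ND Q) (h2 : (2 : F) ≠ 0) {A₁ : OG Q₁} (A₂ : OG Q₂)
    (h : ∃ h : OG Q₁, h * A₁ = A₁ * h ∧ dickF h = 1 ∧ spinF h = -1) :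
    ∃ h : OG Q, h * D.hom (A₁, A₂) = D.hom (A₁, A₂) * h ∧ dickF h = 1 ∧ spinF h = -1 := by
  obtain ⟨h, h1, h3, h4⟩ := h
  refine ⟨D.homL h, ?_, by rw [D.dickF_homL, h3], by rw [D.spinF_homL hQ (good_of_two_ne h2), h4]⟩
  rw [D.homL_eq, ← _root_.map_mul, ← _root_.map_mul]
  simp [h1]

/-- a semisimple element is centralised by an element of non-trivial spinor norm -/
theorem exists_comm_spin [Finite F] (hQ : ND Q) (h2 : (2 : F) ≠ 0) {A : OG Q} {N : ℕ}
    (hN : A ^ N = 1) (ho : Odd N) (hNF : (N : F) ≠ 0) (hA : A ≠ 1) :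
    ∃ h : OG Q, h * A = A * h ∧ dickF h = 1 ∧ spinF h = -1 := by
  obtain ⟨h, A₁, e, h1, h3, h4⟩ := exists_movDec hQ hN hNF
  have hQ₁ := nd_res_iff.2 h
  have h5 : ∀ x, A₁.1 (A₁.1 x) = x → x = 0 := fun x hx => h4 x (fix_of_sq h3 ho hx)
  have h6 : (⊤ : Submodule F (movS A)) ≠ ⊥ := fun h7 => hA (OG.ext' fun x => by
    have : (⟨_, mem_movS.2 ⟨x, rfl⟩⟩ : movS A) ∈ (⊥ : Submodule F (movS A)) :=
      h7 ▸ Submodule.mem_top
    exact sub_eq_zero.1 (congrArg Subtype.val ((Submodule.mem_bot F).1 this)))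
  have key := (perpDec h).spin_homL hQ h2 (A₁ := A₁) 1 ?_
  · rwa [← ODec.homL_eq, e] at key
  obtain ⟨W, ⟨hW0, hW⟩, hmin⟩ := exists_minimal_of_wellFoundedLT
    (fun W : Submodule F (movS A) => W ≠ ⊥ ∧ ∀ x ∈ W, A₁.1 x ∈ W) ⟨⊤, h6, fun _ _ => trivial⟩
  have ha : ∀ U ≤ W, (∀ x ∈ U, A₁.1 x ∈ U) → U = ⊥ ∨ U = W := fun U hU hU' => by
    by_cases h0 : U = ⊥
    · exact Or.inl h0
    · exact Or.inr (le_antisymm hU (hmin ⟨h0, hU'⟩ hU))
  have hp : ∀ x ∈ perp _ W, A₁.1 x ∈ perp _ W := fun x hx => by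
    rw [← map_eq_self_of_le A₁ hW, perp_map]
    exact ⟨x, hx, rfl⟩
  rcases ha (W ⊓ perp _ W) inf_le_left fun x hx => ⟨hW x hx.1, hp x hx.2⟩ with h0 | h0
  · obtain ⟨B₁, B₂, f, f1, -⟩ := exists_res hQ₁ h0 A₁ hW
    have : Nontrivial W := Submodule.nontrivial_iff_ne_bot.2 hW0
    have key := (perpDec h0).spin_homL hQ₁ h2 (A₁ := B₁) B₂ (spin_irred (nd_res_iff.2 h0) h2
      (fun x hx => Subtype.ext (h5 x (by rw [← f1, ← f1, hx]))) fun U hU => ?_)
    · rwa [f] at key
    rcases ha (U.map W.subtype) (Submodule.map_subtype_le W U) (by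
      rintro _ ⟨x, hx, rfl⟩
      exact ⟨_, hU x hx, f1 x⟩) with h | h
    · exact Or.inl (Submodule.map_injective_of_injective W.injective_subtype
        (by rw [h, Submodule.map_bot]))
    · exact Or.inr (Submodule.map_injective_of_injective W.injective_subtype
        (by rw [h, Submodule.map_subtype_top]))
  · exact spin_isotropic hQ₁ h2 h3 ho hNF h5 hW hW0 (inf_eq_left.1 h0) ha

end CfsgH8
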