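import Cfsg.Agent.H8.Disc

set_option autoImplicit false

namespace CfsgH8

open QuadraticMap Module Matrix

variable {F V : Type*} [Field F] [AddCommGroup V] [Module F V] {Q : QuadraticForm F V}

lemma det_bilin_basis_change {ι κ : Type*} [Fintype ι] [DecidableEq ι] [Fintype κ]
    [DecidableEq κ] (B : LinearMap.BilinForm F V) (b : Basis ι F V) (b' : Basis κ F V) :
    ∃ c : F, c ≠ 0 ∧ (B.toMatrix b').det = c ^ 2 * (B.toMatrix b).det := by
  let e : ι ≃ κ := b.indexEquiv b'
  have h1 : (B.toMatrix (b.reindex e)).det = (B.toMatrix b).det := by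
    rw [← Matrix.det_submatrix_equiv_self e]
    congr 1
    ext i j
    simp [LinearMap.BilinForm.toMatrix_apply]
  have h2 := LinearMap.BilinForm.toMatrix_mul_basis_toMatrix (b.reindex e) b' B
  refine ⟨((b.reindex e).toMatrix b').det, ?_, ?_⟩
  · have : Invertible ((b.reindex e).toMatrix b') := Basis.invertibleToMatrix _ _
    exact (Matrix.isUnit_det_of_invertible _).ne_zero
  · rw [← h1, ← h2, Matrix.det_mul, Matrix.det_mul, Matrix.det_transpose]
    ring

lemma exists_wall (g : OG Q) : ∃ B : LinearMap.BilinForm F (movS g),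
    ∀ (a b : movS g) y, g.1 y - y = a → B a b = -polar Q y b := by
  obtain ⟨s, hs⟩ := (g.1.toLinearMap - LinearMap.id).rangeRestrict.exists_rightInverse_of_surjective
    (LinearMap.range_rangeRestrict _)
  refine ⟨-(polarBilin Q).compl₁₂ s (movS g).subtype, fun a b y hy => ?_⟩
  have h1 : g.1 (s a) - s a = a := congrArg Subtype.val (LinearMap.congr_fun hs a)
  have h2 : s a - y ∈ fixS g := by
    rw [mem_fixS, map_sub]
    linear_combination (norm := module) h1 - hy
  have := polar_mov_fix b.2 h2
  rw [pcomm, polar_sub_left, sub_eq_zero] at this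
  exact congrArg Neg.neg this

/-- the Wall form of an isometry -/
noncomputable def wallB (g : OG Q) : LinearMap.BilinForm F (movS g) := (exists_wall g).choose

lemma wallB_apply {g : OG Q} (a b : movS g) {y : V} (hy : g.1 y - y = a) :
    wallB g a b = -polar Q y b := (exists_wall g).choose_spec a b y hy

variable [FiniteDimensional F V]

/-- the discriminant of the Wall form -/
noncomputable def wall (g : OG Q) : ℤˣ := chi ((wallB g).toMatrix (finBasis F (movS g))).det

lemma wall_eq {g : OG Q} {ι : Type*} [Fintype ι] [DecidableEq ι] (b : Basis ι F (movS g)) :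
    chi ((wallB g).toMatrix b).det = wall g := by
  obtain ⟨c, hc, h⟩ := det_bilin_basis_change (wallB g) (finBasis F (movS g)) b
  rw [h, chi_sq_mul hc, wall]

lemma det_wallB_ne (hQ : ND Q) {g : OG Q} {ι : Type*} [Fintype ι] [DecidableEq ι]
    (b : Basis ι F (movS g)) : ((wallB g).toMatrix b).det ≠ 0 := by
  rw [← LinearMap.BilinForm.nondegenerate_iff_det_ne_zero]
  refine LinearMap.BilinForm.Nondegenerate.ofSeparatingLeft fun a ha => ?_
  obtain ⟨y, hy⟩ := mem_movS.1 a.2
  have : y ∈ fixS g := by
    rw [← perp_movS hQ, mem_perp']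
    intro u hu
    simpa [wallB_apply a ⟨u, hu⟩ hy] using ha ⟨u, hu⟩
  exact Subtype.ext (by rw [← hy, mem_fixS.1 this, sub_self]; rfl)

lemma wall_refl_mul [Finite F] (hQ : ND Q) {g : OG Q} {v : V} (hv : Q v ≠ 0) (hvg : v ∉ movS g) :
    wall (refl Q v * g) = chi (Q v) * wall g := by
  let b := finBasis F (movS g)
  obtain ⟨y₀, h1, h2⟩ : ∃ y, y ∈ fixS g ∧ polar Q v y = -Q v := by
    rw [← perp_fixS hQ, mem_perp] at hvg
    push Not at hvg
    obtain ⟨y, hy, hyv⟩ := hvg
    exact ⟨(-Q v / polar Q y v) • y, Submodule.smul_mem _ _ hy, by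
      rw [polar_sr, pcomm v, div_mul_cancel₀ _ hyv]⟩
  have h3 : (refl Q v * g).1 y₀ - y₀ = v := by
    rw [OG.mul_apply, mem_fixS.1 h1, refl_apply, h2, mul_neg, inv_mul_cancel₀ hv]; simp
  choose y hy using fun i => mem_movS.1 (b i).2
  have h4 : ∀ i, ∃ t : F, (refl Q v * g).1 (y i + t • y₀) - (y i + t • y₀) = b i := fun i =>
    ⟨(Q v)⁻¹ * polar Q v (g.1 (y i)), by
      rw [map_add, map_smul, add_sub_add_comm, ← smul_sub, h3, OG.mul_apply, refl_apply, ← hy]
      abel⟩
  choose t ht using h4
  let x : Fin (finrank F (movS g)) ⊕ Unit → movS (refl Q v * g) :=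
    Sum.elim (fun i => ⟨b i, mem_movS.2 ⟨_, ht i⟩⟩) fun _ => ⟨v, mem_movS.2 ⟨_, h3⟩⟩
  have hx : LinearIndependent F x := by
    refine LinearIndependent.of_comp (movS _).subtype ?_
    have e : (movS _).subtype ∘ x = Sum.elim ((movS g).subtype ∘ b) fun _ => v := by
      ext (i | i) <;> rfl
    rw [e]
    refine (b.linearIndependent.map' _ (movS g).ker_subtype).sum_type
      (linearIndependent_unique_iff.2 fun h => hv (by simp [show v = 0 from h])) ?_
    rw [Set.range_comp, ← Submodule.map_span, b.span_eq, Submodule.map_top,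
      Submodule.range_subtype, Set.range_const]
    exact Submodule.disjoint_span_singleton_of_notMem hvg
  have hc : Fintype.card (Fin (finrank F (movS g)) ⊕ Unit) = finrank F (movS (refl Q v * g)) := by
    have := hx.fintype_card_le_finrank
    have := finrank_movS_refl_mul hQ g hv
    simp only [Fintype.card_sum, Fintype.card_fin, Fintype.card_unique] at *
    omega
  rw [← wall_eq (basisOfLinearIndependentOfCardEqFinrank hx hc), ← wall_eq b,
    ← chi_mul hv (det_wallB_ne hQ b), mul_comm]
  congr 1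
  have h5 : ∀ i, polar Q y₀ (b i) = 0 := fun i => by rw [pcomm, polar_mov_fix (b i).2 h1]
  rw [← Matrix.fromBlocks_toBlocks (LinearMap.BilinForm.toMatrix _ (wallB (refl Q v * g))),
    show toBlocks₂₁ _ = 0 from ?_, Matrix.det_fromBlocks_zero₂₁]
  · congr 1
    · congr 1
      ext i j
      simp [toBlocks₁₁, LinearMap.BilinForm.toMatrix_apply, x, wallB_apply ⟨_, _⟩ _ (ht i), h5,
        wallB_apply _ _ (hy i)]
    · simp [toBlocks₂₂, LinearMap.BilinForm.toMatrix_apply, x, wallB_apply ⟨v, _⟩ _ h3, pcomm y₀,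
        h2]
  · ext i j
    simp [toBlocks₂₁, LinearMap.BilinForm.toMatrix_apply, x, wallB_apply ⟨v, _⟩ _ h3, h5]

theorem wall_eq_spinF [Finite F] (hQ : ND Q) (hG : Good Q) (g : OG Q) : wall g = spinF g := by
  refine refl_induction hQ hG (P := fun g => wall g = spinF g) ?_ (fun v g hv h => ?_) g
  · have : IsEmpty (Fin (finrank F (movS (1 : OG Q)))) := by
      rw [movS_one, finrank_bot]; infer_instance
    simp [wall]
  · rw [spinF_mul hQ hG, spinF_refl hQ hv, ← h]
    by_cases hvg : v ∈ movS g
    · have h1 : v ∉ movS (refl Q v * g) := fun h1 => by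
        have h2 := finrank_fixS_refl_mul_of_mem hv hvg
        have h3 := finrank_fixS_refl_mul_of_mem hv h1
        rw [← mul_assoc, refl_mul_self, one_mul] at h3
        omega
      have := wall_refl_mul hQ hv h1
      rw [← mul_assoc, refl_mul_self, one_mul] at this
      rw [this, ← mul_assoc, Int.units_mul_self, one_mul]
    · exact wall_refl_mul hQ hv hvg

/-- The spinor norm of an isometry without fixed vectors. -/
theorem spinF_eq_det [Finite F] (hQ : ND Q) (hG : Good Q) {g : OG Q}
    (hg : ∀ x, g.1 x = x → x = 0) :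
    spinF g = discC Q * chi (LinearMap.det (1 - g.1.toLinearMap)) := by
  let b := finBasis F V
  have hi : Function.Injective (g.1.toLinearMap - LinearMap.id : V →ₗ[F] V) :=
    (injective_iff_map_eq_zero _).2 fun x hx => hg x (sub_eq_zero.1 hx)
  let b' : Basis _ F (movS g) := b.map (LinearEquiv.ofInjective _ hi)
  have hd : LinearMap.det (1 - g.1.toLinearMap) ≠ 0 := by
    rw [Ne, LinearMap.det_eq_zero_iff_ker_ne_bot, not_not, LinearMap.ker_eq_bot']
    exact fun x hx => hg x (sub_eq_zero.1 hx).symm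
  rw [← wall_eq_spinF hQ hG, ← wall_eq b', ← chi_gram b, ← chi_mul (hQ.det_gram_ne b) hd,
    ← LinearMap.det_toMatrix b, ← Matrix.det_mul, gram_eq_toMatrix,
    LinearMap.BilinForm.toMatrix_mul]
  congr 2
  ext i j
  rw [LinearMap.BilinForm.toMatrix_apply, wallB_apply (y := b i) _ _ rfl,
    LinearMap.BilinForm.toMatrix_apply, Matrix.toLin_toMatrix, ← polar_neg_right]
  exact congrArg (polar Q (b i)) (neg_sub _ _)

end CfsgH8
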